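import Groth.Agent.CohPullLib.ModelFibre
import Groth.Agent.CohPullLib.NbhdExchange
import Groth.Agent.FlatCxLib.Rank
import Groth.Prelude.Def_PerfAux

/-!
# The Euler characteristic of the fibres of a flat proper family is locally constant
-/

set_option linter.style.haveILetI false
set_option backward.isDefEq.respectTransparency false
set_option backward.isDefEq.respectTransparency.types false

universe u

open CategoryTheory CategoryTheory.Limits AlgebraicGeometry

noncomputable section

namespace Groth.Agent.DerBC7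

open Groth.Agent.CohPullLib Groth.Agent.FlatCxLib Groth.Agent.QCoh

variable {A : Type u} [CommRing A] (P : ChainComplex (ModuleCat.{u} A) ℤ)

theorem fibreRank_of_subsingleton (M : Type u) [AddCommGroup M] [Module A M] [Subsingleton M]
    (x : PrimeSpectrum A) : fibreRank M x = 0 := by
  haveI : Subsingleton (TensorProduct A x.asIdeal.ResidueField M) :=
    subsingleton_of_forall_eq 0 fun t => by
      induction t using TensorProduct.induction_on with
      | zero => rfl
      | tmul a m => rw [Subsingleton.elim m 0, TensorProduct.tmul_zero]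
      | add a b ha hb => rw [ha, hb, add_zero]
  exact Module.finrank_zero_of_subsingleton

/-- The partial alternating sums of the fibre dimensions of the cohomology. -/
theorem sum_dRank (hfin : ∀ i, Module.Finite A (P.X i)) (x : PrimeSpectrum A) (n : ℕ) :
    ∑ i ∈ Finset.range n, (-1 : ℤ) ^ i * (CohIII.dRank P (-(i : ℤ)) x : ℤ) =
      (fibreRank (Coker P 1 0) x : ℤ) -
        ∑ i ∈ Finset.range n, (-1 : ℤ) ^ i * (fibreRank (P.X (-(i : ℤ) - 1)) x : ℤ) -
          (-1 : ℤ) ^ n * (fibreRank (Coker P (-(n : ℤ) + 1) (-(n : ℤ))) x : ℤ) := by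
  induction n with
  | zero => simp
  | succ n ih =>
    have h := dRank_add P hfin (show -(n : ℤ) + 1 = -(n : ℤ) + 1 from rfl)
      (show -(n : ℤ) - 1 + 1 = -(n : ℤ) by lia) x
    have e : ∀ a b, a = -(n : ℤ) → b = -(n : ℤ) - 1 →
        fibreRank (Coker P a b) x = fibreRank (Coker P (-(n : ℤ)) (-(n : ℤ) - 1)) x := by
      rintro a b rfl rfl; rfl
    rw [Finset.sum_range_succ, Finset.sum_range_succ, ih,
      e (-((n + 1 : ℕ) : ℤ) + 1) (-((n + 1 : ℕ) : ℤ)) (by push_cast; ring) (by push_cast; ring), pow_succ]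
    have h' : (CohIII.dRank P (-(n : ℤ)) x : ℤ) + (fibreRank (P.X (-(n : ℤ) - 1)) x : ℤ) =
        (fibreRank (Coker P (-(n : ℤ) + 1) (-(n : ℤ))) x : ℤ) +
          (fibreRank (Coker P (-(n : ℤ)) (-(n : ℤ) - 1)) x : ℤ) := by exact_mod_cast h
    linear_combination (-1 : ℤ) ^ n * h'

theorem isLocallyConstant_finsetSum {α ι : Type*} [TopologicalSpace α] (s : Finset ι) (f : ι → α → ℤ)
    (h : ∀ i, IsLocallyConstant (f i)) : IsLocallyConstant fun x => ∑ i ∈ s, f i x := by
  classical
  induction s using Finset.induction_on with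
  | empty =>
    simp only [Finset.sum_empty]
    exact IsLocallyConstant.const (0 : ℤ)
  | insert a t ha ih =>
    simp only [Finset.sum_insert ha]
    exact (h a).add ih

variable {X S : Scheme.{u}} {f : X ⟶ S} {F : X.Modules}

/-- The Euler characteristic of the fibres is locally constant. -/
theorem isLocallyConstant_eulerChar [IsProper f] [LocallyOfFinitePresentation f]
    (hF : Coh.IsQCoh F) (hfp : CohB1.IsFP F) (hfl : FlatMod.IsFlatOver f F) :
    IsLocallyConstant fun s : S => PerfAux.eulerChar f F s := by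
  classical
  refine (IsLocallyConstant.iff_eventually_eq _).2 fun s => ?_
  obtain ⟨V, hV, hsV, -⟩ := exists_isAffineOpen_mem_and_subset (x := s) (U := (⊤ : S.Opens)) trivial
  obtain ⟨Q, hQ⟩ := exists_isModel hF hfp hfl hV
  obtain ⟨c, hc⟩ := hQ.2.2.1
  let N := (-c).toNat + 1
  have hfin := hQ.1
  have hfpQ : ∀ i, Module.FinitePresentation Γ(S, V) (Q.X i) := fun i =>
    haveI := hfin i
    haveI := hQ.2.1 i
    Module.finitePresentation_of_projective _ _
  haveI : Module.Flat Γ(S, V) (Coker Q 1 0) := (preservesEpi_iff hQ.flat (show (0 : ℤ) + 1 = 1 from rfl)).1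
    (isExactT_of_isZero fun M => hQ.2.2.2.1 _ one_pos M).2
  haveI : Module.FinitePresentation Γ(S, V) (Coker Q 1 0) := by
    haveI := hfin 1
    haveI := hfpQ 0
    exact Module.finitePresentation_of_surjective _ (Submodule.mkQ_surjective _)
      (by rw [Submodule.ker_mkQ]; exact LinearMap.range_eq_map (Q.d 1 0).hom ▸ (Module.Finite.fg_top.map _))
  let g : PrimeSpectrum Γ(S, V) → ℤ := fun x =>
    (fibreRank (Coker Q 1 0) x : ℤ) -
      ∑ i ∈ Finset.range N, (-1 : ℤ) ^ i * (fibreRank (Q.X (-(i : ℤ) - 1)) x : ℤ)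
  have hg : IsLocallyConstant g := by
    have h1 : IsLocallyConstant fun x => (fibreRank (A := Γ(S, V)) (Coker Q 1 0) x : ℤ) :=
      (isLocallyConstant_fibreRank _).comp _
    have h2 : IsLocallyConstant fun x : PrimeSpectrum Γ(S, V) =>
        ∑ i ∈ Finset.range N, (-1 : ℤ) ^ i * (fibreRank (Q.X (-(i : ℤ) - 1)) x : ℤ) :=
      isLocallyConstant_finsetSum _ (fun (i : ℕ) x => (-1 : ℤ) ^ i * (fibreRank (Q.X (-(i : ℤ) - 1)) x : ℤ)) fun i =>
        haveI := hfpQ (-(i : ℤ) - 1)
        haveI := hQ.flat (-(i : ℤ) - 1)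
        (isLocallyConstant_fibreRank _).comp fun m => (-1 : ℤ) ^ i * (m : ℤ)
    exact h1.sub h2
  have key : ∀ v : V, PerfAux.eulerChar f F v.1 = g (hV.primeIdealOf v) := fun v => by
    let x := hV.primeIdealOf v
    have hb : ∀ i, PerfAux.betti f F v.1 i = CohIII.dRank Q (-(i : ℤ)) x := fun i =>
      hQ.fiberRank_eq hF i v.2
    have hlow : ∀ i : ℤ, i < c → Subsingleton (Q.X i) := fun i hi => ModuleCat.subsingleton_of_isZero (hc i hi)
    have hCok : ∀ a b : ℤ, b < c → fibreRank (Coker Q a b) x = 0 := fun a b hb' => by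
      haveI := hlow b hb'
      exact fibreRank_of_subsingleton _ x
    have hz : ∀ i : ℕ, N ≤ i → PerfAux.betti f F v.1 i = 0 := fun i hi => by
      rw [hb]
      have h := dRank_add Q hfin (show -(i : ℤ) + 1 = -(i : ℤ) + 1 from rfl)
        (show -(i : ℤ) - 1 + 1 = -(i : ℤ) by lia) x
      rw [hCok _ _ (show -(i : ℤ) < c by omega), hCok _ _ (show -(i : ℤ) - 1 < c by omega)] at h
      omega
    rw [PerfAux.eulerChar, finsum_eq_finsetSum_of_support_subset _ (s := Finset.range N) fun i hi => by
      simp only [Function.mem_support, ne_eq] at hi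
      simp only [Finset.coe_range, Set.mem_Iio]
      by_contra hlt
      exact hi (by rw [hz i (not_lt.mp hlt), Nat.cast_zero, mul_zero])]
    simp only [hb]
    rw [sum_dRank Q hfin x N, hCok _ _ (show -(N : ℤ) < c by omega)]
    simp [g, x]
  have hev := (IsLocallyConstant.iff_eventually_eq g).1 hg (hV.primeIdealOf ⟨s, hsV⟩)
  have hev' : ∀ᶠ v : V in nhds ⟨s, hsV⟩, g (hV.primeIdealOf v) = g (hV.primeIdealOf ⟨s, hsV⟩) :=
    (hV.isoSpec.hom.continuous.tendsto ⟨s, hsV⟩).eventually hev
  have hpt : nhds s = Filter.map Subtype.val (nhds (⟨s, hsV⟩ : V)) :=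
    (V.2.isOpenEmbedding_subtypeVal.map_nhds_eq ⟨s, hsV⟩).symm
  rw [hpt, Filter.eventually_map]
  exact hev'.mono fun v hv => by rw [key v, key ⟨s, hsV⟩, hv]

end Groth.Agent.DerBC7
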