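import Mathlib.CategoryTheory.Triangulated.Pretriangulated
import Mathlib.CategoryTheory.Abelian.DiagramLemmas.Four
import Mathlib.Algebra.Homology.ExactSequence

/-!
# A five lemma for natural transformations of functors exact on triangles
-/

universe v₁ v₂ u₁ u₂

open CategoryTheory CategoryTheory.Limits CategoryTheory.Pretriangulated

noncomputable section

namespace Groth.Agent.DerBC7

variable {D : Type u₁} [Category.{v₁} D] [HasZeroObject D] [HasShift D ℤ] [Preadditive D]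
  [∀ n : ℤ, (shiftFunctor D n).Additive] [Pretriangulated D]
  {A : Type u₂} [Category.{v₂} A] [Abelian A]

/-- A functor which is exact in the middle of distinguished triangles. -/
def TriExact (F : D ⥤ A) : Prop :=
  ∀ T ∈ distTriang D, ∃ w : F.map T.mor₁ ≫ F.map T.mor₂ = 0,
    (ShortComplex.mk (F.map T.mor₁) (F.map T.mor₂) w).Exact

theorem TriExact.of_iso {F G : D ⥤ A} (e : F ≅ G) (h : TriExact F) : TriExact G := fun T hT => by
  obtain ⟨w, hw⟩ := h T hT
  have w' : G.map T.mor₁ ≫ G.map T.mor₂ = 0 := by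
    rw [← cancel_epi (e.hom.app T.obj₁), ← Category.assoc, ← e.hom.naturality, Category.assoc,
      ← e.hom.naturality, ← Category.assoc, w, zero_comp, comp_zero]
  exact ⟨w', ShortComplex.exact_of_iso
    (ShortComplex.isoMk (e.app _) (e.app _) (e.app _) (e.hom.naturality _).symm
      (e.hom.naturality _).symm) hw⟩

theorem isIso_of_isZero {X Y : A} (f : X ⟶ Y) (hX : IsZero X) (hY : IsZero Y) : IsIso f :=
  ⟨0, hX.eq_of_src _ _, hY.eq_of_src _ _⟩

/-- The five lemma along a distinguished triangle. -/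
theorem isIso_app_obj₂ {F G : D ⥤ A} (hF : TriExact F) (hG : TriExact G) (θ : F ⟶ G)
    {T : Triangle D} (hT : T ∈ distTriang D) (h₁ : IsIso (θ.app T.obj₁)) (h₃ : IsIso (θ.app T.obj₃))
    (h₀ : IsIso (θ.app (T.obj₃⟦(-1 : ℤ)⟧))) (h₄ : IsIso (θ.app (T.obj₁⟦(1 : ℤ)⟧))) :
    IsIso (θ.app T.obj₂) := by
  have hi := inv_rot_of_distTriang T hT
  have hr := rot_of_distTriang T hT
  have ex : ∀ {H : D ⥤ A}, TriExact H → (ComposableArrows.mk₄ (H.map T.invRotate.mor₁) (H.map T.mor₁)
      (H.map T.mor₂) (H.map T.mor₃)).Exact := fun {H} hH => by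
    obtain ⟨w₀, e₀⟩ := hH _ hi
    obtain ⟨w₁, e₁⟩ := hH _ hT
    obtain ⟨w₂, e₂⟩ := hH _ hr
    exact ComposableArrows.exact_of_δ₀ (ComposableArrows.exact₂_mk _ w₀ e₀)
      (ComposableArrows.exact_of_δ₀ (ComposableArrows.exact₂_mk _ w₁ e₁)
        (ComposableArrows.exact₂_mk _ w₂ e₂))
  let φ : ComposableArrows.mk₄ (F.map T.invRotate.mor₁) (F.map T.mor₁) (F.map T.mor₂) (F.map T.mor₃) ⟶
      ComposableArrows.mk₄ (G.map T.invRotate.mor₁) (G.map T.mor₁) (G.map T.mor₂) (G.map T.mor₃) :=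
    ComposableArrows.homMk₄ (θ.app _) (θ.app _) (θ.app _) (θ.app _) (θ.app _)
      (θ.naturality _) (θ.naturality _) (θ.naturality _) (θ.naturality _)
  exact Abelian.isIso_of_epi_of_isIso_of_isIso_of_mono (φ := φ) (ex hF) (ex hG)
    (show Epi (θ.app _) from @IsIso.epi_of_iso _ _ _ _ _ h₀) h₁ h₃
    (show Mono (θ.app _) from @IsIso.mono_of_iso _ _ _ _ _ h₄)

end Groth.Agent.DerBC7
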