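import Groth.Agent.DerBC7.Derived
import Groth.Agent.DerBC7.TriExact
import Groth.Agent.QCoh.Pullback

/-!
# Inverse image along a flat morphism in the derived category
-/

set_option linter.style.haveILetI false
set_option backward.isDefEq.respectTransparency false

universe u

open CategoryTheory CategoryTheory.Limits AlgebraicGeometry Pretriangulated

attribute [local instance] HasDerivedCategory.standard

noncomputable section

namespace Groth.Agent.DerBC7

open Groth.Agent.KFlatLib

variable {X Y : Scheme.{u}} (g : X ⟶ Y) [DCoh.HasLpull g]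
  [PreservesFiniteLimits (Scheme.Modules.pullback g)]

/-- For an exact inverse image `Lg^*` is computed by every complex. -/
theorem isIso_αK (K : CochainComplex Y.Modules ℤ) :
    IsIso ((αK g).app ((HomotopyCategory.quotient Y.Modules (ComplexShape.up ℤ)).obj K)) := by
  let q := HomotopyCategory.quotient Y.Modules (ComplexShape.up ℤ)
  let ψ := (flatCover Y).ψ.app K
  haveI hψ : QuasiIso ψ := (flatCover Y).quasiIso_ψ K
  haveI : IsIso ((αK g).app (q.obj ((kRes Y).obj K))) := isIso_Lpull_counit g (isKFlat_kRes K)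
  have h₀ : IsIso (DerivedCategory.Q.map
      (((Scheme.Modules.pullback g).mapHomologicalComplex (ComplexShape.up ℤ)).map ψ)) :=
    inferInstance
  haveI : IsIso (((Scheme.Modules.pullback g).mapHomotopyCategory (ComplexShape.up ℤ) ⋙
      DerivedCategory.Qh).map (q.map ψ)) :=
    (NatIso.isIso_map_iff (quotientMapIso (Scheme.Modules.pullback g)) ψ).2 h₀
  haveI : IsIso (DerivedCategory.Qh.map (q.map ψ)) :=
    (NatIso.isIso_map_iff (DerivedCategory.quotientCompQhIso Y.Modules) ψ).2 inferInstance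
  haveI : IsIso ((DerivedCategory.Qh ⋙ DCoh.Lpull g).map (q.map ψ)) :=
    inferInstanceAs (IsIso ((DCoh.Lpull g).map (DerivedCategory.Qh.map (q.map ψ))))
  have w := (αK g).naturality (q.map ψ)
  have h : IsIso ((DerivedCategory.Qh ⋙ DCoh.Lpull g).map (q.map ψ) ≫ (αK g).app (q.obj K)) :=
    (congrArg (fun t => IsIso t) w).mpr (IsIso.comp_isIso' ‹IsIso ((αK g).app (q.obj ((kRes Y).obj K)))› ‹_›)
  exact IsIso.of_isIso_comp_left ((DerivedCategory.Qh ⋙ DCoh.Lpull g).map (q.map ψ)) _

/-- `Lg^*` is the functor induced by the exact functor `g^*`. -/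
theorem nonempty_lpull_iso_map :
    Nonempty (DCoh.Lpull g ≅ (Scheme.Modules.pullback g).mapDerivedCategory) := by
  haveI : IsIso (αK g) := by
    haveI : ∀ K, IsIso ((αK g).app K) := fun K => by
      obtain ⟨K, rfl⟩ := HomotopyCategory.quotient_obj_surjective K
      exact isIso_αK g K
    exact NatIso.isIso_of_isIso_app _
  exact ⟨Localization.liftNatIso DerivedCategory.Qh
    (HomotopyCategory.quasiIso Y.Modules (ComplexShape.up ℤ)) _ _ _ _
    (asIso (αK g) ≪≫ (Scheme.Modules.pullback g).mapDerivedCategoryFactorsh.symm)⟩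

/-- Cohomology commutes with an exact inverse image. -/
theorem nonempty_hd_lpull_iso (K : DCoh.D Y) (i : ℤ) :
    Nonempty (DCoh.HD ((DCoh.Lpull g).obj K) i ≅ (Scheme.Modules.pullback g).obj (DCoh.HD K i)) := by
  obtain ⟨e⟩ := nonempty_lpull_iso_map g
  let C := DerivedCategory.Q.objPreimage K
  let eC : DerivedCategory.Q.obj C ≅ K := DerivedCategory.Q.objObjPreimageIso K
  let G := Scheme.Modules.pullback g
  exact ⟨(DerivedCategory.homologyFunctor X.Modules i).mapIso
      (e.app K ≪≫ G.mapDerivedCategory.mapIso eC.symm ≪≫ G.mapDerivedCategoryFactors.app C) ≪≫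
    (DerivedCategory.homologyFunctorFactors X.Modules i).app _ ≪≫
    (C.sc i).mapHomologyIso G ≪≫
    G.mapIso (((DerivedCategory.homologyFunctorFactors Y.Modules i).app C).symm ≪≫
      (DerivedCategory.homologyFunctor Y.Modules i).mapIso eC)⟩

theorem isZero_hd_lpull (K : DCoh.D Y) (i : ℤ) (h : IsZero (DCoh.HD K i)) :
    IsZero (DCoh.HD ((DCoh.Lpull g).obj K) i) :=
  ((Scheme.Modules.pullback g).map_isZero h).of_iso (nonempty_hd_lpull_iso g K i).some

theorem isGE_lpull (K : DCoh.D Y) (n : ℤ) [K.IsGE n] : ((DCoh.Lpull g).obj K).IsGE n := by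
  rw [DerivedCategory.isGE_iff]
  exact fun i hi => isZero_hd_lpull g K i (DerivedCategory.isZero_of_isGE K n i hi)

theorem isLE_lpull' (K : DCoh.D Y) (n : ℤ) [K.IsLE n] : ((DCoh.Lpull g).obj K).IsLE n := by
  rw [DerivedCategory.isLE_iff]
  exact fun i hi => isZero_hd_lpull g K i (DerivedCategory.isZero_of_isLE K n i hi)

theorem isQCohD_lpull {K : DCoh.D Y} (hK : DCoh.IsQCohD K) :
    DCoh.IsQCohD ((DCoh.Lpull g).obj K) := fun i =>
  isQCoh_of_iso (nonempty_hd_lpull_iso g K i).some.symm (QCoh.isQCoh_pullback g (hK i))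

/-- `Lg^*` sends distinguished triangles to distinguished triangles. -/
theorem exists_lpull_triangle (T : Triangle (DCoh.D Y)) (hT : T ∈ distTriang (DCoh.D Y)) :
    ∃ c : (DCoh.Lpull g).obj T.obj₃ ⟶ ((DCoh.Lpull g).obj T.obj₁)⟦(1 : ℤ)⟧,
      Triangle.mk ((DCoh.Lpull g).map T.mor₁) ((DCoh.Lpull g).map T.mor₂) c ∈
        distTriang (DCoh.D X) := by
  obtain ⟨e⟩ := nonempty_lpull_iso_map g
  let G := (Scheme.Modules.pullback g).mapDerivedCategory
  have h := G.map_distinguished T hT
  refine ⟨e.hom.app T.obj₃ ≫ (G.mapTriangle.obj T).mor₃ ≫ (e.inv.app T.obj₁)⟦(1 : ℤ)⟧',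
    isomorphic_distinguished _ h _ ?_⟩
  refine Triangle.isoMk _ _ (e.app _) (e.app _) (e.app _) ?_ ?_ ?_
  · exact e.hom.naturality T.mor₁
  · exact e.hom.naturality T.mor₂
  · change (e.hom.app T.obj₃ ≫ (G.mapTriangle.obj T).mor₃ ≫
        (e.inv.app T.obj₁)⟦(1 : ℤ)⟧') ≫ (e.hom.app T.obj₁)⟦(1 : ℤ)⟧' = e.hom.app T.obj₃ ≫ _
    simp only [Category.assoc]
    refine congrArg (e.hom.app T.obj₃ ≫ ·) ?_
    erw [← Functor.map_comp, Iso.inv_hom_id_app, CategoryTheory.Functor.map_id, Category.comp_id]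

end Groth.Agent.DerBC7
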