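import Groth.Agent.DerBC7.WayOut
import Groth.Agent.FlatBC6.Main
import Groth.Agent.HensSch7.Flat

/-!
# Flat base change for derived direct images
-/

set_option linter.style.haveILetI false
set_option backward.isDefEq.respectTransparency false

universe u

open CategoryTheory CategoryTheory.Limits AlgebraicGeometry

attribute [local instance] HasDerivedCategory.standard

noncomputable section

namespace Groth.Agent.DerBC7

variable {X S X' S' : Scheme.{u}} {f : X ⟶ S} {g : S' ⟶ S} {f' : X' ⟶ S'} {g' : X' ⟶ X}
  [DCoh.HasRpush f] [DCoh.HasRpush g] [DCoh.HasLpull g] [DCoh.HasRpush f'] [DCoh.HasRpush g']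
  [DCoh.HasLpull g']

/-- For flat base change the base change map is an isomorphism on `D_qc`, for some identification of
the two composite derived direct images. -/
theorem exists_flat_baseChange_iso (h : IsPullback g' f' f g) [QuasiCompact f] [QuasiSeparated f]
    [Flat g] (adjg : DCoh.Lpull g ⊣ DCoh.Rpush g) (adjg' : DCoh.Lpull g' ⊣ DCoh.Rpush g') :
    ∃ e : DCoh.Rpush g' ⋙ DCoh.Rpush f ≅ DCoh.Rpush f' ⋙ DCoh.Rpush g,
      ∀ E : DCoh.D X, DCoh.IsQCohD E → IsIso (DCoh.baseChangeApp adjg adjg' e E) := by
  haveI : AlgebraicGeometry.Flat g' := MorphismProperty.of_isPullback h.flip inferInstance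
  haveI : QuasiCompact f' := MorphismProperty.of_isPullback h inferInstance
  haveI : QuasiSeparated f' := MorphismProperty.of_isPullback h inferInstance
  haveI : PreservesFiniteLimits (Scheme.Modules.pullback g') :=
    Groth.Agent.HensSch7.preservesFiniteLimits_pullMod g'.toLRSHom (fun x => Flat.stalkMap g' x)
  haveI : PreservesFiniteLimits (Scheme.Modules.pullback g) :=
    Groth.Agent.HensSch7.preservesFiniteLimits_pullMod g.toLRSHom (fun x => Flat.stalkMap g x)
  obtain ⟨e, he⟩ := exists_bcNat h.w (f := f) (f' := f') adjg adjg'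
  refine ⟨e, fun E hE => ?_⟩
  exact isIso_of_bounded (bcNat adjg adjg' e) (fun a M hM =>
    isIso_single he a M fun k => FlatBC6.isIso_bcQ_flat h hM k) E hE

end Groth.Agent.DerBC7
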