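import Groth.Agent.H23.SecUniv
import Groth.Agent.LimSm.Model
import Groth.Agent.LimSm.Flat
import Groth.Agent.MorLib.ProperFT

/-!
# `O = f_* O` for flat proper morphisms of finite presentation with constant functions on fibres
-/

set_option linter.style.haveILetI false
set_option backward.isDefEq.respectTransparency false
set_option backward.isDefEq.respectTransparency.types false
set_option maxHeartbeats 1000000

universe u

open CategoryTheory CategoryTheory.Limits AlgebraicGeometry TopologicalSpace Opposite TensorProduct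

noncomputable section

namespace Groth.Agent.DerBC7

open Groth.Agent Groth.Agent.H23 Groth.Agent.H23.Seesaw

/-- A finite module has a nonzero form to a residue field exactly on its support. -/
theorem exists_form_ne_zero_iff {A : Type u} [CommRing A] (Q : Type u) [AddCommGroup Q] [Module A Q] [Module.Finite A Q] (x : PrimeSpectrum A) :
    (∃ g : Q →ₗ[A] x.asIdeal.ResidueField, g ≠ 0) ↔ x ∈ Module.support A Q := by
  have hsup : x ∈ Module.support A Q ↔ FlatCxLib.fibreRank Q x ≠ 0 := by
    rw [FlatCxLib.fibreRank, Module.mem_support_iff_nontrivial_residueField_tensorProduct]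
    exact Module.finrank_pos_iff.symm.trans pos_iff_ne_zero
  rw [hsup]
  let k := x.asIdeal.ResidueField
  have h : Module.finrank k (Q →ₗ[A] k) = FlatCxLib.fibreRank Q x := by
    rw [(SeesawMod.dualEquiv k).finrank_eq, Subspace.dual_finrank_eq]
    rfl
  rw [← h]
  haveI : Module.Finite k (Q →ₗ[A] k) := Module.Finite.equiv (SeesawMod.dualEquiv (Q := Q) k).symm
  constructor
  · rintro ⟨g, hg⟩ h'
    haveI := Module.finrank_zero_iff.1 h'
    exact hg (Subsingleton.elim _ _)
  · intro h'
    by_contra H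
    push Not at H
    haveI : Subsingleton (Q →ₗ[A] k) := ⟨fun a b => (H a).trans (H b).symm⟩
    exact h' Module.finrank_zero_of_subsingleton

/-- A base change of a flat proper scheme over a Noetherian ring has constant functions if its fibres do. -/
theorem bijective_toGlobal_of_points {A : Type u} [CommRing A] [IsNoetherianRing A] {X : Scheme.{u}}
    [X.Over (Spec (CommRingCat.of A))] [IsProper (X ↘ Spec (CommRingCat.of A))]
    [Flat (X ↘ Spec (CommRingCat.of A))] (B : Type u) [CommRing B] [Algebra A B] {X' : Scheme.{u}}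
    (φ : X' ⟶ X) (pB : X' ⟶ Spec (CommRingCat.of B))
    (hsq : IsPullback φ pB (X ↘ Spec (CommRingCat.of A)) (Spec.map (CommRingCat.ofHom (algebraMap A B))))
    (h : ∀ p : PrimeSpectrum B,
      Function.Bijective (pullback.snd pB (Seesaw.specAlg B p.asIdeal.ResidueField)).appTop) :
    Function.Bijective (Coh.toGlobal pB) := by
  classical
  let F := Coh.structureModule X
  haveI : IsLocallyNoetherian X := LocallyOfFiniteType.isLocallyNoetherian (X ↘ Spec (CommRingCat.of A))
  obtain ⟨Q, hQf, e, hQ⟩ := SecRep.exists_rep (A := A) F QCoh.isCoh_structureModule'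
    (Seesaw.isFlatOver_of_isInvertible _ InvX.isInvertible_structureModule)
  haveI := hQf
  let one : Γ(F, ⊤) := (1 : Γ(X, ⊤))
  let u : Q →ₗ[A] A := e.symm one
  have key : ∀ (C : Type u) [CommRing C] [Algebra A C] (X₁ : Scheme.{u}) (φ₁ : X₁ ⟶ X)
      (p₁ : X₁ ⟶ Spec (CommRingCat.of C)),
      IsPullback φ₁ p₁ (X ↘ Spec (CommRingCat.of A)) (Spec.map (CommRingCat.ofHom (algebraMap A C))) →
      (Function.Bijective (fun c : C => LinearMap.mulLeft A c ∘ₗ (Algebra.linearMap A C ∘ₗ u)) ↔
        Function.Bijective (Coh.toGlobal p₁)) := by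
    intro C _ _ X₁ φ₁ p₁ hs
    obtain ⟨eB, h1, h2⟩ := hQ C X₁ φ₁ p₁ hs
    have hfr : InvX.IsFrame (InvX.pullElt φ₁ one) := InvX.isFrame_pullElt φ₁ (InvX.isFrame_one ⊤)
    have heq : (fun b : C => eB (LinearMap.mulLeft A b ∘ₗ (Algebra.linearMap A C ∘ₗ u))) =
        (fun r : Γ(X₁, φ₁ ⁻¹ᵁ ⊤) => r • InvX.pullElt φ₁ one) ∘ fun b => Coh.toGlobal p₁ b := by
      funext b
      rw [h1, h2, show e u = one from e.apply_symm_apply one]
      rfl
    have hb : Function.Bijective (fun r : Γ(X₁, φ₁ ⁻¹ᵁ ⊤) => r • InvX.pullElt φ₁ one) := by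
      refine (congrArg Function.Bijective (funext fun r => ?_)).mp (hfr _ le_rfl)
      show r • AModX.res _ _ _ = _
      rw [AModX.res_self]
    rw [← Function.Bijective.of_comp_iff' eB.bijective, show (eB ∘ fun b : C => _) = _ from heq,
      Function.Bijective.of_comp_iff' hb]
  refine (key B X' φ pB hsq).mp ?_
  have hκ : ∀ p : PrimeSpectrum B, Function.Bijective (fun c : p.asIdeal.ResidueField =>
      LinearMap.mulLeft A c ∘ₗ (Algebra.linearMap A p.asIdeal.ResidueField ∘ₗ u)) := fun p => by
    let σ := Seesaw.specAlg B p.asIdeal.ResidueField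
    refine (key _ _ (pullback.fst pB σ ≫ φ) (pullback.snd pB σ) ?_).mpr (Seesaw.toGlobal_bijective _ (h p))
    have hσ : σ ≫ Spec.map (CommRingCat.ofHom (algebraMap A B)) =
        Spec.map (CommRingCat.ofHom (algebraMap A p.asIdeal.ResidueField)) := by
      rw [← Spec.map_comp]
      exact congrArg Spec.map (CommRingCat.hom_ext (IsScalarTower.algebraMap_eq A B _).symm)
    rw [← hσ]
    exact (IsPullback.of_hasPullback pB σ).paste_horiz hsq
  let v : Q →ₗ[A] B := Algebra.linearMap A B ∘ₗ u
  let U : B ⊗[A] Q →ₗ[B] B := v.liftBaseChange B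
  have hU : ∀ q : Q, U (1 ⊗ₜ[A] q) = algebraMap A B (u q) := fun q => by simp [U, v]
  have hUs : Function.Surjective U := by
    rw [← LinearMap.range_eq_top]
    by_contra hne
    obtain ⟨m, hm, hle⟩ := Ideal.exists_le_maximal (LinearMap.range U) hne
    let p : PrimeSpectrum B := ⟨m, hm.isPrime⟩
    refine one_ne_zero ((hκ p).1 (a₁ := 1) (a₂ := 0) ?_)
    refine LinearMap.ext fun q => ?_
    show (1 : p.asIdeal.ResidueField) * algebraMap A _ (u q) = 0 * algebraMap A _ (u q)
    have h0 : algebraMap B p.asIdeal.ResidueField (algebraMap A B (u q)) = 0 :=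
      Ideal.algebraMap_residueField_eq_zero.mpr (hle ⟨1 ⊗ₜ q, hU q⟩)
    rw [IsScalarTower.algebraMap_apply A B p.asIdeal.ResidueField, h0, mul_zero, mul_zero]
  obtain ⟨t, ht⟩ := hUs 1
  let N := LinearMap.ker U
  let pr : B ⊗[A] Q →ₗ[B] N := LinearMap.codRestrict N (LinearMap.id - U.smulRight t) fun q => by
    simp [N, ht]
  have hprn : ∀ n : N, pr n.1 = n := fun n =>
    Subtype.ext (by simp [pr, show U n.1 = 0 from n.2])
  haveI : Module.Finite B N := Module.Finite.of_surjective pr fun n => ⟨n.1, hprn n⟩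
  haveI : Subsingleton N := by
    refine (Module.support_eq_empty_iff (R := B)).mp (Set.eq_empty_iff_forall_notMem.mpr fun p hp => ?_)
    obtain ⟨g, hg⟩ := (exists_form_ne_zero_iff N p).mpr hp
    let G : B ⊗[A] Q →ₗ[B] p.asIdeal.ResidueField := g ∘ₗ pr
    obtain ⟨c, hc⟩ := (hκ p).2 ((G.restrictScalars A) ∘ₗ (TensorProduct.mk A B Q 1))
    have hG : G = c • (Algebra.linearMap B p.asIdeal.ResidueField ∘ₗ U) := by
      refine TensorProduct.AlgebraTensorModule.ext fun b q => ?_
      have h1 : c * algebraMap A p.asIdeal.ResidueField (u q) = G (1 ⊗ₜ q) := LinearMap.congr_fun hc q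
      rw [show b ⊗ₜ[A] q = b • ((1 : B) ⊗ₜ[A] q) by rw [TensorProduct.smul_tmul', smul_eq_mul, mul_one],
        map_smul, map_smul, LinearMap.smul_apply]
      refine congrArg (fun z => b • z) ?_
      show G (1 ⊗ₜ q) = c * algebraMap B p.asIdeal.ResidueField (U (1 ⊗ₜ q))
      rw [hU, ← IsScalarTower.algebraMap_apply, h1]
    have hpr : pr t = 0 := Subtype.ext (by simp [pr, ht])
    have hc0 : c = 0 := by
      have := LinearMap.congr_fun hG t
      simpa [G, hpr, ht] using this.symm
    refine hg (LinearMap.ext fun n => ?_)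
    have := LinearMap.congr_fun hG n.1
    simpa [G, hprn, hc0] using this
  have hker : ∀ x, U x = 0 → x = 0 := fun x hx =>
    congrArg Subtype.val (Subsingleton.elim (⟨x, hx⟩ : N) 0)
  refine ⟨fun b b' hb => ?_, fun f => ⟨f.liftBaseChange B t, LinearMap.ext fun q => ?_⟩⟩
  · have h1 : b • U = b' • U := by
      refine TensorProduct.AlgebraTensorModule.ext fun c q => ?_
      have h2 : b * algebraMap A B (u q) = b' * algebraMap A B (u q) := LinearMap.congr_fun hb q
      rw [show c ⊗ₜ[A] q = c • ((1 : B) ⊗ₜ[A] q) by rw [TensorProduct.smul_tmul', smul_eq_mul, mul_one],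
        map_smul, map_smul, LinearMap.smul_apply, LinearMap.smul_apply, hU, smul_eq_mul, smul_eq_mul,
        smul_eq_mul, smul_eq_mul, h2]
    simpa [ht] using LinearMap.congr_fun h1 t
  · let W := f.liftBaseChange B
    have hx : (1 : B) ⊗ₜ[A] q = U (1 ⊗ₜ q) • t :=
      sub_eq_zero.mp (hker _ (by rw [map_sub, map_smul, ht, smul_eq_mul, mul_one, sub_self]))
    have hf : W (1 ⊗ₜ q) = f q := by simp [W]
    show W t * algebraMap A B (u q) = f q
    rw [← hf]
    conv_rhs => rw [hx, map_smul, hU, smul_eq_mul]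
    exact mul_comm _ _

/-- `O_S = f_* O_X` on affine opens. -/
theorem bijective_app_of_h0 {X S : Scheme.{u}} (f : X ⟶ S) [IsProper f] [Flat f]
    [LocallyOfFinitePresentation f] (h : ∀ s : S, IsIso (f.fiberToSpecResidueField s).appTop)
    {W : S.Opens} (hW : IsAffineOpen W) : Function.Bijective (f.app W) := by
  let A := Γ(S, W)
  let j := hW.fromSpec
  let π : pullback f j ⟶ Spec (CommRingCat.of A) := pullback.snd f j
  haveI : IsProper π := inferInstanceAs (IsProper (pullback.snd f j))
  haveI : Flat π := inferInstanceAs (Flat (pullback.snd f j))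
  haveI : LocallyOfFinitePresentation π :=
    inferInstanceAs (LocallyOfFinitePresentation (pullback.snd f j))
  obtain ⟨A₀, hA₀, X₀, f₀, g₀, hprop, hflat, hlfp, -, -, hsq⟩ :=
    LimSm.exists_model_over_fg (P := @IsProper) (P' := @Flat) (Q := @LocallyOfFiniteType)
      (Q' := @LocallyOfFinitePresentation) MorLib.Ultra.core_isProper LimSm.core_flat
      (fun f _ => inferInstance) (fun f h => h) A π ‹_› ‹_›
  haveI := hlfp
  haveI : IsNoetherianRing ↥A₀ :=
    haveI : Algebra.FiniteType ℤ ↥A₀ := (Subalgebra.fg_iff_finiteType A₀).1 hA₀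
    Algebra.FiniteType.isNoetherianRing ℤ ↥A₀
  letI : X₀.Over (Spec (CommRingCat.of ↥A₀)) := ⟨f₀⟩
  haveI : IsProper (X₀ ↘ Spec (CommRingCat.of ↥A₀)) := hprop
  haveI : Flat (X₀ ↘ Spec (CommRingCat.of ↥A₀)) := hflat
  have hfib : ∀ p : PrimeSpectrum A,
      Function.Bijective (pullback.snd π (Seesaw.specAlg A p.asIdeal.ResidueField)).appTop := fun p => by
    have hs : Function.Bijective (pullback.snd f (S.fromSpecResidueField (j p))).appTop :=
      haveI := h (j p)
      ConcreteCategory.bijective_of_isIso (f.fiberToSpecResidueField (j p)).appTop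
    exact SeesawGlobal.fibreH0_chart f A j (SecUniv.fieldH0_of_residueField f _ hs)
  have h0 := bijective_toGlobal_of_points (A := ↥A₀) (X := X₀) A g₀ π hsq hfib
  have h3 : Function.Bijective π.appTop :=
    (Function.Bijective.of_comp_iff _
      (ConcreteCategory.bijective_of_isIso (Scheme.ΓSpecIso (CommRingCat.of A)).inv)).mp h0
  have hWr : W ≤ j.opensRange := hW.opensRange_fromSpec.ge
  haveI : IsIso (j.app W) := j.isIso_app W hWr
  haveI : IsIso ((pullback.fst f j).app (f ⁻¹ᵁ W)) := by
    refine (pullback.fst f j).isIso_app _ fun z hz => ?_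
    obtain ⟨w, hw⟩ := hWr hz
    obtain ⟨q, hq, -⟩ := Scheme.Pullback.exists_preimage_pullback (f := f) (g := j) z w hw.symm
    exact ⟨q, hq⟩
  have htop : ∀ O : (Spec (CommRingCat.of A)).Opens, O = ⊤ → Function.Bijective (π.app O) := by
    rintro O rfl; exact h3
  have h4 : Function.Bijective ((π ≫ j).app W) := by
    rw [Scheme.Hom.comp_app]
    show Function.Bijective (_ ∘ _)
    exact (htop _ hW.fromSpec_preimage_self).comp (ConcreteCategory.bijective_of_isIso (j.app W))
  rw [Scheme.Hom.congr_app (show π ≫ j = pullback.fst f j ≫ f from pullback.condition.symm) W,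
    Scheme.Hom.comp_app] at h4
  replace h4 : Function.Bijective (_ ∘ _) := h4
  exact (Function.Bijective.of_comp_iff' (ConcreteCategory.bijective_of_isIso _) _).mp
    ((Function.Bijective.of_comp_iff' (ConcreteCategory.bijective_of_isIso _) _).mp h4)

/-- `O_S = f_* O_X`. -/
theorem isIso_app_of_h0 {X S : Scheme.{u}} (f : X ⟶ S) [IsProper f] [Flat f]
    [LocallyOfFinitePresentation f] (h : ∀ s : S, IsIso (f.fiberToSpecResidueField s).appTop)
    (V : S.Opens) : IsIso (f.app V) :=
  (ConcreteCategory.isIso_iff_bijective _).mpr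
    (FlatMisc.bijective_app_of_isBasis f S.isBasis_affineOpens (fun _ hT => bijective_app_of_h0 f h hT) V)

end Groth.Agent.DerBC7
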