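import Groth.Agent.DerBC7.LocLine
import Groth.Agent.PerfGen7.PerfectCriterion
import Groth.Agent.KFlatLib.Scheme.Amplitude
import Mathlib.CategoryTheory.Limits.Shapes.Products

/-!
# Splitting a line off a perfect object near a point
-/

set_option linter.style.haveILetI false
set_option backward.isDefEq.respectTransparency false
set_option maxHeartbeats 1000000

universe u

open CategoryTheory CategoryTheory.Limits AlgebraicGeometry Pretriangulated

attribute [local instance] HasDerivedCategory.standard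

noncomputable section

namespace Groth.Agent.DerBC7

open Groth.Agent.KFlatLib

variable {X : Scheme.{u}}

/-- An approximation with free cokernel computes the object. -/
theorem exists_strictlyPerfect_bounded {P : CochainComplex X.Modules ℤ} {n : ℤ → ℕ}
    (e : ∀ i, P.X i ≅ FlatMod.freeMod X (n i)) {b : ℤ} (hb : ∀ i, b < i → IsZero (P.X i))
    {K : DCoh.D X} (α : DerivedCategory.Q.obj P ⟶ K) {m a : ℤ} (hm : m < a) (hα : IsPcMap m α)
    (hK : ∀ i, i < a → IsZero (DCoh.HD K i)) {r : ℕ}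
    (ec : cokernel (P.d (a - 1) a) ≅ FlatMod.freeMod X r) :
    ∃ Q : CochainComplex X.Modules ℤ, DCoh.VanishesOutside Q a (max a b) ∧ DCoh.IsStrictlyPerfect Q ∧ Nonempty (DerivedCategory.Q.obj Q ≅ K) := by
  let R₀ := DerivedCategory.Q.objPreimage K
  let eR : DerivedCategory.Q.obj R₀ ≅ K := DerivedCategory.Q.objObjPreimageIso K
  obtain ⟨R', g, s, hs, hfac⟩ := DerivedCategory.left_fac (α ≫ eR.inv)
  haveI := hs
  let e' : DerivedCategory.Q.obj R' ≅ K := (asIso (DerivedCategory.Q.map s)).symm ≪≫ eR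
  have hg : IsPcMap m (DerivedCategory.Q.map g) := by
    have h : DerivedCategory.Q.map g = α ≫ e'.inv := by
      show _ = α ≫ eR.inv ≫ DerivedCategory.Q.map s
      rw [← Category.assoc, hfac, Category.assoc, IsIso.inv_hom_id, Category.comp_id]
    rw [h]
    exact hα.comp (isPcMap_of_isIso m _)
  haveI : R'.IsGE a := (CochainComplex.isGE_iff R' a).2 fun i hi => by
    rw [HomologicalComplex.exactAt_iff_isZero_homology]
    exact (hK i hi).of_iso (((DerivedCategory.homologyFunctorFactors _ i).app R').symm ≪≫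
      (DerivedCategory.homologyFunctor _ i).mapIso e')
  haveI : QuasiIso (CochainComplex.truncGEMap g a) :=
    (CochainComplex.quasiIso_truncGEMap_iff g a).2 fun i hi => by
      rw [quasiIsoAt_iff_isIso_homologyMap]
      exact (NatIso.isIso_map_iff (DerivedCategory.homologyFunctorFactors X.Modules i) g).1
        (hg.1 i (by omega))
  haveI : IsIso (DerivedCategory.Q.map (CochainComplex.truncGEMap g a)) :=
    (DerivedCategory.isIso_Q_map_iff_quasiIso _ _).2 inferInstance
  haveI : IsIso (DerivedCategory.Q.map (R'.πTruncGE a)) :=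
    (DerivedCategory.isIso_Q_map_iff_quasiIso _ _).2 inferInstance
  let emb := ComplexShape.embeddingUpIntGE a
  have hv : DCoh.VanishesOutside (P.truncGE a) a (max a b) := fun i hi => by
    rcases hi with hi | hi
    · exact CochainComplex.isZero_of_isStrictlyGE _ a i hi
    · obtain ⟨k, rfl⟩ : ∃ k : ℕ, a + k = i := ⟨(i - a).toNat, by omega⟩
      exact (hb _ (by omega)).of_iso (HomologicalComplex.truncGEXIso P emb (i := k) rfl
        (fun hb => by have := (ComplexShape.boundaryGE_embeddingUpIntGE_iff a k).1 hb; omega))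
  refine ⟨P.truncGE a, hv, ⟨⟨a, max a b, hv⟩, fun i => ?_⟩,
    ⟨asIso (DerivedCategory.Q.map (CochainComplex.truncGEMap g a)) ≪≫
      (asIso (DerivedCategory.Q.map (R'.πTruncGE a))).symm ≪≫ e'⟩⟩
  rcases lt_or_ge i a with hia | hia
  · exact isFinLocFree_of_isZero (CochainComplex.isZero_of_isStrictlyGE (P.truncGE a) a i hia)
  obtain ⟨k, rfl⟩ : ∃ k : ℕ, a + k = i := ⟨(i - a).toNat, by omega⟩
  rcases Nat.eq_zero_or_pos k with rfl | hk
  · refine H23.PullPush.isFinLocFree_of_iso (HomologicalComplex.truncGEXIsoOpcycles P emb (i := 0) rfl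
      ((ComplexShape.boundaryGE_embeddingUpIntGE_iff a 0).2 rfl)).symm ?_
    show FlatMod.IsFinLocFree (P.opcycles (a + (0 : ℕ)))
    rw [Nat.cast_zero, add_zero]
    exact H23.PullPush.isFinLocFree_of_iso (ec.symm ≪≫ (cokernelIsCokernel (P.d (a - 1) a)).coconePointUniqueUpToIso
      (P.opcyclesIsCokernel (a - 1) a (by simp))) fun z => isFinLocFree_freeMod _ z
  · exact H23.PullPush.isFinLocFree_of_iso ((e _).symm ≪≫ (HomologicalComplex.truncGEXIso P emb (i := k) rfl
      (fun hb => by have := (ComplexShape.boundaryGE_embeddingUpIntGE_iff a k).1 hb; omega)).symm)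
      fun z => isFinLocFree_freeMod _ z


/-- `O^1 = O`. -/
def oneIso (X : Scheme.{u}) : FlatMod.freeMod X 1 ≅ Coh.structureModule X :=
  coproductUniqueIso _

/-- A perfect object, without cohomology and fibres just below `a`, is computed near the point by a
bounded free complex living in degrees `≥ a`. -/
theorem exists_rep_ge {E : DCoh.D X} (hE : DCoh.IsPerfect E) (x : X)
    [DCoh.HasLpull (X.fromSpecResidueField x)] (a : ℤ)
    (hlow : ∀ i, i < a → IsZero (DCoh.HD E i)) (hb : PerfD.betti E x (a - 1) = 0) :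
    ∃ (U : Scheme.{u}) (j : U ⟶ X) (_ : IsOpenImmersion j) (y : U) (_ : j.base y = x)
      (P : CochainComplex U.Modules ℤ) (b : ℤ) (_ : DCoh.IsKFlat P) (n : ℤ → ℕ)
      (_ : ∀ i, P.X i ≅ FlatMod.freeMod U (n i)), DCoh.VanishesOutside P a b ∧
      (∀ i, i < a ∨ b < i → n i = 0) ∧ Nonempty (DerivedCategory.Q.obj P ≅ (rho j).obj E) := by
  obtain ⟨U, j, _, ⟨y, rfl⟩, P, a₀, b₀, hab, hfree, ⟨eE⟩⟩ := exists_free_rep hE x
  obtain ⟨n, e, hP, -⟩ := exists_free_bounded hab hfree
  have hf := betti_formula E (j.base y) j y rfl hP e eE.hom (isPcMap_of_isIso (a - 2) eE.hom)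
    (a - 2) (a - 1) a (by omega) (by omega) (by omega)
  rw [hb, zero_add] at hf
  obtain ⟨-, hfl, -⟩ := exact_free_stalk y e (a - 2) (a - 1) a hf
  let d' := (e (a - 1)).inv ≫ P.d (a - 1) a ≫ (e a).hom
  let ec : cokernel d' ≅ cokernel (P.d (a - 1) a) :=
    cokernel.mapIso d' (P.d (a - 1) a) (e (a - 1)).symm (e a).symm (by simp [d'])
  haveI := hfl
  obtain ⟨W, r, hyW, ⟨eW⟩⟩ := PerfLocus7.exists_free_near_of_flat_stalk d' y
    (Module.Flat.of_linearEquiv ((DerSch.stalkFunctor _ _).mapIso ec).toLinearEquiv)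
  let R := Scheme.Modules.restrictFunctor W.ι
  let k : (W : Scheme.{u}) ⟶ X := W.ι ≫ j
  let β : DerivedCategory.Q.obj ((rCx W.ι).obj P) ≅ (rho k).obj E :=
    ((rhoQ W.ι).app P).symm ≪≫ (rho W.ι).mapIso eE ≪≫ rhoComp W.ι j k rfl E
  obtain ⟨Q, hQv, hQ, ⟨eQ⟩⟩ := exists_strictlyPerfect_bounded (P := (rCx W.ι).obj P)
    (fun l => R.mapIso (e l) ≪≫ (Scheme.Modules.restrictFunctorIsoPullback W.ι).app _ ≪≫ pullFreeIso _ _)
    (b := b₀) (fun l hl => R.map_isZero (hab l (Or.inr hl))) β.hom (show a - 1 < a by omega)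
    (isPcMap_of_isIso _ β.hom)
    (fun l hl => ((Scheme.Modules.restrictFunctor k).map_isZero (hlow l hl)).of_iso (hdRhoIso k E l))
    ((PreservesCokernel.iso R (P.d (a - 1) a)).symm ≪≫ R.mapIso ec.symm ≪≫ eW)
  obtain ⟨W', hyW', hfree'⟩ := exists_free_nhd hQv hQ.2 ⟨y, hyW⟩
  have hv' : DCoh.VanishesOutside ((rCx W'.ι).obj Q) a (max a b₀) := fun l hl =>
    (Scheme.Modules.restrictFunctor W'.ι).map_isZero (hQv l hl)
  obtain ⟨n', e', hP', hn'⟩ := exists_free_bounded hv' hfree'
  exact ⟨W', W'.ι ≫ k, inferInstance, ⟨⟨y, hyW⟩, hyW'⟩, rfl, _, _, hP', n', e', hv', hn',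
    ⟨((rhoQ W'.ι).app Q).symm ≪≫ (rho W'.ι).mapIso eQ ≪≫ rhoComp W'.ι k _ rfl E⟩⟩

/-- A monomorphism which is the kernel of the differential is an isomorphism in cohomology. -/
theorem isIso_homologyMap_fromSingle {C : Type*} [Category C] [Abelian C] {P : CochainComplex C ℤ}
    {A : C} (z : A ⟶ P.X 0) [Mono z] (hz : ∀ k, (ComplexShape.up ℤ).Rel 0 k → z ≫ P.d 0 k = 0)
    (hex : (ShortComplex.mk z (P.d 0 1) (hz 1 (by simp))).Exact) (hd : P.d (-1) 0 = 0) :
    IsIso (HomologicalComplex.homologyMap (HomologicalComplex.mkHomFromSingle z hz) 0) := by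
  let S := (HomologicalComplex.single C (ComplexShape.up ℤ) 0).obj A
  let φ : S ⟶ P := HomologicalComplex.mkHomFromSingle z hz
  have hf : (ShortComplex.mk z (P.d 0 1) (hz 1 (by simp))).Exact := hex
  let u := hf.fIsKernel.conePointUniqueUpToIso (P.cyclesIsKernel 0 1 (by simp))
  have hu : u.hom ≫ P.iCycles 0 = z :=
    IsLimit.conePointUniqueUpToIso_hom_comp _ _ WalkingParallelPair.zero
  have hc : HomologicalComplex.cyclesMap φ 0 =
      (HomologicalComplex.singleObjCyclesSelfIso (ComplexShape.up ℤ) 0 A).hom ≫ u.hom := by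
    rw [← cancel_mono (P.iCycles 0), HomologicalComplex.cyclesMap_i, Category.assoc, hu,
      HomologicalComplex.singleObjCyclesSelfIso_hom, Category.assoc]
    simp only [φ, HomologicalComplex.mkHomFromSingle_f]
    rfl
  haveI : IsIso (HomologicalComplex.cyclesMap φ 0) := hc ▸ inferInstance
  haveI : IsIso (S.homologyπ 0) :=
    S.isIso_homologyπ (-1) 0 (by simp) ((HomologicalComplex.isZero_single_obj_X (ComplexShape.up ℤ) 0 A (-1) (by decide)).eq_of_src _ _)
  haveI : IsIso (P.homologyπ 0) := P.isIso_homologyπ (-1) 0 (by simp) hd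
  haveI : IsIso (S.homologyπ 0 ≫ HomologicalComplex.homologyMap φ 0) := by
    rw [HomologicalComplex.homologyπ_naturality]
    infer_instance
  exact IsIso.of_isIso_comp_left (S.homologyπ 0) _

/-- Near a point where its fibre in degree zero is a line, a perfect object in degrees `≥ 0` with
`H^0 = O` is the sum of `O` and a perfect object of tor amplitude in `[1, b]`. -/
theorem exists_split_rho {E : DCoh.D X} (hE : DCoh.IsPerfect E) (x : X)
    [DCoh.HasLpull (X.fromSpecResidueField x)] (hlow : ∀ i : ℤ, i < 0 → IsZero (DCoh.HD E i))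
    (hneg : PerfD.betti E x (-1) = 0) (hone : PerfD.betti E x 0 = 1)
    (h0 : Nonempty (DCoh.HD E 0 ≅ Coh.structureModule X)) :
    ∃ (U : Scheme.{u}) (j : U ⟶ X) (_ : IsOpenImmersion j) (_ : x ∈ Set.range j.base),
      ∃ (C : DCoh.D U) (b : ℤ), DCoh.IsPerfect C ∧ DCoh.HasFlatAmplitudeIn 1 b C ∧
        Nonempty ((rho j).obj E ≅ DCoh.inD U (Coh.structureModule U) ⊞ C) := by
  obtain ⟨U, j, _, y, rfl, P, b, hP, n, e, hv, hn, ⟨eE⟩⟩ := exists_rep_ge hE x 0 hlow hneg
  obtain ⟨h0⟩ := h0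
  let A := FlatMod.freeMod U 1
  have hd : P.d (-1) 0 = 0 := (hv (-1) (Or.inl (by omega))).eq_of_src _ _
  haveI : IsIso (P.homologyπ 0) := P.isIso_homologyπ (-1) 0 (by simp) hd
  let u : A ≅ P.cycles 0 := oneIso U ≪≫ (Scheme.Modules.restrictUnitIso j).symm ≪≫
    (Scheme.Modules.restrictFunctor j).mapIso h0.symm ≪≫ (hdRhoIso j E 0).symm ≪≫
    (DerivedCategory.homologyFunctor _ 0).mapIso eE.symm ≪≫
    (DerivedCategory.homologyFunctorFactors _ 0).app P ≪≫ (asIso (P.homologyπ 0)).symm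
  let z : A ⟶ P.X 0 := u.hom ≫ P.iCycles 0
  have hzd : z ≫ P.d 0 1 = 0 := by simp [z]
  let d' := (e 0).inv ≫ P.d 0 1 ≫ (e 1).hom
  let z' := z ≫ (e 0).hom
  haveI : Mono z := mono_comp _ _
  let S := ShortComplex.mk z' d' (by simp [z', d', reassoc_of% hzd])
  have hS : S.Exact := by
    refine ShortComplex.exact_of_iso ?_
      (ShortComplex.exact_of_f_is_kernel (ShortComplex.mk (P.iCycles 0) (P.d 0 1) (P.iCycles_d 0 1))
        (P.cyclesIsKernel 0 1 (by simp)))
    exact ShortComplex.isoMk u.symm (e 0) (e 1) (by simp [S, z', z]) (by simp [S, d'])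
  let st := DerSch.stalkFunctor U y
  haveI : st.PreservesHomology :=
    Functor.preservesHomology_of_map_exact _ fun T hT => (exact_iff_stalk T).1 hT y
  haveI : Mono (st.map z') := inferInstance
  haveI := (finite_free_stalk_freeMod y (n 0)).1
  haveI := (finite_free_stalk_freeMod y (n 0)).2.1
  haveI := (finite_free_stalk_freeMod y (n 1)).1
  haveI := (finite_free_stalk_freeMod y (n 1)).2.1
  haveI := (finite_free_stalk_freeMod y 1).1
  haveI : IsLocalHom (U.residue y).hom := inferInstanceAs (IsLocalHom (IsLocalRing.residue _))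
  have hrk : Module.finrank (IsLocalRing.ResidueField (U.presheaf.stalk y))
      (LinearMap.range ((st.map d').hom.baseChange (IsLocalRing.ResidueField (U.presheaf.stalk y)))) =
      rkAt (dMat e 0 1) y :=
    (finrank_range_extend y d' (IsLocalRing.residue (U.presheaf.stalk y))).trans
      (rank_map_eq_rkAt (secMat d') y (IsLocalRing.residue (U.presheaf.stalk y)))
  have hf := betti_formula E (j.base y) j y rfl hP e eE.hom (isPcMap_of_isIso (-1) eE.hom)
    (-1) 0 1 (by omega) rfl (by omega)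
  have hw : rkAt (dMat e (-1) 0) y ≤ n (-1) := Matrix.rank_le_width _
  have hn1 := hn (-1) (Or.inl (by omega))
  rw [hone] at hf
  obtain ⟨⟨π, hπ⟩, hcok⟩ := exists_retraction_of_corank_one
    (R := U.presheaf.stalk y) (A := (st.obj A : Type u))
    (B := (st.obj (FlatMod.freeMod U (n 0)) : Type u)) (C := (st.obj (FlatMod.freeMod U (n 1)) : Type u))
    (f := (st.map z').hom) (g := (st.map d').hom) (finite_free_stalk_freeMod y 1).2.2
    ((ModuleCat.mono_iff_injective _).1 inferInstance)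
    ((ShortComplex.ShortExact.moduleCat_exact_iff_function_exact _).1 (hS.map st))
    (by rw [hrk, (finite_free_stalk_freeMod y (n 0)).2.2]; omega)
  let πM : st.obj (FlatMod.freeMod U (n 0)) ⟶ st.obj A := ModuleCat.ofHom π
  obtain ⟨U₁, hU₁, h₁⟩ := exists_of_germs A y fun i => πM (eGerm y i)
  obtain ⟨δ, hδ⟩ := h₁ U₁ hU₁ le_rfl
  have hδ' : stalkAt hU₁ δ = πM := free_stalk_ext hδ
  have e₂ : stalkAt hU₁ ((Scheme.Modules.restrictFunctor U₁.ι).map z' ≫ δ - 𝟙 _) = 0 := by
    rw [stalkAt_sub, stalkAt_comp, stalkAt_map, hδ', stalkAt_id, sub_eq_zero]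
    exact ModuleCat.hom_ext hπ
  obtain ⟨U₂, hU₂, z₂⟩ := exists_resHom_eq_zero _ hU₁ e₂
  let c : cokernel d' ≅ cokernel (P.d 0 1) :=
    cokernel.mapIso d' (P.d 0 1) (e 0).symm (e 1).symm (by simp [d'])
  haveI := hcok
  obtain ⟨U₃, r, hU₃, ⟨e₃⟩⟩ := PerfLocus7.exists_free_near_of_flat_stalk d' y
    (Module.Flat.of_linearEquiv
      (PreservesCokernel.iso st d' ≪≫ ModuleCat.cokernelIsoRangeQuotient (st.map d')).toLinearEquiv)
  obtain ⟨W₀, hW₀, e₃'⟩ : ∃ (W₀ : U.Opens) (_ : y ∈ W₀), W₀ ≤ U₁ ⊓ U₂ ⊓ U₃ :=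
    ⟨U₁ ⊓ U₂ ⊓ U₃, ⟨⟨hU₁, hU₂⟩, hU₃⟩, le_rfl⟩
  have hl : W₀ ≤ U₁ := e₃'.trans (inf_le_left.trans inf_le_left)
  let R := Scheme.Modules.restrictFunctor W₀.ι
  let δW := resHom hl δ
  have hzδ : R.map z' ≫ δW = 𝟙 _ := by
    have := z₂ W₀ hl (e₃'.trans (inf_le_left.trans inf_le_right))
    rwa [resHom_sub, resHom_comp, resHom_map, resHom_id, sub_eq_zero] at this
  let P' := (rCx W₀.ι).obj P
  let k : (W₀ : Scheme.{u}) ⟶ X := W₀.ι ≫ j
  let zW : R.obj A ⟶ P'.X 0 := R.map z
  have hzW : ∀ l, (ComplexShape.up ℤ).Rel 0 l → zW ≫ P'.d 0 l = 0 := fun l hl' => by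
    obtain rfl : l = 1 := by simpa using hl'.symm
    show R.map z ≫ R.map (P.d 0 1) = 0
    rw [← R.map_comp, hzd, R.map_zero]
  let φ := HomologicalComplex.mkHomFromSingle zW hzW
  let ψ : P' ⟶ (HomologicalComplex.single _ (ComplexShape.up ℤ) 0).obj (R.obj A) :=
    HomologicalComplex.mkHomToSingle (R.map (e 0).hom ≫ δW) fun i hi => by
      obtain rfl : i = -1 := by simp at hi; omega
      exact (R.map_isZero (hv (-1) (Or.inl (by omega)))).eq_of_src _ _
  have hφψ : φ ≫ ψ = 𝟙 _ := HomologicalComplex.from_single_hom_ext (by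
    simp only [φ, ψ, HomologicalComplex.comp_f, HomologicalComplex.mkHomFromSingle_f,
      HomologicalComplex.mkHomToSingle_f, HomologicalComplex.id_f, Category.assoc]
    rw [← Category.assoc zW, ← Category.assoc (zW ≫ _),
      show (zW ≫ R.map (e 0).hom) ≫ δW = 𝟙 _ from by
        rw [← R.map_comp]; exact hzδ,
      Category.id_comp, Iso.hom_inv_id])
  haveI : Mono zW := inferInstanceAs (Mono (R.map z))
  haveI := isIso_homologyMap_fromSingle zW hzW (by
      refine ShortComplex.exact_of_iso (ShortComplex.isoMk (R.mapIso (Iso.refl _))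
        (R.mapIso (e 0).symm) (R.mapIso (e 1).symm) ?_ ?_) (hS.map R)
      · show R.map (𝟙 _) ≫ R.map z = R.map z' ≫ R.map (e 0).inv
        rw [← R.map_comp, ← R.map_comp]
        simp [z']
      · show R.map (e 0).inv ≫ R.map (P.d 0 1) = R.map d' ≫ R.map (e 1).inv
        simp [d'])
    ((R.map_isZero (hv (-1) (Or.inl (by omega)))).eq_of_src _ _)
  obtain ⟨C, g, h, hT⟩ := distinguished_cocone_triangle (DerivedCategory.Q.map φ)
  let T := Triangle.mk (DerivedCategory.Q.map φ) g h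
  have hsingle : ∀ i : ℤ, i ≠ 0 → IsZero ((DerivedCategory.homologyFunctor _ i).obj T.obj₁) := fun i hi =>
    (ShortComplex.isZero_homology_of_isZero_X₂ _ (HomologicalComplex.isZero_single_obj_X (ComplexShape.up ℤ) 0 _ _ hi)).of_iso
      ((DerivedCategory.homologyFunctorFactors _ i).app _)
  haveI : IsIso ((DerivedCategory.homologyFunctor _ 0).map T.mor₁) :=
    (NatIso.isIso_map_iff (DerivedCategory.homologyFunctorFactors _ 0) φ).2 ‹_›
  have hC : ∀ i : ℤ, i < 1 → IsZero (DCoh.HD C i) := fun i hi => by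
    refine (DerivedCategory.HomologySequence.exact₃ T hT i (i + 1) rfl).isZero_X₂ ?_ ?_
    · rcases lt_or_eq_of_le (show i ≤ 0 by omega) with hi' | rfl
      · exact ((ShortComplex.isZero_homology_of_isZero_X₂ _ (R.map_isZero (hv i (Or.inl hi')))).of_iso
          ((DerivedCategory.homologyFunctorFactors _ i).app P')).eq_of_src _ _
      · exact ((DerivedCategory.HomologySequence.exact₂ T hT 0).epi_f_iff.1 inferInstance)
    · rcases eq_or_ne (i + 1) 0 with h' | h'
      · haveI : Mono ((DerivedCategory.homologyFunctor _ (i + 1)).map T.mor₁) := by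
          rw [h']; infer_instance
        exact (cancel_mono ((DerivedCategory.homologyFunctor _ (i + 1)).map T.mor₁)).1
          ((DerivedCategory.HomologySequence.δ_comp T hT i (i + 1) rfl).trans zero_comp.symm)
      · exact (hsingle _ h').eq_of_tgt _ _
  have hg : IsPcMap 0 g := by
    refine ⟨fun i hi => ?_, ?_⟩
    · haveI : Mono ((DerivedCategory.homologyFunctor _ i).map T.mor₂) :=
        (DerivedCategory.HomologySequence.exact₂ T hT i).mono_g ((hsingle i (by omega)).eq_of_src _ _)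
      haveI : Epi ((DerivedCategory.homologyFunctor _ i).map T.mor₂) :=
        (DerivedCategory.HomologySequence.exact₃ T hT i (i + 1) rfl).epi_f
          ((hsingle (i + 1) (by omega)).eq_of_tgt _ _)
      exact isIso_of_mono_of_epi ((DerivedCategory.homologyFunctor _ i).map T.mor₂)
    · exact ⟨fun a b _ => (hC 0 (by omega)).eq_of_src a b⟩
  obtain ⟨Q, hQv, hQ, ⟨eQ⟩⟩ := exists_strictlyPerfect_bounded (P := P')
    (fun l => R.mapIso (e l) ≪≫ (Scheme.Modules.restrictFunctorIsoPullback W₀.ι).app _ ≪≫ pullFreeIso _ _)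
    (b := b) (fun l hl => R.map_isZero (hv l (Or.inr hl))) g (show (0 : ℤ) < 1 by omega) hg hC
    (show cokernel (P'.d (1 - 1) 1) ≅ FlatMod.freeMod _ r from
      (PreservesCokernel.iso R (P.d 0 1)).symm ≪≫ R.mapIso c.symm ≪≫
        restrictFreeIso (e₃'.trans inf_le_right) e₃)
  haveI : IsSplitMono T.mor₁ := IsSplitMono.mk' ⟨DerivedCategory.Q.map ψ, by
    show DerivedCategory.Q.map φ ≫ DerivedCategory.Q.map ψ = 𝟙 _
    rw [← DerivedCategory.Q.map_comp, hφψ, CategoryTheory.Functor.map_id]⟩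
  obtain ⟨eB, -, -⟩ := exists_iso_binaryBiproduct_of_distTriang T hT
    ((Triangle.mor₃_eq_zero_iff_mono₁ T hT).2 inferInstance)
  refine ⟨W₀, k, inferInstance, ⟨⟨y, hW₀⟩, rfl⟩, C, max 1 b,
    isPerfect_of_rep eQ (fun w => ⟨⊤, trivial, _, isStrictlyPerfect_restrict _ hQ, ⟨Iso.refl _⟩⟩),
    ⟨Q, hQv, fun i => isFlat_of_isFinLocFree (hQ.2 i), ⟨eQ⟩⟩,
    ⟨(rhoComp W₀.ι j k rfl E).symm ≪≫ (rho W₀.ι).mapIso eE.symm ≪≫ (rhoQ W₀.ι).app P ≪≫ eB ≪≫
      biprod.mapIso ?_ (Iso.refl _)⟩⟩
  exact ((DerivedCategory.singleFunctorIsoCompQ _ 0).app (R.obj A)).symm ≪≫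
    (DerivedCategory.singleFunctor _ 0).mapIso (R.mapIso (oneIso U) ≪≫ Scheme.Modules.restrictUnitIso W₀.ι)

end Groth.Agent.DerBC7
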