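import Groth.Agent.DerBC7.BettiPush
import Groth.Agent.DerBC7.LocSplit
import Groth.Agent.DerBC7.H0Fibre
import Groth.Agent.KFlatLib.Scheme.RpushQCoh
import Groth.Prelude.Def_ClSub2

/-!
# The structure sheaf splits off `Rf_* O`
-/

set_option linter.style.haveILetI false
set_option backward.isDefEq.respectTransparency false

universe u

open CategoryTheory CategoryTheory.Limits AlgebraicGeometry Opposite Pretriangulated

attribute [local instance] HasDerivedCategory.standard

noncomputable section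

namespace Groth.Agent.DerBC7

open Groth.Agent.KFlatLib Groth.Agent.PerfGen7

variable {X S : Scheme.{u}}

theorem isIso_unitToPush (f : X ⟶ S) (h : ∀ V : S.Opens, IsIso (f.app V)) :
    IsIso (ClSub.unitToPush f) := by
  rw [Scheme.Modules.Hom.isIso_iff_isIso_app]
  intro V
  haveI := h V
  rw [ConcreteCategory.isIso_iff_bijective]
  exact ConcreteCategory.bijective_of_isIso (f.app V)

theorem isQCoh_structureModule' (X : Scheme.{u}) : Coh.IsQCoh (Coh.structureModule X) :=
  QCoh.isQCoh_of_isFP (QCoh.isFP_of_isFinLocFree (H23.PullPush.isFinLocFree_of_isInvertible fun _ => ⟨⊤, trivial, ⟨Scheme.Modules.restrictUnitIso _⟩⟩))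

theorem isFlatOver_structureModule (f : X ⟶ S) [Flat f] :
    FlatMod.IsFlatOver f (Coh.structureModule X) :=
  Groth.Agent.H23.Seesaw.isFlatOver_of_isInvertible f InvX.isInvertible_structureModule

/-- `H^0(Rf_* O) = O`. -/
theorem nonempty_hd_zero_rpush (f : X ⟶ S) [DCoh.HasRpush f] (h : ∀ V : S.Opens, IsIso (f.app V)) :
    Nonempty (DCoh.HD ((DCoh.Rpush f).obj (DCoh.inD X (Coh.structureModule X))) 0 ≅
      Coh.structureModule S) := by
  haveI : HasInjectiveResolutions X.Modules := hasInjectiveResolutions_modules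
  obtain ⟨e⟩ := nonempty_hd_rpush_single f (Coh.structureModule X) 0
  haveI := isIso_unitToPush f h
  exact ⟨e ≪≫ ((Scheme.Modules.pushforward f).rightDerivedZeroIsoSelf).app _ ≪≫
    (asIso (ClSub.unitToPush f)).symm⟩

theorem isIso_app_of_appTop {k : Type u} [Field k] {Y : Scheme.{u}} (g : Y ⟶ Spec (CommRingCat.of k))
    (h : IsIso g.appTop) (V : (Spec (CommRingCat.of k)).Opens) : IsIso (g.app V) := by
  obtain rfl | rfl : V = ⊥ ∨ V = ⊤ := by
    rcases (V : Set (Spec (CommRingCat.of k))).eq_empty_or_nonempty with he | ⟨t, ht⟩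
    · exact Or.inl (TopologicalSpace.Opens.ext he)
    · exact Or.inr (opens_eq_top t ht)
  · rw [ConcreteCategory.isIso_iff_bijective]
    haveI : Subsingleton Γ(Spec (CommRingCat.of k), ⊥) := inferInstance
    haveI : Subsingleton Γ(Y, g ⁻¹ᵁ ⊥) := by
      rw [Scheme.Hom.preimage_bot]; infer_instance
    exact ⟨fun a b _ => Subsingleton.elim a b, fun b => ⟨0, Subsingleton.elim _ b⟩⟩
  · exact h

/-- The fibres of `Rf_* O` in degree `≤ 0` for connected reduced fibres. -/
theorem betti_rpush_structure (f : X ⟶ S) [IsProper f] [Flat f] [LocallyOfFinitePresentation f]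
    [DCoh.HasRpush f] [∀ s : S, DCoh.HasLpull (S.fromSpecResidueField s)] (s : S)
    (h : IsIso (f.fiberToSpecResidueField s).appTop) :
    PerfD.betti ((DCoh.Rpush f).obj (DCoh.inD X (Coh.structureModule X))) s 0 = 1 ∧
      PerfD.betti ((DCoh.Rpush f).obj (DCoh.inD X (Coh.structureModule X))) s (-1) = 0 := by
  obtain ⟨V, hV, hsV, -⟩ := exists_isAffineOpen_mem_and_subset (x := s) (U := (⊤ : S.Opens)) trivial
  let g := S.fromSpecResidueField s
  have hr : Set.range g.base ⊆ Set.range V.ι.base := by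
    rw [show Set.range g.base = {s} from Scheme.range_fromSpecResidueField s,
      Set.singleton_subset_iff]
    exact ⟨⟨s, hsV⟩, rfl⟩
  let fs := f.fiberToSpecResidueField s
  haveI := hasRpush_scheme fs
  obtain ⟨e⟩ := nonempty_lpull_rpush_factor (IsPullback.of_hasPullback f g) hV
    (IsOpenImmersion.lift V.ι g hr) (IsOpenImmersion.lift_fac _ _ hr) (f' := fs)
    (G := Coh.structureModule X) (isQCoh_structureModule' X) (isFlatOver_structureModule f)
  haveI : IsIso (SheafOfModules.pullbackObjUnitToUnit (f.fiberι s).toRingCatSheafHom) := inferInstance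
  let eO : (Scheme.Modules.pullback (f.fiberι s)).obj (Coh.structureModule X) ≅
      Coh.structureModule (f.fiber s) :=
    asIso (SheafOfModules.pullbackObjUnitToUnit (f.fiberι s).toRingCatSheafHom)
  let eT := e ≪≫ (DCoh.Rpush fs).mapIso ((DerivedCategory.singleFunctor _ 0).mapIso eO)
  have key : ∀ i, PerfD.betti ((DCoh.Rpush f).obj (DCoh.inD X (Coh.structureModule X))) s i =
      Module.finrank (Coh.Γtop (Spec (S.residueField s)))
        ((DCoh.HD ((DCoh.Rpush fs).obj (DCoh.inD _ (Coh.structureModule (f.fiber s)))) i).val.obj (op ⊤)) :=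
    fun i => (finrank_top_eq_stalk _ default).trans
      ((((DerSch.stalkFunctor _ default).mapIso ((DerivedCategory.homologyFunctor _ i).mapIso
        eT)).toLinearEquiv.finrank_eq).trans (finrank_top_eq_stalk _ default).symm)
  obtain ⟨e₀⟩ := nonempty_hd_zero_rpush fs fun W => isIso_app_of_appTop (k := S.residueField s) fs h W
  constructor
  · rw [key, (finrank_top_eq_stalk _ default).trans
      ((((DerSch.stalkFunctor _ default).mapIso e₀).toLinearEquiv.finrank_eq).trans
        (finrank_top_eq_stalk _ default).symm)]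
    haveI : Nontrivial (Coh.Γtop (Spec (S.residueField s))) :=
      (Scheme.ΓSpecIso (S.residueField s)).commRingCatIsoToRingEquiv.toEquiv.nontrivial
    exact Module.finrank_self (Coh.Γtop (Spec (S.residueField s)))
  · rw [key]
    haveI : (DCoh.inD (f.fiber s) (Coh.structureModule (f.fiber s))).IsGE 0 := inferInstance
    have hz := isZero_hd_rpush_of_lt fs (DCoh.inD _ (Coh.structureModule (f.fiber s))) 0 (-1) (by omega)
    rw [finrank_top_eq_stalk _ default]
    haveI := ModuleCat.subsingleton_of_isZero ((DerSch.stalkFunctor _ default).map_isZero hz)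
    exact Module.finrank_zero_of_subsingleton

/-- Locally on the base, `Rf_* O = O ⊕ P` with `P` perfect in degrees `≥ 1`. -/
theorem exists_split_rpush (f : X ⟶ S) [IsProper f] [Flat f] [LocallyOfFinitePresentation f]
    (h : ∀ s : S, IsIso (f.fiberToSpecResidueField s).appTop) (s : S) :
    ∃ V : S.Opens, s ∈ V ∧ ∀ [DCoh.HasRpush (f ∣_ V)], ∃ (P : DCoh.D (V : Scheme.{u})) (b : ℤ),
      DCoh.IsPerfect P ∧ DCoh.HasTorAmplitudeIn 1 b P ∧
        Nonempty ((DCoh.Rpush (f ∣_ V)).obj (DCoh.inD _ (Coh.structureModule (f ⁻¹ᵁ V : Scheme.{u}))) ≅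
          DCoh.inD (V : Scheme.{u}) (Coh.structureModule (V : Scheme.{u})) ⊞ P) := by
  haveI := hasRpush_scheme f
  haveI : ∀ t : S, DCoh.HasLpull (S.fromSpecResidueField t) := fun t => hasLpull _
  let K := (DCoh.Rpush f).obj (DCoh.inD X (Coh.structureModule X))
  have hK : DCoh.IsPerfect K :=
    isPerfect_rpush_inD f (QCoh.isFP_of_isFinLocFree (H23.PullPush.isFinLocFree_of_isInvertible fun _ => ⟨⊤, trivial, ⟨Scheme.Modules.restrictUnitIso _⟩⟩))
      (isFlatOver_structureModule f)
  haveI : (DCoh.inD X (Coh.structureModule X)).IsGE 0 := inferInstance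
  obtain ⟨h1, h2⟩ := betti_rpush_structure f s (h s)
  obtain ⟨U, j, _, hs, C, b, hC, hCt, ⟨e⟩⟩ := exists_split_rho hK s
    (fun i hi => isZero_hd_rpush_of_lt f _ 0 i hi) h2 h1
    (nonempty_hd_zero_rpush f (isIso_app_of_h0 f h))
  refine ⟨j.opensRange, hs, fun [_] => ?_⟩
  let r := rangeHom j
  obtain ⟨Q, hQv, hQf, ⟨eQ⟩⟩ := hCt
  refine ⟨(rho r).obj C, b, isPerfect_rho' r hC, torAmplitude_of_flatAmplitude
    ⟨(rCx r).obj Q, fun i hi => (Scheme.Modules.restrictFunctor r).map_isZero (hQv i hi),
      fun i => IsFlat.of_iso ((Scheme.Modules.restrictFunctorIsoPullback r).app _).symm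
        (isFlat_pullback r (hQf i)), ⟨((rhoQ r).app Q).symm ≪≫ (rho r).mapIso eQ⟩⟩, ?_⟩
  haveI : PreservesBinaryBiproduct (DCoh.inD U (Coh.structureModule U)) C (rho r) :=
    preservesBinaryBiproduct_of_preservesBiproduct _ _ _
  obtain ⟨a⟩ := nonempty_rho_rpush_inD f j.opensRange (Coh.structureModule X)
  exact ⟨(DCoh.Rpush (f ∣_ j.opensRange)).mapIso ((DerivedCategory.singleFunctor _ 0).mapIso
      (Scheme.Modules.restrictUnitIso _).symm) ≪≫ a.symm ≪≫
    (rhoComp r j j.opensRange.ι (rangeHom_fac j) K).symm ≪≫ (rho r).mapIso e ≪≫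
    (rho r).mapBiprod _ _ ≪≫ biprod.mapIso
      (((Scheme.Modules.restrictFunctor r).mapDerivedCategorySingleFunctor 0).app _ ≪≫
        (DerivedCategory.singleFunctor _ 0).mapIso (Scheme.Modules.restrictUnitIso r)) (Iso.refl _)⟩

end Groth.Agent.DerBC7
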