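import Groth.Agent.DerBC7.Derived

/-!
# Pasting of the underived base change maps
-/

set_option linter.style.haveILetI false
set_option backward.isDefEq.respectTransparency false
set_option backward.isDefEq.respectTransparency.types false

universe u

open CategoryTheory CategoryTheory.Limits AlgebraicGeometry

noncomputable section

namespace Groth.Agent.DerBC7

variable {U U' X X' S S' : Scheme.{u}} (f : X ⟶ S) (g : S' ⟶ S) (f' : X' ⟶ S') (g' : X' ⟶ X)
  (w : g' ≫ f = f' ≫ g) (j : U ⟶ X) (j' : U' ⟶ X') (g'' : U' ⟶ U) (wj : g'' ≫ j = j' ≫ g')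

/-- The base change map for `f` on `j_* N` composed with that for `j` is that for `j ≫ f`. -/
theorem bc0_paste (w₂ : g'' ≫ (j ≫ f) = (j' ≫ f') ≫ g) (N : U.Modules) :
    CohBC.bc0 f g f' g' w ((Scheme.Modules.pushforward j).obj N) ≫
      (Scheme.Modules.pushforward f').map (CohBC.bc0 j g' j' g'' wj N) ≫
        ((Scheme.Modules.pushforwardComp j' f').app ((Scheme.Modules.pullback g'').obj N)).hom =
    (Scheme.Modules.pullback g).map ((Scheme.Modules.pushforwardComp j f).app N).hom ≫
      CohBC.bc0 (j ≫ f) g (j' ≫ f') g'' w₂ N := by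
  let a := Scheme.Modules.pullbackPushforwardAdjunction g
  let a' := Scheme.Modules.pullbackPushforwardAdjunction g'
  let b := CohBC.bc0 j g' j' g'' wj N
  apply (a.homEquiv _ _).injective
  rw [a.homEquiv_naturality_right, a.homEquiv_naturality_left]
  show (a.homEquiv _ _) ((a.homEquiv _ _).symm (CohBC.bc0Adj f g f' g' w _)) ≫ _ =
    _ ≫ (a.homEquiv _ _) ((a.homEquiv _ _).symm (CohBC.bc0Adj (j ≫ f) g (j' ≫ f') g'' w₂ N))
  rw [Equiv.apply_symm_apply, Equiv.apply_symm_apply]
  have hb : a'.unit.app ((Scheme.Modules.pushforward j).obj N) ≫ (Scheme.Modules.pushforward g').map b =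
      CohBC.bc0Adj j g' j' g'' wj N := by
    exact (a'.homEquiv_unit _ _ _).symm.trans ((a'.homEquiv _ _).apply_symm_apply _)
  ext V x
  simp only [CohBC.bc0Adj, Functor.map_comp]
  simp
  refine (ConcreteCategory.congr_hom ((CohBC.bc0 j g' j' g'' wj N).mapPresheaf.naturality _) _).trans ?_
  have h := congr($hb |>.app (f ⁻¹ᵁ V) x)
  simp [CohBC.bc0Adj] at h
  refine (congrArg (fun t => ((Scheme.Modules.pushforward j').obj _).presheaf.map _ t) h).trans ?_
  refine (ConcreteCategory.comp_apply _ _ _).symm.trans ?_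
  exact congr($((((Scheme.Modules.pullback g'').obj N).presheaf.map_comp _ _).symm) _)

end Groth.Agent.DerBC7
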