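import Groth.Agent.DerBC7.TensorPerfect
import Groth.Agent.PerfGen7.UnitDetect
import Groth.Agent.KFlatLib.Perfect.LocFreeLocus
import Groth.Agent.KFlatLib.Scheme.RpushRestrict

/-!
# The derived direct image of a flat family and its fibre dimensions
-/

set_option linter.style.haveILetI false
set_option backward.isDefEq.respectTransparency false

universe u

open CategoryTheory CategoryTheory.Limits AlgebraicGeometry Pretriangulated

attribute [local instance] HasDerivedCategory.standard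

noncomputable section

namespace Groth.Agent.DerBC7

open Groth.Agent.KFlatLib Groth.Agent.PerfGen7

variable {X S X' T : Scheme.{u}}

/-- `inD` and complexes concentrated in degree `0`. -/
def inDIso (G : X.Modules) : DCoh.inD X G ≅ DCoh.toD X (degZero G) :=
  (DerivedCategory.singleFunctorIsoCompQ X.Modules 0).app G

theorem isPerfect_inD_structureModule :
    DCoh.IsPerfect (DCoh.inD X (Coh.structureModule X)) := by
  refine isPerfect_of_iso' (inDIso _).symm (isPerfect_of_rep (Iso.refl _) fun x => ?_)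
  refine ⟨⊤, trivial, (rCx (⊤ : X.Opens).ι).obj (degZero (Coh.structureModule X)),
    isStrictlyPerfect_restrict _ ⟨⟨0, 0, fun i hi => HomologicalComplex.isZero_single_obj_X _ _ _ _ (by omega)⟩,
      fun i => ?_⟩, ⟨Iso.refl _⟩⟩
  by_cases hi : i = 0
  · subst hi
    exact H23.PullPush.isFinLocFree_of_iso
      (HomologicalComplex.singleObjXSelf (ComplexShape.up ℤ) 0 (Coh.structureModule X)).symm
      (H23.PullPush.isFinLocFree_of_isInvertible fun _ => ⟨⊤, trivial, ⟨Scheme.Modules.restrictUnitIso _⟩⟩)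
  · exact isFinLocFree_of_isZero (HomologicalComplex.isZero_single_obj_X _ _ _ _ hi)

/-- `O ⊗^L G = G`. -/
theorem nonempty_ltensorMod_structure (G : X.Modules) [DCoh.HasLTensorMod G] :
    Nonempty ((DCoh.LTensorMod G).obj (DCoh.inD X (Coh.structureModule X)) ≅ DCoh.inD X G) := by
  haveI := hasLTensorCx (degZero G)
  obtain ⟨a⟩ := nonempty_LTensorMod_iso G (DCoh.inD X (Coh.structureModule X))
  obtain ⟨b⟩ := nonempty_ltensor_unit (degZero G)
  exact ⟨a ≪≫ (DCoh.LTensorCx (degZero G)).mapIso (inDIso _) ≪≫ b ≪≫ (inDIso G).symm⟩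

/-- `Rf_* G` is perfect. -/
theorem isPerfect_rpush_inD (f : X ⟶ S) [IsProper f] [LocallyOfFinitePresentation f] [DCoh.HasRpush f]
    {G : X.Modules} (hG : CohB1.IsFP G) (hflat : FlatMod.IsFlatOver f G) :
    DCoh.IsPerfect ((DCoh.Rpush f).obj (DCoh.inD X G)) := by
  haveI := hasLTensorMod G
  obtain ⟨e⟩ := nonempty_ltensorMod_structure G
  exact isPerfect_of_iso' ((DCoh.Rpush f).mapIso e)
    (isPerfect_rpush_ltensorMod_proper hG hflat isPerfect_inD_structureModule)

/-- Base change over an affine base. -/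
theorem nonempty_lpull_rpush_affine [IsAffine S] {f : X ⟶ S} {g : T ⟶ S} {f' : X' ⟶ T} {g' : X' ⟶ X}
    (h : IsPullback g' f' f g) [QuasiCompact f] [IsSeparated f] [DCoh.HasRpush f] [DCoh.HasLpull g]
    [DCoh.HasRpush f'] {G : X.Modules} (hG : Coh.IsQCoh G) (hflat : FlatMod.IsFlatOver f G) :
    Nonempty ((DCoh.Lpull g).obj ((DCoh.Rpush f).obj (DCoh.inD X G)) ≅
      (DCoh.Rpush f').obj (DCoh.inD X' ((Scheme.Modules.pullback g').obj G))) := by
  haveI := hasRpush_scheme g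
  haveI := hasRpush_scheme g'
  haveI := hasLpull g'
  haveI := hasLTensorMod G
  haveI := hasLTensorMod ((Scheme.Modules.pullback g').obj G)
  haveI : (DCoh.inD X (Coh.structureModule X)).IsGE 0 := inferInstance
  haveI : (DCoh.inD X (Coh.structureModule X)).IsLE 0 := inferInstance
  obtain ⟨e⟩ := nonempty_baseChange_tensor_iso h G hG hflat (DCoh.inD X (Coh.structureModule X)) 0 0
    (isQCohD_of_isPerfect isPerfect_inD_structureModule)
  obtain ⟨a⟩ := nonempty_ltensorMod_structure G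
  obtain ⟨b⟩ := nonempty_ltensorMod_structure ((Scheme.Modules.pullback g').obj G)
  obtain ⟨c⟩ := nonempty_lpull_unit g'
  exact ⟨(DCoh.Lpull g).mapIso ((DCoh.Rpush f).mapIso a.symm) ≪≫ e ≪≫ (DCoh.Rpush f').mapIso
    ((DCoh.LTensorMod ((Scheme.Modules.pullback g').obj G)).mapIso
      ((DCoh.Lpull g').mapIso (inDIso _) ≪≫ c ≪≫ (inDIso _).symm) ≪≫ b)⟩

/-- Restriction of `Rf_* G` to an open of the base. -/
theorem nonempty_rho_rpush_inD (f : X ⟶ S) (V : S.Opens) [DCoh.HasRpush f] [DCoh.HasRpush (f ∣_ V)]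
    (G : X.Modules) :
    Nonempty ((rho V.ι).obj ((DCoh.Rpush f).obj (DCoh.inD X G)) ≅
      (DCoh.Rpush (f ∣_ V)).obj (DCoh.inD _ (G.restrict (f ⁻¹ᵁ V).ι))) := by
  obtain ⟨e⟩ := nonempty_rpush_restrictD_iso f V
  exact ⟨e.app _ ≪≫ (DCoh.Rpush (f ∣_ V)).mapIso
    (((Scheme.Modules.restrictFunctor (f ⁻¹ᵁ V).ι).mapDerivedCategorySingleFunctor 0).app G)⟩

/-- Base change along a morphism factoring through an affine open. -/
theorem nonempty_lpull_rpush_factor {f : X ⟶ S} [IsProper f] {g : T ⟶ S} {f' : X' ⟶ T} {g' : X' ⟶ X}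
    (h : IsPullback g' f' f g) {V : S.Opens} (hV : IsAffineOpen V) (g₀ : T ⟶ V) (hg : g₀ ≫ V.ι = g)
    [DCoh.HasRpush f] [DCoh.HasLpull g] [DCoh.HasRpush f'] {G : X.Modules} (hG : Coh.IsQCoh G)
    (hflat : FlatMod.IsFlatOver f G) :
    Nonempty ((DCoh.Lpull g).obj ((DCoh.Rpush f).obj (DCoh.inD X G)) ≅
      (DCoh.Rpush f').obj (DCoh.inD X' ((Scheme.Modules.pullback g').obj G))) := by
  haveI : IsAffine V.toScheme := hV
  have hp := (isPullback_morphismRestrict f V).flip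
  haveI : IsProper (f ∣_ V) := MorphismProperty.of_isPullback hp ‹_›
  haveI := hasRpush_scheme (f ∣_ V)
  haveI := hasLpull g₀
  let g'₀ : X' ⟶ (f ⁻¹ᵁ V).toScheme := hp.lift g' (f' ≫ g₀) (by rw [Category.assoc, hg]; exact h.w)
  have hfst : g'₀ ≫ (f ⁻¹ᵁ V).ι = g' := hp.lift_fst _ _ _
  have hsnd : g'₀ ≫ (f ∣_ V) = f' ≫ g₀ := hp.lift_snd _ _ _
  have hsq : IsPullback g'₀ f' (f ∣_ V) g₀ :=
    IsPullback.of_right (by rw [hfst, hg]; exact h) hsnd hp
  let eR := (Scheme.Modules.restrictFunctorIsoPullback (f ⁻¹ᵁ V).ι).app G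
  have hfl : FlatMod.IsFlatOver (f ∣_ V) (G.restrict (f ⁻¹ᵁ V).ι) :=
    PerfLocus7.isFlatOver_of_iso (f ∣_ V) eR.symm (CohPullLib.isFlatOver_baseChange hp hflat)
  obtain ⟨a⟩ := nonempty_lpull_factor g₀ V.ι g hg ((DCoh.Rpush f).obj (DCoh.inD X G))
  obtain ⟨b⟩ := nonempty_rho_rpush_inD f V G
  obtain ⟨c⟩ := nonempty_lpull_rpush_affine hsq (QCoh.isQCoh_restrict _ hG) hfl
  exact ⟨a.symm ≪≫ (DCoh.Lpull g₀).mapIso b ≪≫ c ≪≫ (DCoh.Rpush f').mapIso
    ((DerivedCategory.singleFunctor X'.Modules 0).mapIso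
      ((Scheme.Modules.pullback g'₀).mapIso eR ≪≫
        (Scheme.Modules.pullbackComp g'₀ (f ⁻¹ᵁ V).ι).app G ≪≫
        (Scheme.Modules.pullbackCongr hfst).app G))⟩

theorem betti_congr {A B : DCoh.D X} (e : A ≅ B) (x : X) [DCoh.HasLpull (X.fromSpecResidueField x)]
    (i : ℤ) : PerfD.betti A x i = PerfD.betti B x i :=
  (finrank_top_eq_stalk _ default).trans
    ((((DerSch.stalkFunctor _ default).mapIso ((DerivedCategory.homologyFunctor _ i).mapIso
      ((DCoh.Lpull (X.fromSpecResidueField x)).mapIso e))).toLinearEquiv.finrank_eq).trans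
        (finrank_top_eq_stalk _ default).symm)

theorem betti_lpull_of_isPerfect [∀ x : X, DCoh.HasLpull (X.fromSpecResidueField x)]
    [∀ t : T, DCoh.HasLpull (T.fromSpecResidueField t)]
    {E : DCoh.D X} (hE : DCoh.IsPerfect E) (g : T ⟶ X) [DCoh.HasLpull g] (t : T) (k : ℤ) :
    PerfD.betti ((DCoh.Lpull g).obj E) t k = PerfD.betti E (g.base t) k := by
  obtain ⟨U, j, _, ⟨y', hy⟩, P, a, b, hab, hfree, ⟨eE⟩⟩ := exists_free_rep hE (g.base t)
  obtain ⟨n, e, hP, -⟩ := exists_free_bounded hab hfree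
  exact betti_lpull g E t j y' hy hP e eE.hom (isPcMap_of_isIso (k - 1) eE.hom) (sub_one_lt k)

theorem betti_rho [∀ x : X, DCoh.HasLpull (X.fromSpecResidueField x)]
    [∀ t : T, DCoh.HasLpull (T.fromSpecResidueField t)]
    {E : DCoh.D X} (hE : DCoh.IsPerfect E) (j : T ⟶ X) [IsOpenImmersion j] (t : T) (k : ℤ) :
    PerfD.betti ((rho j).obj E) t k = PerfD.betti E (j.base t) k := by
  haveI := hasLpull j
  rw [betti_congr (rhoLpullIso j E) t k]
  exact betti_lpull_of_isPerfect hE j t k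

/-- The fibre dimensions of `Rf_* G` do not change under base change. -/
theorem betti_rpush_baseChange {f : X ⟶ S} [IsProper f] [LocallyOfFinitePresentation f] {g : T ⟶ S}
    {f' : X' ⟶ T} {g' : X' ⟶ X} (h : IsPullback g' f' f g) [DCoh.HasRpush f] [DCoh.HasRpush f']
    [∀ s : S, DCoh.HasLpull (S.fromSpecResidueField s)]
    [∀ t : T, DCoh.HasLpull (T.fromSpecResidueField t)]
    {G : X.Modules} (hG : CohB1.IsFP G) (hflat : FlatMod.IsFlatOver f G) (t : T) (k : ℤ) :
    PerfD.betti ((DCoh.Rpush f').obj (DCoh.inD X' ((Scheme.Modules.pullback g').obj G))) t k =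
      PerfD.betti ((DCoh.Rpush f).obj (DCoh.inD X G)) (g.base t) k := by
  haveI : IsProper f' := MorphismProperty.of_isPullback h ‹_›
  haveI : LocallyOfFinitePresentation f' := MorphismProperty.of_isPullback h ‹_›
  have hGq := QCoh.isQCoh_of_isFP hG
  have hK := isPerfect_rpush_inD f hG hflat
  have hK' := isPerfect_rpush_inD f' (CohPullLib.isFP_pullback_of_isQCoh g' hGq hG)
    (CohPullLib.isFlatOver_baseChange h hflat)
  obtain ⟨V, hV, hsV, -⟩ := exists_isAffineOpen_mem_and_subset (x := g.base t) (U := (⊤ : S.Opens)) trivial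
  let W : T.Opens := g ⁻¹ᵁ V
  let w : W := ⟨t, hsV⟩
  haveI : ∀ w : (W : Scheme.{u}), DCoh.HasLpull (Scheme.fromSpecResidueField (W : Scheme.{u}) w) :=
    fun w => hasLpull _
  have hq := (isPullback_morphismRestrict f' W).flip
  haveI := hasRpush_scheme (f' ∣_ W)
  haveI := hasLpull (W.ι ≫ g)
  obtain ⟨b⟩ := nonempty_rho_rpush_inD f' W ((Scheme.Modules.pullback g').obj G)
  obtain ⟨c⟩ := nonempty_lpull_rpush_factor (hq.paste_horiz h) hV (g ∣_ V) (morphismRestrict_ι g V) hGq hflat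
  let eP : ((Scheme.Modules.pullback g').obj G).restrict (f' ⁻¹ᵁ W).ι ≅
      (Scheme.Modules.pullback ((f' ⁻¹ᵁ W).ι ≫ g')).obj G :=
    (Scheme.Modules.restrictFunctorIsoPullback (f' ⁻¹ᵁ W).ι).app _ ≪≫
      (Scheme.Modules.pullbackComp (f' ⁻¹ᵁ W).ι g').app G
  calc _ = PerfD.betti ((rho W.ι).obj
        ((DCoh.Rpush f').obj (DCoh.inD X' ((Scheme.Modules.pullback g').obj G)))) w k :=
        (betti_rho hK' W.ι w k).symm
    _ = PerfD.betti ((DCoh.Lpull (W.ι ≫ g)).obj ((DCoh.Rpush f).obj (DCoh.inD X G))) w k :=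
        betti_congr (b ≪≫ (DCoh.Rpush (f' ∣_ W)).mapIso
          ((DerivedCategory.singleFunctor _ 0).mapIso eP) ≪≫ c.symm) w k
    _ = _ := betti_lpull_of_isPerfect hK (W.ι ≫ g) w k

end Groth.Agent.DerBC7
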