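import Groth.Agent.CohPullLib.BaseChange
import Groth.Agent.CohPullLib.NbhdRank
import Groth.Agent.FittX.Free
import Groth.Agent.FittX.Sheaf
import Groth.Agent.MorLib.IdealFG2
import Groth.Agent.QCoh.ProperOver
import Groth.Agent.QCoh.RpushClosed
import Groth.Agent.PerfLocus7.RelFlatBasic
import Groth.Agent.S9349
import Groth.Agent.KFlatLib.Perfect.Tensor

/-!
# Finitely presented models of modules with proper support; cohomologically flat push-forwards
-/

set_option linter.style.haveILetI false
set_option backward.isDefEq.respectTransparency false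

universe u

open CategoryTheory CategoryTheory.Limits AlgebraicGeometry

noncomputable section

namespace Groth.Agent.DerBC7

variable {X S : Scheme.{u}} {f : X ⟶ S} {G : X.Modules}

/-- A finitely presented module flat over the base with proper support comes from a proper finitely presented
closed subscheme. -/
theorem exists_proper_fp_model [LocallyOfFinitePresentation f] (hG : CohB1.IsFP G)
    (hflat : FlatMod.IsFlatOver f G) (hsupp : ClSub.IsProperOver f (CohB1.support G)) :
    ∃ (Z : Scheme.{u}) (i : Z ⟶ X) (GZ : Z.Modules), IsClosedImmersion i ∧ IsProper (i ≫ f) ∧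
      LocallyOfFinitePresentation (i ≫ f) ∧ Coh.IsQCoh GZ ∧ CohB1.IsFP GZ ∧
        FlatMod.IsFlatOver (i ≫ f) GZ ∧ Nonempty ((Scheme.Modules.pushforward i).obj GZ ≅ G) := by
  have hGq : Coh.IsQCoh G := QCoh.isQCoh_of_isFP hG
  have hft : CohB1.IsFT G := QCoh.isFT_of_isFP hG
  let I := Fitt.sheafIdeal G 0
  let i := I.subschemeι
  haveI : LocallyOfFinitePresentation i := MorLib.IdealFG.lfp_subschemeι (FittX.isFiniteTypeIdeal hG 0)
  have hrange : Set.range i ⊆ CohB1.support G := by
    rw [Scheme.IdealSheafData.range_subschemeι]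
    exact (FittX.support_sheafIdeal_zero hGq hft).le
  haveI : LocallyOfFiniteType f := inferInstance
  haveI : IsProper (i ≫ f) := QCoh.isProper_comp_of_isProperOver i hsupp hrange
  have hu : IsIso ((Scheme.Modules.pullbackPushforwardAdjunction i).unit.app G) :=
    (QCoh.isIso_unit_closed_iff i hGq).2 fun U a ha s => by
      rw [Scheme.IdealSheafData.ker_subschemeι, FittX.sheafIdeal_ideal hGq hft] at ha
      haveI := QCoh.finite_of_isFT hGq hft U.2
      exact Module.mem_annihilator.1 (FittX.ideal_annihilator ha) s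
  have hGZ : Coh.IsQCoh ((Scheme.Modules.pullback i).obj G) := QCoh.isQCoh_pullback i hGq
  let eG : G ≅ (Scheme.Modules.pushforward i).obj ((Scheme.Modules.pullback i).obj G) := @asIso _ _ _ _ _ hu
  exact ⟨_, i, _, inferInstance, inferInstance, inferInstance, hGZ, CohPullLib.isFP_pullback_of_isQCoh i hGq hG,
    (S9349.result i f _ hGZ).2 (PerfLocus7.isFlatOver_of_iso f eG hflat), ⟨eG.symm⟩⟩

/-- Vanishing higher direct images make the direct image finite locally free. -/
theorem isFinLocFree_push_of_vanishing [LocallyOfFinitePresentation f] [HasInjectiveResolutions X.Modules]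
    (hG : CohB1.IsFP G) (hflat : FlatMod.IsFlatOver f G) (hsupp : ClSub.IsProperOver f (CohB1.support G))
    (hvan : ∀ i : ℕ, 0 < i → IsZero ((Coh.Rpush f i).obj G)) :
    FlatMod.IsFinLocFree ((Coh.push f).obj G) := by
  obtain ⟨Z, i, GZ, hi, hp, hlfp, hq, hfp, hfl, ⟨e⟩⟩ := exists_proper_fp_model hG hflat hsupp
  haveI := hi
  haveI := hp
  haveI := hlfp
  haveI : HasInjectiveResolutions Z.Modules := KFlatLib.hasInjectiveResolutions_modules
  have hz : ∀ p, 0 < p → IsZero ((Coh.Rpush (i ≫ f) p).obj GZ) := fun p hp' => by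
    obtain ⟨c⟩ := QCoh.nonempty_Rpush_affine_push i f hq p
    exact ((hvan p hp').of_iso ((Coh.Rpush f p).mapIso e)).of_iso c.symm
  have hlf : ∀ p, 0 < p → FlatMod.IsFinLocFree ((Coh.Rpush (i ≫ f) p).obj GZ) := fun p hp' =>
    KFlatLib.isFinLocFree_of_isZero (hz p hp')
  have h0 := CohPullLib.isFinLocFree_of_exchAt (f := i ≫ f) hq hfp hfl (p := 0)
    (fun y => CohPullLib.exchAt_of_isFinLocFree_above hq hfp hfl hlf y 0 le_rfl)
    (fun y p' hp' => absurd hp' (by omega))
  haveI := SpObjSS.enoughInjectives_of_hasInjectiveResolutions (C := X.Modules)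
  haveI := QCoh.preservesFiniteLimits_push f
  obtain ⟨c⟩ := QCoh.nonempty_Rpush_affine_push i f hq 0
  let e' : (Coh.Rpush (i ≫ f) 0).obj GZ ≅ (Coh.push f).obj G :=
    c.symm ≪≫ (Coh.Rpush f 0).mapIso e ≪≫ (Scheme.Modules.pushforward f).rightDerivedZeroIsoSelf.app G
  intro x
  obtain ⟨U, n, hx, ⟨a⟩⟩ := h0 x
  exact ⟨U, n, hx, ⟨((Scheme.Modules.restrictFunctor U.ι).mapIso e').symm ≪≫ a⟩⟩

end Groth.Agent.DerBC7
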