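import Groth.Agent.DerBC7.ClosedModel
import Groth.Agent.CohPullLib.ModelFibre
import Groth.Agent.CAlgUI.Coherent
import Groth.Agent.QCoh.PushLin
import Groth.Agent.PnCoh.Finite.HHLin

/-!
# Cohomology over a coherent ring
-/

set_option linter.style.haveILetI false
set_option backward.isDefEq.respectTransparency false
set_option backward.isDefEq.respectTransparency.types false
set_option maxHeartbeats 1000000

universe u

open CategoryTheory CategoryTheory.Limits AlgebraicGeometry TopologicalSpace Opposite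

noncomputable section

namespace Groth.Agent.DerBC7

open Groth.Agent.CohPullLib Groth.Agent.QCoh Groth.Agent.FlatCxLib

theorem finitePresentation_homology {R : Type u} [CommRing R] (hR : CAlgUI.SubFP R R)
    (S : ShortComplex (ModuleCat.{u} R)) [Module.Finite R S.X₁] [Module.FinitePresentation R S.X₂]
    [Module.FinitePresentation R S.X₃] : Module.FinitePresentation R S.homology := by
  have hrange : (LinearMap.range S.g.hom).FG := by
    rw [LinearMap.range_eq_map]
    exact Module.Finite.fg_top.map _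
  haveI : Module.FinitePresentation R (LinearMap.range S.g.hom) :=
    CAlgUI.subFP_of_finitePresentation (M := S.X₃) hR _ hrange
  have hker : (LinearMap.ker S.g.hom).FG := by
    have := Module.FinitePresentation.fg_ker S.g.hom.rangeRestrict S.g.hom.surjective_rangeRestrict
    rwa [LinearMap.ker_rangeRestrict] at this
  haveI : Module.FinitePresentation R (LinearMap.ker S.g.hom) :=
    CAlgUI.subFP_of_finitePresentation (M := S.X₂) hR _ hker
  haveI : Module.FinitePresentation R (LinearMap.ker S.g.hom ⧸ LinearMap.range S.moduleCatToCycles) := by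
    refine Module.finitePresentation_of_surjective _ (Submodule.mkQ_surjective _) ?_
    rw [Submodule.ker_mkQ, LinearMap.range_eq_map]
    exact Module.Finite.fg_top.map _
  haveI : Module.FinitePresentation R ↑(S.moduleCatLeftHomologyData.H) :=
    (inferInstance : Module.FinitePresentation R
      (LinearMap.ker S.g.hom ⧸ LinearMap.range S.moduleCatToCycles))
  exact Module.FinitePresentation.of_equiv S.moduleCatHomologyIso.toLinearEquiv.symm

/-- `H^i(X, G)` is finitely presented over a coherent ring. -/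
theorem finitePresentation_HH (R : Type u) [CommRing R] (hR : CAlgUI.SubFP R R) {X : Scheme.{u}}
    [X.Over (Spec (CommRingCat.of R))] [LocallyOfFinitePresentation (X ↘ Spec (CommRingCat.of R))]
    (G : X.Modules) (hG : CohB1.IsFP G) (hflat : FlatMod.IsFlatOver (X ↘ Spec (CommRingCat.of R)) G)
    (hsupp : ClSub.IsProperOver (X ↘ Spec (CommRingCat.of R)) (CohB1.support G)) (p : ℕ) :
    Module.FinitePresentation R (Coh.HH X G p) := by
  obtain ⟨Z, i, GZ, hi, hp, hlfp, hq, hfp, hfl, ⟨e⟩⟩ := exists_proper_fp_model hG hflat hsupp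
  haveI := hi
  haveI := hp
  haveI := hlfp
  letI : Z.Over (Spec (CommRingCat.of R)) := ⟨i ≫ X ↘ Spec (CommRingCat.of R)⟩
  haveI : IsProper (Z ↘ Spec (CommRingCat.of R)) := hp
  obtain ⟨A₂, X₂, f₂, g₂, G₂, hA₂, hf₂, hsq, hG₂, hG₂fl, ⟨ψ⟩⟩ :=
    exists_noetherian_model (i ≫ X ↘ Spec (CommRingCat.of R)) hq hfp hfl
  haveI := CohPullLib.isNoetherianRing_of_fg hA₂
  letI : X₂.Over (Spec (CommRingCat.of ↥A₂)) := ⟨f₂⟩
  haveI : IsProper (X₂ ↘ Spec (CommRingCat.of ↥A₂)) := hf₂
  haveI : CompactSpace X₂ := QuasiCompact.compactSpace_of_compactSpace (X₂ ↘ Spec (CommRingCat.of ↥A₂))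
  haveI : X₂.IsSeparated := ⟨by
    rw [← Limits.terminal.comp_from (X₂ ↘ Spec (CommRingCat.of ↥A₂))]
    infer_instance⟩
  obtain ⟨P₀, h1, h2, -, h4, -⟩ := exists_chain_model G₂ hG₂ hG₂fl
  let φ : ↥A₂ →+* R := algebraMap (↥A₂) R
  obtain ⟨e₀⟩ := h4 p
  obtain ⟨e'⟩ := exists_tfun_bc φ g₂ hsq hG₂.1 ψ P₀ _ p e₀
  obtain ⟨L⟩ := nonempty_linearEquiv_HH (A := R) (F := GZ) hq p _ e'
  let Q := CohIII.bcCx φ P₀
  have hfin : ∀ j, Module.Finite R (Q.X j) := fun j => finite_bcCx_X_aux P₀ φ h1 j
  have hfree : ∀ j, Module.Free R (Q.X j) := fun j => by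
    letI := φ.toAlgebra
    haveI := h2 j
    exact inferInstanceAs (Module.Free R (TensorProduct ↥A₂ R (P₀.X j)))
  have hfpQ : ∀ j, Module.FinitePresentation R (Q.X j) := fun j =>
    haveI := hfin j
    haveI := hfree j
    Module.finitePresentation_of_projective _ _
  haveI : Module.FinitePresentation R (Q.homology (-(p : ℤ))) := by
    haveI : Module.Finite R (Q.sc (-(p : ℤ))).X₁ := hfin _
    haveI : Module.FinitePresentation R (Q.sc (-(p : ℤ))).X₂ := hfpQ _
    haveI : Module.FinitePresentation R (Q.sc (-(p : ℤ))).X₃ := hfpQ _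
    exact finitePresentation_homology hR (Q.sc (-(p : ℤ)))
  let L' := L.trans (tUnitIso (P := Q) (-(p : ℤ))).toLinearEquiv
  letI := modHH (Coh.toGlobal (Z ↘ Spec (CommRingCat.of R))) GZ p
  haveI : Module.FinitePresentation R (Coh.HH Z GZ p) := Module.FinitePresentation.of_equiv L'.symm
  obtain ⟨l⟩ := HH_push_linear i (Coh.toGlobal (X ↘ Spec (CommRingCat.of R)))
    (Coh.toGlobal (Z ↘ Spec (CommRingCat.of R))) (fun a => rfl) hq p
  letI := modHH (Coh.toGlobal (X ↘ Spec (CommRingCat.of R))) ((Coh.push i).obj GZ) p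
  haveI : Module.FinitePresentation R (Coh.HH X ((Coh.push i).obj GZ) p) :=
    Module.FinitePresentation.of_equiv l
  have hc : ∀ {M N : X.Modules} (a : M ⟶ N) (b : N ⟶ M), a ≫ b = 𝟙 M → ∀ x,
      PnCoh.Finite.mapLin R b p (PnCoh.Finite.mapLin R a p x) = x := fun a b h x => by
    show Sheaf.H.map ((QCoh.toAbFunctor X).map b) p (Sheaf.H.map ((QCoh.toAbFunctor X).map a) p x) = x
    rw [← Sheaf.H.map_comp_apply, ← Functor.map_comp, h, CategoryTheory.Functor.map_id,
      Sheaf.H.map_id_apply]
  exact Module.FinitePresentation.of_equiv (LinearEquiv.ofLinear (PnCoh.Finite.mapLin R e.hom p)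
    (PnCoh.Finite.mapLin R e.inv p) (LinearMap.ext (hc _ _ e.inv_hom_id))
    (LinearMap.ext (hc _ _ e.hom_inv_id)))

end Groth.Agent.DerBC7
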