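import Mathlib.CategoryTheory.Adjunction.Basic

/-!
# The mate of derived functors on a resolved object
-/

universe v₁ v₂ v₃ v₄ v₅ v₆ v₇ v₈ u₁ u₂ u₃ u₄ u₅ u₆ u₇ u₈

open CategoryTheory

namespace Groth.Agent.DerBC7

variable {Kx : Type u₁} [Category.{v₁} Kx] {Ks : Type u₂} [Category.{v₂} Ks]
  {Kx' : Type u₃} [Category.{v₃} Kx'] {Ks' : Type u₄} [Category.{v₄} Ks']
  {Dx : Type u₅} [Category.{v₅} Dx] {Ds : Type u₆} [Category.{v₆} Ds]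
  {Dx' : Type u₇} [Category.{v₇} Dx'] {Ds' : Type u₈} [Category.{v₈} Ds']
  {Lx : Kx ⥤ Dx} {Ls : Ks ⥤ Ds} {Lx' : Kx' ⥤ Dx'} {Ls' : Ks' ⥤ Ds'}
  {f : Ks ⥤ Kx} {fr : Kx ⥤ Ks} {f' : Ks' ⥤ Kx'} {f'r : Kx' ⥤ Ks'} {g : Ks ⥤ Ks'} {g' : Kx ⥤ Kx'}
  (adj : f ⊣ fr) (adj' : f' ⊣ f'r)
  {F : Ds ⥤ Dx} {Fr : Dx ⥤ Ds} {F' : Ds' ⥤ Dx'} {F'r : Dx' ⥤ Ds'} {G : Ds ⥤ Ds'} {G' : Dx ⥤ Dx'}
  (af : F ⊣ Fr) (af' : F' ⊣ F'r)
  (αf : Ls ⋙ F ⟶ f ⋙ Lx) (αf' : Ls' ⋙ F' ⟶ f' ⋙ Lx') (αg : Ls ⋙ G ⟶ g ⋙ Ls')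
  (αg' : Lx ⋙ G' ⟶ g' ⋙ Lx') (β : fr ⋙ Ls ⟶ Lx ⋙ Fr) (β' : f'r ⋙ Ls' ⟶ Lx' ⋙ F'r)
  (c : g ⋙ f' ⟶ f ⋙ g') (σ : G ⋙ F' ⟶ F ⋙ G')

/-- The mate of the derived functors on the image of `J` is the mate on `J`. -/
theorem mate_formula
    (hσ : ∀ Y, σ.app (Ls.obj Y) ≫ G'.map (αf.app Y) ≫ αg'.app (f.obj Y) =
      F'.map (αg.app Y) ≫ αf'.app (g.obj Y) ≫ Lx'.map (c.app Y))
    (hε : ∀ J, F.map (β.app J) ≫ af.counit.app (Lx.obj J) = αf.app (fr.obj J) ≫ Lx.map (adj.counit.app J))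
    (hη : ∀ Y, af'.unit.app (Ls'.obj Y) ≫ F'r.map (αf'.app Y) =
      Ls'.map (adj'.unit.app Y) ≫ β'.app (f'.obj Y))
    (J : Kx) :
    G.map (β.app J) ≫ (af'.unit.app (G.obj (Fr.obj (Lx.obj J))) ≫ F'r.map (σ.app (Fr.obj (Lx.obj J))) ≫
        F'r.map (G'.map (af.counit.app (Lx.obj J)))) ≫ F'r.map (αg'.app J) =
      αg.app (fr.obj J) ≫ Ls'.map (adj'.unit.app (g.obj (fr.obj J)) ≫ f'r.map (c.app (fr.obj J)) ≫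
        f'r.map (g'.map (adj.counit.app J))) ≫ β'.app (g'.obj J) := by
  have n₁ := af'.unit.naturality (G.map (β.app J))
  have n₂ := σ.naturality (β.app J)
  have n₃ := αg'.naturality (adj.counit.app J)
  have n₄ := af'.unit.naturality (αg.app (fr.obj J))
  have n₅ := β'.naturality (c.app (fr.obj J) ≫ g'.map (adj.counit.app J))
  have h₁ := hσ (fr.obj J)
  have h₂ := hε J
  have h₃ := hη (g.obj (fr.obj J))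
  dsimp at n₁ n₂ n₃ n₄ n₅ h₁ h₂ h₃ ⊢
  have key : F'.map (G.map (β.app J)) ≫ σ.app (Fr.obj (Lx.obj J)) ≫
      G'.map (af.counit.app (Lx.obj J)) ≫ αg'.app J =
      F'.map (αg.app (fr.obj J)) ≫ αf'.app (g.obj (fr.obj J)) ≫
        Lx'.map (c.app (fr.obj J) ≫ g'.map (adj.counit.app J)) := by
    rw [reassoc_of% n₂, ← G'.map_comp_assoc, h₂, G'.map_comp, Category.assoc, n₃, reassoc_of% h₁,
      ← Lx'.map_comp]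
  simp only [Category.assoc]
  rw [← Category.assoc (G.map (β.app J)), n₁, Category.assoc, ← F'r.map_comp, ← F'r.map_comp,
    ← F'r.map_comp]
  skip
  rw [key, F'r.map_comp, ← Category.assoc, ← n₄, Category.assoc, F'r.map_comp, reassoc_of% h₃, ← n₅,
    ← Ls'.map_comp_assoc, ← f'r.map_comp]

end Groth.Agent.DerBC7
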