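import Mathlib.CategoryTheory.Adjunction.Mates

/-!
# Base change morphisms as mates
-/

universe v₁ v₂ v₃ v₄ u₁ u₂ u₃ u₄

open CategoryTheory

namespace Groth.Agent.DerBC7

variable {X : Type u₁} [Category.{v₁} X] {S : Type u₂} [Category.{v₂} S]
  {X' : Type u₃} [Category.{v₃} X'] {S' : Type u₄} [Category.{v₄} S']
  {F : S ⥤ X} {Fr : X ⥤ S} {F' : S' ⥤ X'} {F'r : X' ⥤ S'}
  {G : S ⥤ S'} {Gr : S' ⥤ S} {G' : X ⥤ X'} {G'r : X' ⥤ X}
  (af : F ⊣ Fr) (af' : F' ⊣ F'r) (ag : G ⊣ Gr) (ag' : G' ⊣ G'r)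

/-- The identification of the composites of right adjoints induced by one of left adjoints. -/
def squareIso (σ : G ⋙ F' ≅ F ⋙ G') : G'r ⋙ Fr ≅ F'r ⋙ Gr :=
  conjugateIsoEquiv (af.comp ag') (ag.comp af') σ

/-- The same, for a natural transformation conjugate to a given identification of right adjoints. -/
theorem homEquiv_symm_eq_mate' (σ : G ⋙ F' ⟶ F ⋙ G') (p : G'r ⋙ Fr ⟶ F'r ⋙ Gr)
    (h : conjugateEquiv (af.comp ag') (ag.comp af') σ = p) (K : X) :
    (ag.homEquiv _ _).symm (Fr.map (ag'.unit.app K) ≫ p.app (G'.obj K)) =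
      af'.unit.app (G.obj (Fr.obj K)) ≫ F'r.map (σ.app (Fr.obj K)) ≫
        F'r.map (G'.map (af.counit.app K)) := by
  subst h
  apply (ag.homEquiv _ _).injective
  rw [Equiv.apply_symm_apply, Adjunction.homEquiv_unit, Functor.map_comp, Functor.map_comp]
  have h := unit_conjugateEquiv (af.comp ag') (ag.comp af') σ (Fr.obj K)
  have hn := (conjugateEquiv (af.comp ag') (ag.comp af') σ).naturality (G'.map (af.counit.app K))
  dsimp at h hn ⊢
  simp only [Adjunction.comp_unit_app, Category.assoc, Functor.comp_map] at h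
  rw [← reassoc_of% h, ← hn]
  have hu := ag'.unit.naturality (af.counit.app K)
  dsimp at hu
  rw [← Fr.map_comp_assoc, ← hu, Fr.map_comp_assoc, af.right_triangle_components_assoc]

/-- The transpose of `Fr η'` followed by the identification is the mate of `σ`. -/
theorem homEquiv_symm_eq_mate (σ : G ⋙ F' ≅ F ⋙ G') (K : X) :
    (ag.homEquiv _ _).symm (Fr.map (ag'.unit.app K) ≫ (squareIso af af' ag ag' σ).hom.app (G'.obj K)) =
      af'.unit.app (G.obj (Fr.obj K)) ≫ F'r.map (σ.hom.app (Fr.obj K)) ≫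
        F'r.map (G'.map (af.counit.app K)) :=
  homEquiv_symm_eq_mate' af af' ag ag' σ.hom _ rfl K

end Groth.Agent.DerBC7
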