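import Groth.Agent.KFlatLib.Scheme.AcyclicPush
import Groth.Agent.DerBC7.Mate
import Groth.Agent.DerBC7.Formula
import Groth.Prelude.Def_DCoh3
import Groth.Prelude.Def_CohBC2

/-!
# The derived base change morphism on resolved complexes
-/

set_option linter.style.haveILetI false
set_option backward.isDefEq.respectTransparency false

universe u

open CategoryTheory CategoryTheory.Limits AlgebraicGeometry

attribute [local instance] HasDerivedCategory.standard

noncomputable section

namespace Groth.Agent.DerBC7

open Groth.Agent.KFlatLib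

variable {X Y S X' S' : Scheme.{u}}

/-- The comparison `Qh ⋙ Lf^* ⟶ f^* ⋙ Qh`. -/
abbrev αK (f : X ⟶ Y) [DCoh.HasLpull f] :=
  (DCoh.pullKh f).totalLeftDerivedCounit DerivedCategory.Qh
    (HomotopyCategory.quasiIso Y.Modules (ComplexShape.up ℤ))

/-- The comparison `f_* ⋙ Qh ⟶ Qh ⋙ Rf_*`. -/
abbrev βK (f : X ⟶ Y) [DCoh.HasRpush f] :=
  (DCoh.pushKh f).totalRightDerivedUnit DerivedCategory.Qh
    (HomotopyCategory.quasiIso X.Modules (ComplexShape.up ℤ))

/-- `f^* ⊣ f_*` on homotopy categories. -/
abbrev adjK (f : X ⟶ Y) :=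
  adjHtpy (ComplexShape.up ℤ) (Scheme.Modules.pullbackPushforwardAdjunction f)

/-- The adjunction `Lf^* ⊣ Rf_*` with its characterising formulas. -/
theorem exists_adj_formula (f : X ⟶ Y) [DCoh.HasLpull f] [DCoh.HasRpush f] :
    ∃ a : DCoh.Lpull f ⊣ DCoh.Rpush f,
      (∀ J, (DCoh.Lpull f).map ((βK f).app J) ≫ a.counit.app (DerivedCategory.Qh.obj J) =
        (αK f).app (((Scheme.Modules.pushforward f).mapHomotopyCategory _).obj J) ≫
          DerivedCategory.Qh.map ((adjK f).counit.app J)) ∧
      (∀ K, a.unit.app (DerivedCategory.Qh.obj K) ≫ (DCoh.Rpush f).map ((αK f).app K) =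
        DerivedCategory.Qh.map ((adjK f).unit.app K) ≫
          (βK f).app (((Scheme.Modules.pullback f).mapHomotopyCategory _).obj K)) := by
  let WX := HomotopyCategory.quasiIso X.Modules (ComplexShape.up ℤ)
  let WY := HomotopyCategory.quasiIso Y.Modules (ComplexShape.up ℤ)
  let α := (DCoh.pullKh f).totalLeftDerivedCounit DerivedCategory.Qh WY
  let β := (DCoh.pushKh f).totalRightDerivedUnit DerivedCategory.Qh WX
  haveI := TriCat.qh_isLeftAdjoint_of_exists_resolution (A := X.Modules) exists_kInjective_res
  let adjQ := Adjunction.ofIsLeftAdjoint (DerivedCategory.Qh (C := X.Modules))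
  haveI : (DerivedCategory.Qh.rightAdjoint ⋙ DCoh.pushKh f).IsRightDerivedFunctor
      (Functor.whiskerRight adjQ.unit (DCoh.pushKh f)) WX :=
    TriCat.isRightDerivedFunctor_of_adjunction adjQ WX (DCoh.pushKh f)
  let e₀ : DerivedCategory.Qh.rightAdjoint ⋙ DCoh.pushKh f ≅ DCoh.Rpush f :=
    Functor.rightDerivedUnique _ _ (Functor.whiskerRight adjQ.unit (DCoh.pushKh f)) β WX
  haveI : (DCoh.Rpush f ⋙ DCoh.Lpull f).IsRightDerivedFunctor
      (Functor.whiskerRight β (DCoh.Lpull f) ≫ (Functor.associator _ _ _).hom) WX := by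
    haveI h := TriCat.isRightDerivedFunctor_of_adjunction adjQ WX (DCoh.pushKh f ⋙ DCoh.Lpull f)
    refine (Functor.isRightDerivedFunctor_iff_of_iso _ _ WX
      ((Functor.associator _ _ _).symm ≪≫ Functor.isoWhiskerRight e₀ (DCoh.Lpull f)) ?_).1 h
    ext K
    simp only [NatTrans.comp_app, Functor.whiskerLeft_app, Functor.whiskerRight_app, Iso.trans_hom,
      Iso.symm_hom, Functor.associator_inv_app, Functor.isoWhiskerRight_hom,
      Functor.associator_hom_app, Category.id_comp]
    erw [Category.comp_id]
    refine ((DCoh.Lpull f).map_comp _ _).symm.trans ?_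
    congr 1
    exact (Functor.rightDerivedNatTrans_app (DerivedCategory.Qh.rightAdjoint ⋙ DCoh.pushKh f)
      (DCoh.Rpush f) (Functor.whiskerRight adjQ.unit (DCoh.pushKh f)) β WX (𝟙 _) K).trans
      (Category.id_comp _)
  let q := HomotopyCategory.quotient Y.Modules (ComplexShape.up ℤ)
  haveI : (DCoh.Lpull f ⋙ DCoh.Rpush f).IsLeftDerivedFunctor
      ((Functor.associator _ _ _).inv ≫ Functor.whiskerRight α (DCoh.Rpush f)) WY := by
    refine isLeftDerivedFunctor_of_isIso (L := DerivedCategory.Q) (q := q)
      (HomologicalComplex.homotopyEquivalences Y.Modules (ComplexShape.up ℤ))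
      (DerivedCategory.quotientCompQhIso Y.Modules)
      ((resOfFunctor (Scheme.Modules.pullback f)
        (fun _ _ a hP hQ ha => haveI := ha; quasiIso_pullback f a hP hQ)).postcomp (DCoh.Rpush f))
      _ fun K hK => ?_
    haveI : IsIso (α.app (q.obj K)) := isIso_Lpull_counit f hK
    simp only [NatTrans.comp_app, Functor.associator_inv_app, Functor.whiskerRight_app]
    erw [Category.id_comp]
    infer_instance
  exact ⟨(adjK f).derived WY WX α β, fun J => Adjunction.derivedε_fac_app (adjK f) WX α β J,
    fun K => Adjunction.derivedη_fac_app (adjK f) WY α β K⟩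

section Square

variable (f : X ⟶ S) (g : S' ⟶ S) (f' : X' ⟶ S') (g' : X' ⟶ X)

/-- The comparison for a composite of two derived inverse images. -/
abbrev αComp [DCoh.HasLpull g] [DCoh.HasLpull f'] :
    DerivedCategory.Qh ⋙ DCoh.Lpull g ⋙ DCoh.Lpull f' ⟶
      ((Scheme.Modules.pullback g).mapHomotopyCategory (ComplexShape.up ℤ) ⋙
        (Scheme.Modules.pullback f').mapHomotopyCategory (ComplexShape.up ℤ)) ⋙ DerivedCategory.Qh :=
  (Functor.associator _ _ _).inv ≫ Functor.whiskerRight (αK g) (DCoh.Lpull f') ≫
    (Functor.associator _ _ _).hom ≫ Functor.whiskerLeft _ (αK f') ≫ (Functor.associator _ _ _).inv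

/-- A composite of derived inverse images is derived from the composite of inverse images. -/
theorem isLeftDerived_comp [DCoh.HasLpull g] [DCoh.HasLpull f'] :
    (DCoh.Lpull g ⋙ DCoh.Lpull f').IsLeftDerivedFunctor (αComp g f')
      (HomotopyCategory.quasiIso S.Modules (ComplexShape.up ℤ)) := by
  let q := HomotopyCategory.quotient S.Modules (ComplexShape.up ℤ)
  let R : Resolution (qisX S) (q ⋙ ((Scheme.Modules.pullback g).mapHomotopyCategory (ComplexShape.up ℤ) ⋙
      (Scheme.Modules.pullback f').mapHomotopyCategory (ComplexShape.up ℤ)) ⋙ DerivedCategory.Qh) :=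
    { Good := DCoh.IsKFlat
      P := kRes S
      ψ := (flatCover S).ψ
      good := isKFlat_kRes
      weq := fun K => (flatCover S).quasiIso_ψ K
      inverts := fun A B a hA hB (ha : QuasiIso a) => by
        haveI := ha
        haveI := quasiIso_pullback g a hA hB
        haveI := quasiIso_pullback f' ((pullCx g).map a) (isKFlat_pullback g hA) (isKFlat_pullback g hB)
        have := isIso_Q_map _ ‹QuasiIso ((pullCx f').map ((pullCx g).map a))›
        exact (NatIso.isIso_map_iff (quotientMapIso (Scheme.Modules.pullback f')) ((pullCx g).map a)).2 this }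
  refine isLeftDerivedFunctor_of_isIso (L := DerivedCategory.Q) (q := q)
    (HomologicalComplex.homotopyEquivalences S.Modules (ComplexShape.up ℤ))
    (DerivedCategory.quotientCompQhIso S.Modules) R _ fun K hK => ?_
  haveI : IsIso ((αK g).app (q.obj K)) := isIso_Lpull_counit g hK
  haveI : IsIso ((αK f').app (((Scheme.Modules.pullback g).mapHomotopyCategory _).obj (q.obj K))) :=
    isIso_Lpull_counit f' (isKFlat_pullback g hK)
  simp only [αComp, NatTrans.comp_app, Functor.associator_inv_app, Functor.associator_hom_app,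
    Functor.whiskerRight_app, Functor.whiskerLeft_app]
  infer_instance

variable (w : g' ≫ f = f' ≫ g)

/-- The comparison of the two composite inverse images. -/
def pullSquare : Scheme.Modules.pullback g ⋙ Scheme.Modules.pullback f' ≅
    Scheme.Modules.pullback f ⋙ Scheme.Modules.pullback g' :=
  Scheme.Modules.pullbackComp f' g ≪≫ Scheme.Modules.pullbackCongr w.symm ≪≫
    (Scheme.Modules.pullbackComp g' f).symm

/-- The comparison on homotopy categories. -/
def pullSquareK :
    (Scheme.Modules.pullback g).mapHomotopyCategory (ComplexShape.up ℤ) ⋙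
        (Scheme.Modules.pullback f').mapHomotopyCategory (ComplexShape.up ℤ) ≅
      (Scheme.Modules.pullback f).mapHomotopyCategory (ComplexShape.up ℤ) ⋙
        (Scheme.Modules.pullback g').mapHomotopyCategory (ComplexShape.up ℤ) :=
  Functor.mapHomotopyCategoryCompIso (pullSquare f g f' g' w) (ComplexShape.up ℤ) ≪≫
    (Functor.mapHomotopyCategoryCompIso (Iso.refl _) (ComplexShape.up ℤ)).symm

/-- The comparison of composite derived inverse images. -/
theorem exists_square_iso [DCoh.HasLpull f] [DCoh.HasLpull g] [DCoh.HasLpull f'] [DCoh.HasLpull g'] :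
    ∃ σ : DCoh.Lpull g ⋙ DCoh.Lpull f' ≅ DCoh.Lpull f ⋙ DCoh.Lpull g', ∀ K,
      σ.hom.app (DerivedCategory.Qh.obj K) ≫ (DCoh.Lpull g').map ((αK f).app K) ≫
          (αK g').app (((Scheme.Modules.pullback f).mapHomotopyCategory _).obj K) =
        (DCoh.Lpull f').map ((αK g).app K) ≫
          (αK f').app (((Scheme.Modules.pullback g).mapHomotopyCategory _).obj K) ≫
            DerivedCategory.Qh.map ((pullSquareK f g f' g' w).hom.app K) := by
  let W := HomotopyCategory.quasiIso S.Modules (ComplexShape.up ℤ)
  haveI := isLeftDerived_comp g f'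
  haveI := isLeftDerived_comp f g'
  refine ⟨Functor.leftDerivedNatIso _ _ (αComp g f') (αComp f g') W
    (Functor.isoWhiskerRight (pullSquareK f g f' g' w) DerivedCategory.Qh), fun K => ?_⟩
  have h := Functor.leftDerivedNatTrans_app (DCoh.Lpull g ⋙ DCoh.Lpull f') (DCoh.Lpull f ⋙ DCoh.Lpull g')
    (αComp g f') (αComp f g') W
    (Functor.whiskerRight (pullSquareK f g f' g' w).hom DerivedCategory.Qh) K
  simp only [αComp, NatTrans.comp_app, Functor.associator_inv_app, Functor.associator_hom_app,
    Functor.whiskerRight_app, Functor.whiskerLeft_app, Functor.comp_obj, Category.id_comp,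
    Category.comp_id, Category.assoc] at h
  exact h

/-- The base change map on modules, as a mate. -/
def tauNat : Scheme.Modules.pushforward f ⋙ Scheme.Modules.pullback g ⟶
    Scheme.Modules.pullback g' ⋙ Scheme.Modules.pushforward f' where
  app M := (Scheme.Modules.pullbackPushforwardAdjunction f').unit.app _ ≫
    (Scheme.Modules.pushforward f').map
      ((pullSquare f g f' g' w).hom.app ((Scheme.Modules.pushforward f).obj M) ≫
        (Scheme.Modules.pullback g').map ((Scheme.Modules.pullbackPushforwardAdjunction f).counit.app M))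
  naturality M N φ := by
    have h₁ := (Scheme.Modules.pullbackPushforwardAdjunction f').unit.naturality
      ((Scheme.Modules.pullback g).map ((Scheme.Modules.pushforward f).map φ))
    have h₂ := (pullSquare f g f' g' w).hom.naturality ((Scheme.Modules.pushforward f).map φ)
    have h₃ := (Scheme.Modules.pullbackPushforwardAdjunction f).counit.naturality φ
    dsimp at h₁ h₂ h₃ ⊢
    rw [reassoc_of% h₁, Category.assoc, ← Functor.map_comp, ← Functor.map_comp]
    congr 2
    rw [reassoc_of% h₂, Category.assoc, ← Functor.map_comp, ← Functor.map_comp, h₃]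

theorem conjugate_congr {A B : Scheme.{u}} {h₁ h₂ : A ⟶ B} (h : h₁ = h₂) :
    conjugateEquiv (Scheme.Modules.pullbackPushforwardAdjunction h₁)
        (Scheme.Modules.pullbackPushforwardAdjunction h₂) (Scheme.Modules.pullbackCongr h.symm).hom =
      (Scheme.Modules.pushforwardCongr h).hom := by
  subst h
  rw [show (Scheme.Modules.pullbackCongr (rfl : h₁ = h₁)).hom = 𝟙 _ from rfl, conjugateEquiv_id]
  ext M U : 3
  simp

theorem conjugate_pullSquare :
    conjugateEquiv
        ((Scheme.Modules.pullbackPushforwardAdjunction f).comp (Scheme.Modules.pullbackPushforwardAdjunction g'))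
        ((Scheme.Modules.pullbackPushforwardAdjunction g).comp (Scheme.Modules.pullbackPushforwardAdjunction f'))
        (pullSquare f g f' g' w).hom =
      (Scheme.Modules.pushforwardComp g' f).hom ≫ (Scheme.Modules.pushforwardCongr w).hom ≫
        (Scheme.Modules.pushforwardComp f' g).inv := by
  have h : conjugateEquiv (Scheme.Modules.pullbackPushforwardAdjunction (f' ≫ g))
      ((Scheme.Modules.pullbackPushforwardAdjunction g).comp (Scheme.Modules.pullbackPushforwardAdjunction f'))
      (Scheme.Modules.pullbackComp f' g).hom = (Scheme.Modules.pushforwardComp f' g).inv := by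
    rw [← cancel_epi (Scheme.Modules.pushforwardComp f' g).hom, Iso.hom_inv_id,
      ← Scheme.Modules.conjugateEquiv_pullbackComp_inv f' g, conjugateEquiv_comp, Iso.hom_inv_id,
      conjugateEquiv_id]
  rw [← h, ← conjugate_congr w, ← Scheme.Modules.conjugateEquiv_pullbackComp_inv g' f,
    conjugateEquiv_comp, conjugateEquiv_comp]
  simp only [pullSquare, Iso.trans_hom, Iso.symm_hom, Category.assoc]

/-- The mate is the base change map `CohBC.bc0`. -/
theorem tauNat_app (M : X.Modules) : (tauNat f g f' g' w).app M = CohBC.bc0 f g f' g' w M := by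
  have h := homEquiv_symm_eq_mate' (Scheme.Modules.pullbackPushforwardAdjunction f)
    (Scheme.Modules.pullbackPushforwardAdjunction f') (Scheme.Modules.pullbackPushforwardAdjunction g)
    (Scheme.Modules.pullbackPushforwardAdjunction g') (pullSquare f g f' g' w).hom _
    (conjugate_pullSquare f g f' g' w) M
  simp only [NatTrans.comp_app] at h
  rw [CohBC.bc0, CohBC.bc0Adj]
  refine Eq.trans ?_ h.symm
  simp [tauNat]

/-- On a complex, the derived base change map is the base change map termwise. -/
theorem exists_bc_formula [DCoh.HasRpush f] [DCoh.HasRpush g] [DCoh.HasLpull g] [DCoh.HasRpush f']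
    [DCoh.HasRpush g'] [DCoh.HasLpull g'] (adjg : DCoh.Lpull g ⊣ DCoh.Rpush g)
    (adjg' : DCoh.Lpull g' ⊣ DCoh.Rpush g') :
    ∃ e : DCoh.Rpush g' ⋙ DCoh.Rpush f ≅ DCoh.Rpush f' ⋙ DCoh.Rpush g,
      ∀ J : CochainComplex X.Modules ℤ,
        (DCoh.Lpull g).map ((βK f).app ((HomotopyCategory.quotient X.Modules _).obj J)) ≫
          DCoh.baseChangeApp adjg adjg' e
            (DerivedCategory.Qh.obj ((HomotopyCategory.quotient X.Modules _).obj J)) ≫
          (DCoh.Rpush f').map ((αK g').app ((HomotopyCategory.quotient X.Modules _).obj J)) =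
        (αK g).app (((Scheme.Modules.pushforward f).mapHomotopyCategory _).obj
            ((HomotopyCategory.quotient X.Modules _).obj J)) ≫
          DerivedCategory.Qh.map ((HomotopyCategory.quotient S'.Modules _).map
            ((NatTrans.mapHomologicalComplex (tauNat f g f' g' w) (ComplexShape.up ℤ)).app J)) ≫
          (βK f').app (((Scheme.Modules.pullback g').mapHomotopyCategory _).obj
            ((HomotopyCategory.quotient X.Modules _).obj J)) := by
  haveI := hasLpull f
  haveI := hasLpull f'
  obtain ⟨af, hε, -⟩ := exists_adj_formula f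
  obtain ⟨af', -, hη⟩ := exists_adj_formula f'
  obtain ⟨σ, hσ⟩ := exists_square_iso f g f' g' w
  refine ⟨squareIso af af' adjg adjg' σ, fun J => ?_⟩
  rw [show DCoh.baseChangeApp adjg adjg' (squareIso af af' adjg adjg' σ)
      (DerivedCategory.Qh.obj ((HomotopyCategory.quotient X.Modules _).obj J)) = _ from
    homEquiv_symm_eq_mate af af' adjg adjg' σ _]
  refine (mate_formula (adjK f) (adjK f') af af' (αK f) (αK f') (αK g) (αK g') (βK f) (βK f')
    (pullSquareK f g f' g' w).hom σ.hom hσ hε hη _).trans ?_
  refine congrArg (fun t => _ ≫ DerivedCategory.Qh.map t ≫ _) ?_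
  let q := HomotopyCategory.quotient X'.Modules (ComplexShape.up ℤ)
  let a := (Scheme.Modules.pullback g).mapHomologicalComplex (ComplexShape.up ℤ)
  let b := (Scheme.Modules.pushforward f).mapHomologicalComplex (ComplexShape.up ℤ)
  let u : (a.obj (b.obj J)) ⟶ (((Scheme.Modules.pushforward f').mapHomologicalComplex (ComplexShape.up ℤ)).obj
      (((Scheme.Modules.pullback f').mapHomologicalComplex (ComplexShape.up ℤ)).obj (a.obj (b.obj J)))) :=
    { f := fun i => (Scheme.Modules.pullbackPushforwardAdjunction f').unit.app _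
      comm' := fun i j _ => ((Scheme.Modules.pullbackPushforwardAdjunction f').unit.naturality _).symm }
  show (HomotopyCategory.quotient S'.Modules _).map u ≫
      (HomotopyCategory.quotient S'.Modules _).map _ ≫ (HomotopyCategory.quotient S'.Modules _).map _ = _
  erw [← Functor.map_comp, ← Functor.map_comp]
  refine congrArg _ (HomologicalComplex.hom_ext _ _ fun i => ?_)
  simp [tauNat, u, a, b]
  erw [CategoryTheory.Functor.map_id, Category.id_comp]
  rfl

end Square

end Groth.Agent.DerBC7
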