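import Groth.Agent.DerBC7.LpullTri
import Groth.Agent.KFlatLib.Scheme.RpushQCoh
import Groth.Agent.KFlatLib.Scheme.MVPush
import Groth.Agent.KFlatLib.Scheme.RpushUnbounded
import Groth.Agent.QCoh.Pullback

/-!
# Dévissage of a natural transformation to sheaves pushed forward from affine opens
-/

set_option linter.style.haveILetI false
set_option backward.isDefEq.respectTransparency false

universe u v w

open CategoryTheory CategoryTheory.Limits AlgebraicGeometry Pretriangulated ZeroObject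

attribute [local instance] HasDerivedCategory.standard

noncomputable section

namespace Groth.Agent.DerBC7

open Groth.Agent.KFlatLib

variable {X : Scheme.{u}}

theorem isoOn_triangle (S : ShortComplex X.Modules) (hS : S.ShortExact) (a : ℤ) :
    ∃ T ∈ distTriang (DCoh.D X), Nonempty (T.obj₁ ≅ (DerivedCategory.singleFunctor X.Modules a).obj S.X₁) ∧
      Nonempty (T.obj₂ ≅ (DerivedCategory.singleFunctor X.Modules a).obj S.X₂) ∧
      Nonempty (T.obj₃ ≅ (DerivedCategory.singleFunctor X.Modules a).obj S.X₃) := by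
  have h := hS.map_of_exact (HomologicalComplex.single X.Modules (ComplexShape.up ℤ) a)
  let e := DerivedCategory.singleFunctorIsoCompQ X.Modules a
  exact ⟨_, DerivedCategory.triangleOfSES_distinguished h, ⟨(e.app S.X₁).symm⟩, ⟨(e.app S.X₂).symm⟩,
    ⟨(e.app S.X₃).symm⟩⟩

variable {A : Type w} [Category.{v} A] [Abelian A] {F G : DCoh.D X ⥤ A}
  (hF : TriExact F) (hG : TriExact G) (θ : F ⟶ G)

/-- A transformation which is invertible on every shift of a module. -/
def IsoOn (M : X.Modules) : Prop :=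
  ∀ a : ℤ, IsIso (θ.app ((DerivedCategory.singleFunctor X.Modules a).obj M))

include hF in
theorem isZero_obj_of_isZero {K : DCoh.D X} (hK : IsZero K) : IsZero (F.obj K) := by
  obtain ⟨w, hw⟩ := hF _ (contractible_distinguished K)
  have h0 : F.map (𝟙 K) ≫ F.map (0 : K ⟶ (0 : DCoh.D X)) = 0 := w
  rw [IsZero.iff_id_eq_zero]
  have e : (0 : K ⟶ (0 : DCoh.D X)) ≫ (0 : (0 : DCoh.D X) ⟶ K) = 𝟙 K := hK.eq_of_src _ _
  rw [CategoryTheory.Functor.map_id, Category.id_comp] at h0
  rw [← F.map_id, ← e, F.map_comp, h0, zero_comp]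

include hF hG

theorem isoOn_of_isZero {M : X.Modules} (hM : IsZero M) : IsoOn θ M := fun a =>
  have h := (DerivedCategory.singleFunctor X.Modules a).map_isZero hM
  isIso_of_isZero _ (isZero_obj_of_isZero hF h) (isZero_obj_of_isZero hG h)

omit hF hG in
theorem isIso_shift_single {M : X.Modules} (hM : IsoOn θ M) (a n : ℤ) {K : DCoh.D X}
    (e : K ≅ (DerivedCategory.singleFunctor X.Modules a).obj M) : IsIso (θ.app (K⟦n⟧)) :=
  (NatTrans.isIso_app_iff_of_iso θ ((shiftFunctor (DCoh.D X) n).mapIso e ≪≫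
    ((DerivedCategory.singleFunctors X.Modules).shiftIso n (a - n) a (by omega)).app M)).2 (hM _)

theorem isoOn₂ (S : ShortComplex X.Modules) (hS : S.ShortExact) (h₁ : IsoOn θ S.X₁) (h₃ : IsoOn θ S.X₃) :
    IsoOn θ S.X₂ := fun a => by
  obtain ⟨T, hT, ⟨e₁⟩, ⟨e₂⟩, ⟨e₃⟩⟩ := isoOn_triangle S hS a
  exact (NatTrans.isIso_app_iff_of_iso θ e₂).1 (isIso_app_obj₂ hF hG θ hT
    ((NatTrans.isIso_app_iff_of_iso θ e₁).2 (h₁ a)) ((NatTrans.isIso_app_iff_of_iso θ e₃).2 (h₃ a))
    (isIso_shift_single θ h₃ a (-1) e₃) (isIso_shift_single θ h₁ a 1 e₁))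

theorem isoOn₁ (S : ShortComplex X.Modules) (hS : S.ShortExact) (h₂ : IsoOn θ S.X₂) (h₃ : IsoOn θ S.X₃) :
    IsoOn θ S.X₁ := fun a => by
  obtain ⟨T, hT, ⟨e₁⟩, ⟨e₂⟩, ⟨e₃⟩⟩ := isoOn_triangle S hS a
  refine (NatTrans.isIso_app_iff_of_iso θ e₁).1 (isIso_app_obj₂ hF hG θ (inv_rot_of_distTriang _ hT)
    (isIso_shift_single θ h₃ a (-1) e₃) ((NatTrans.isIso_app_iff_of_iso θ e₂).2 (h₂ a))
    (isIso_shift_single θ h₂ a (-1) e₂) ?_)
  exact (NatTrans.isIso_app_iff_of_iso θ
    ((shiftFunctorCompIsoId (DCoh.D X) (-1 : ℤ) 1 (by omega)).app T.obj₃ ≪≫ e₃)).2 (h₃ a)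

/-- Dévissage along a finite affine cover by opens with affine inclusion. -/
theorem isoOn_of_cover {ι : Type*} (s : Finset ι) (U : ι → X.Opens) (hU : ∀ i, IsAffineOpen (U i))
    [hj : ∀ i, IsAffineHom (hU i).fromSpec] (hcov : ∀ x : X, ∃ i ∈ s, x ∈ U i)
    (hbase : ∀ (i : ι) (N : (Spec Γ(X, U i)).Modules), Coh.IsQCoh N →
      IsoOn θ ((Scheme.Modules.pushforward (hU i).fromSpec).obj N))
    {M : X.Modules} (hM : Coh.IsQCoh M) : IsoOn θ M := by
  classical
  suffices H : ∀ t : Finset ι, t ⊆ s → ∀ M : X.Modules, Coh.IsQCoh M →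
      (∀ i ∈ s, i ∉ t → ∀ O ≤ U i, Subsingleton Γ(M, O)) → IsoOn θ M from
    H s subset_rfl M hM fun i hi hi' => absurd hi hi'
  intro t
  induction t using Finset.induction_on with
  | empty =>
    intro _ M hM h
    refine isoOn_of_isZero hF hG θ (isZero_of_isZero_restrict M fun x => ?_)
    obtain ⟨i, hi, hx⟩ := hcov x
    refine ⟨U i, hx, (IsZero.iff_id_eq_zero _).2 (Scheme.Modules.hom_ext _ _ fun O => ?_)⟩
    haveI : Subsingleton Γ(M, (U i).ι ''ᵁ O) :=
      h i hi (Finset.notMem_empty i) _ ((Scheme.Hom.image_le_opensRange _ _).trans_eq (Scheme.Opens.opensRange_ι _))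
    exact AddCommGrpCat.hom_ext (AddMonoidHom.ext fun a => Subsingleton.elim (α := Γ(M, (U i).ι ''ᵁ O)) _ _)
  | insert i₀ t hi₀ ih =>
    intro ht M hM h
    let j := (hU i₀).fromSpec
    let N := (Scheme.Modules.restrictFunctor j).obj M
    let η : M ⟶ (Scheme.Modules.pushforward j).obj N := (Scheme.Modules.restrictAdjunction j).unit.app M
    have hN : Coh.IsQCoh N := QCoh.isQCoh_restrict j hM
    have hP : Coh.IsQCoh ((Scheme.Modules.pushforward j).obj N) := QCoh.isQCoh_pushforward j hN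
    have hK : Coh.IsQCoh (kernel η) := QCoh.isQCoh_kernel hM hP η
    have hC : Coh.IsQCoh (cokernel η) := QCoh.isQCoh_cokernel hM hP η
    have hrange : ∀ O, j ''ᵁ (j ⁻¹ᵁ O) = U i₀ ⊓ O := fun O => by
      rw [Scheme.Hom.image_preimage_eq_opensRange_inf, IsAffineOpen.opensRange_fromSpec]
    have hη : ∀ i ∈ s, i ∉ t → ∀ O ≤ U i, IsIso (η.app O) := by
      intro i hi hit O hO
      show IsIso (((Scheme.Modules.restrictAdjunction j).unit.app M).app O)
      rw [Scheme.Modules.restrictAdjunction_unit_app_app]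
      by_cases hii : i = i₀
      · subst hii
        exact isIso_presheaf_map M.presheaf _ (show O = j ''ᵁ (j ⁻¹ᵁ O) by rw [hrange, inf_eq_right.2 hO])
      · have hz : ∀ O' ≤ O, IsZero (M.presheaf.obj (Opposite.op O')) := fun O' hO' =>
          @AddCommGrpCat.isZero_of_subsingleton _ (h i hi (by simp [hit, hii]) O' (hO'.trans hO))
        exact isIso_of_isZero _ (hz O le_rfl) (hz _ (j.image_preimage_le O))
    have hsmall : ∀ Z : X.Modules, Coh.IsQCoh Z →
        (∀ i ∈ s, i ∉ t → IsZero ((Scheme.Modules.restrictFunctor (U i).ι).obj Z)) → IsoOn θ Z := by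
      intro Z hZ hz
      refine ih (fun i hi => ht (Finset.mem_insert_of_mem hi)) Z hZ fun i hi hit O hO => ?_
      have he : O = (U i).ι ''ᵁ ((U i).ι ⁻¹ᵁ O) := by rw [image_preimage_ι, inf_eq_right.2 hO]
      rw [he]
      refine ⟨fun a b => ?_⟩
      have h₂ := congr($((IsZero.iff_id_eq_zero _).1 (hz i hi hit)).app ((U i).ι ⁻¹ᵁ O))
      exact (ConcreteCategory.congr_hom h₂ a).trans (ConcreteCategory.congr_hom h₂ b).symm
    have hres : ∀ i ∈ s, i ∉ t → IsIso ((Scheme.Modules.restrictFunctor (U i).ι).map η) := fun i hi hit =>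
      Scheme.Modules.Hom.isIso_iff_isIso_app.2 fun O =>
        hη i hi hit _ ((Scheme.Hom.image_le_opensRange _ O).trans_eq (Scheme.Opens.opensRange_ι _))
    have hex : ∀ i, PreservesFiniteLimits (Scheme.Modules.restrictFunctor (U i).ι) ∧
        PreservesFiniteColimits (Scheme.Modules.restrictFunctor (U i).ι) := fun i =>
      ((Functor.exact_tfae (Scheme.Modules.restrictFunctor (U i).ι)).out 1 3).1
        fun S hS => exact_restrict hS (U i)
    have iK : IsoOn θ (kernel η) := hsmall _ hK fun i hi hit => by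
      haveI := (hex i).1
      haveI := hres i hi hit
      exact (isZero_kernel_of_mono _).of_iso (PreservesKernel.iso _ η)
    have iC : IsoOn θ (cokernel η) := hsmall _ hC fun i hi hit => by
      haveI := (hex i).2
      haveI := hres i hi hit
      exact (isZero_cokernel_of_epi _).of_iso (PreservesCokernel.iso _ η)
    have iI : IsoOn θ (Abelian.image η) :=
      isoOn₁ hF hG θ (ShortComplex.mk (Abelian.image.ι η) (cokernel.π η) (kernel.condition _))
        { exact := ShortComplex.exact_of_f_is_kernel _ (kernelIsKernel (cokernel.π η)) }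
        (hbase i₀ N hN) iC
    exact isoOn₂ hF hG θ (ShortComplex.mk (kernel.ι η) (Abelian.factorThruImage η) (by
        rw [← cancel_mono (Abelian.image.ι η), Category.assoc, Abelian.image.fac, kernel.condition, zero_comp]))
      { exact := ShortComplex.exact_of_f_is_kernel _ (isKernelOfComp (Abelian.image.ι η) η
          (kernelIsKernel η) _ (Abelian.image.fac η)) } iK iI

end Groth.Agent.DerBC7
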