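import Groth.Agent.TriCat.MapExtend

/-!
# Natural transformations and extensions of complexes
-/

universe v₁ v₂ v₃ v₄ u₁ u₂ u₃ u₄

open CategoryTheory CategoryTheory.Limits HomologicalComplex

noncomputable section

namespace Groth.Agent.DerBC7

variable {ι ι' : Type*} {c : ComplexShape ι} {c' : ComplexShape ι'} (e : c.Embedding c')
  {B : Type u₁} [Category.{v₁} B] [HasZeroObject B] [HasZeroMorphisms B]
  {C₁ : Type u₂} [Category.{v₂} C₁] [HasZeroObject C₁] [HasZeroMorphisms C₁]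
  {C₂ : Type u₃} [Category.{v₃} C₂] [HasZeroObject C₂] [HasZeroMorphisms C₂]
  {E : Type u₄} [Category.{v₄} E] [HasZeroObject E] [HasZeroMorphisms E]
  (F₁ : B ⥤ C₁) (G₁ : C₁ ⥤ E) (F₂ : B ⥤ C₂) (G₂ : C₂ ⥤ E) [F₁.PreservesZeroMorphisms]
  [G₁.PreservesZeroMorphisms] [F₂.PreservesZeroMorphisms] [G₂.PreservesZeroMorphisms]

theorem natTrans_mapExtendIso (τ : F₁ ⋙ G₁ ⟶ F₂ ⋙ G₂) (K : HomologicalComplex B c) :
    (NatTrans.mapHomologicalComplex τ c').app (K.extend e) ≫
        (G₂.mapHomologicalComplex c').map (TriCat.mapExtendIso F₂ e K).hom ≫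
          (TriCat.mapExtendIso G₂ e ((F₂.mapHomologicalComplex c).obj K)).hom =
      (G₁.mapHomologicalComplex c').map (TriCat.mapExtendIso F₁ e K).hom ≫
        (TriCat.mapExtendIso G₁ e ((F₁.mapHomologicalComplex c).obj K)).hom ≫
          extendMap (show (G₁.mapHomologicalComplex c).obj ((F₁.mapHomologicalComplex c).obj K) ⟶
            (G₂.mapHomologicalComplex c).obj ((F₂.mapHomologicalComplex c).obj K) from
              (NatTrans.mapHomologicalComplex τ c).app K) e := by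
  ext i'
  show τ.app (extend.X K (e.r i')) ≫ G₂.map (TriCat.mapExtendXIso F₂ K (e.r i')).hom ≫
      (TriCat.mapExtendXIso G₂ ((F₂.mapHomologicalComplex c).obj K) (e.r i')).hom =
    G₁.map (TriCat.mapExtendXIso F₁ K (e.r i')).hom ≫
      (TriCat.mapExtendXIso G₁ ((F₁.mapHomologicalComplex c).obj K) (e.r i')).hom ≫
        extend.mapX _ (e.r i')
  generalize e.r i' = o
  cases o with
  | none => exact (extend.isZero_X _ rfl).eq_of_tgt _ _
  | some i =>
    show (τ.app (K.X i) : G₁.obj (F₁.obj (K.X i)) ⟶ G₂.obj (F₂.obj (K.X i))) ≫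
        G₂.map (𝟙 (F₂.obj (K.X i))) ≫ 𝟙 (G₂.obj (F₂.obj (K.X i))) =
      G₁.map (𝟙 (F₁.obj (K.X i))) ≫ 𝟙 (G₁.obj (F₁.obj (K.X i))) ≫
        (τ.app (K.X i) : G₁.obj (F₁.obj (K.X i)) ⟶ G₂.obj (F₂.obj (K.X i)))
    simp only [CategoryTheory.Functor.map_id, Category.id_comp, Category.comp_id]
    exact Category.comp_id _

end Groth.Agent.DerBC7
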