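import Groth.Agent.DerBC7.FlatPerfect
import Groth.Agent.PerfGen7.RpushPC
import Groth.Agent.PerfGen7.RpushRelTor
import Groth.Agent.PerfGen7.RelTor.Bound
import Groth.Agent.PerfLocus7.RelFlat

/-!
# Pseudo-coherent and relatively perfect objects along flat proper morphisms
-/

set_option linter.style.haveILetI false
set_option backward.isDefEq.respectTransparency false

universe u

open CategoryTheory CategoryTheory.Limits AlgebraicGeometry Pretriangulated ZeroObject

attribute [local instance] HasDerivedCategory.standard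

noncomputable section

namespace Groth.Agent.DerBC7

open Groth.Agent.KFlatLib Groth.Agent.PerfGen7

variable {X S : Scheme.{u}} (f : X ⟶ S) [IsProper f] [Flat f] [LocallyOfFinitePresentation f] [DCoh.HasRpush f]

theorem locPC_rpush_compact [CompactSpace S] [QuasiSeparatedSpace S] {E : DCoh.D X}
    (hE : ∀ m : ℤ, LocPC m E) (m : ℤ) : LocPC m ((DCoh.Rpush f).obj E) := by
  haveI : CompactSpace X := QuasiCompact.compactSpace_of_compactSpace f
  haveI : QuasiSeparatedSpace X := quasiSeparatedSpace_of_quasiSeparated f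
  have hq : DCoh.IsQCohD E := fun i =>
    isQCoh_HD_of_pseudoCoherent ((isPseudoCoherentD_iff (i - 1) E).2 (hE (i - 1))) i (by omega)
  obtain ⟨N, hN⟩ := exists_rpush_shift_bound f
  obtain ⟨r, hr⟩ := hasAppr (X := X) Set.univ isClosed_univ
    (isRetrocompact_of_isCompact isClosed_univ.isOpen_compl (by simp))
  obtain ⟨P, α, C, g, d, hτ, hP, -, hC⟩ := hr (m + 1 - N) E hq
    ((isPseudoCoherentD_iff _ _).2 (hE _)) fun i _ => Set.subset_univ _
  haveI : C.IsLE (m - N) := by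
    rw [DerivedCategory.isLE_iff]
    exact fun i hi => hC i (by omega)
  have hqC : DCoh.IsQCohD C := isQCohD_obj₃ hτ (isQCohD_of_isPerfect hP) hq
  obtain ⟨c, hc⟩ := exists_rpush_triangle f _ hτ
  exact (locPC_two_of_three m _ hc).2.1
    (((KFlatLib.isPerfect_iff _).1 (isPerfect_rpush f hP)).locPC m)
    (locPC_of_isZero m _ fun i hi => hN C hqC (m - N) inferInstance i (by omega))

/-- `Rf_*` preserves pseudo-coherence. -/
theorem locPC_rpush {E : DCoh.D X} (hE : ∀ m : ℤ, LocPC m E) (m : ℤ) :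
    LocPC m ((DCoh.Rpush f).obj E) := by
  refine LocPC.of_local fun s => ?_
  obtain ⟨V, hV, hsV, -⟩ := exists_isAffineOpen_mem_and_subset (x := s) (U := (⊤ : S.Opens)) trivial
  haveI : IsAffine V.toScheme := hV
  haveI : IsProper (f ∣_ V) := MorphismProperty.of_isPullback (isPullback_morphismRestrict f V).flip ‹_›
  haveI : Flat (f ∣_ V) := MorphismProperty.of_isPullback (isPullback_morphismRestrict f V).flip ‹_›
  haveI : LocallyOfFinitePresentation (f ∣_ V) :=
    MorphismProperty.of_isPullback (isPullback_morphismRestrict f V).flip ‹_›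
  haveI := hasRpush_scheme (f ∣_ V)
  obtain ⟨e⟩ := nonempty_rpush_restrictD_iso f V
  exact ⟨V, V.ι, inferInstance, by simpa using hsV,
    (locPC_rpush_compact (f ∣_ V) (fun m => (hE m).restrict (f ⁻¹ᵁ V).ι) m).of_iso (e.app E).symm⟩

omit [IsProper f] [Flat f] [LocallyOfFinitePresentation f] [DCoh.HasRpush f] in
/-- Local bounds for the relative tor amplitude, stalkwise. -/
theorem exists_local_torAmplitudeAt {E : DCoh.D X} (h : DCoh.LocHasFiniteRelTorDim f E)
    {F : CochainComplex X.Modules ℤ} (eF : DCoh.toD X F ≅ E) (x : X) :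
    ∃ (V : X.Opens) (a b : ℤ), x ∈ V ∧ ∀ y ∈ V, DerSch.HasTorAmplitudeAt f a b F y := by
  obtain ⟨V, a, b, hx, hV⟩ := h x
  obtain ⟨G, hz, hf, ⟨eG⟩⟩ := hV F ⟨eF⟩
  refine ⟨V, a, b, hx, fun y hy => ?_⟩
  refine RelTor.torAmplitudeAt_unrestrict f V.ι ⟨y, hy⟩
    (RelTor.torAmplitudeAt_congr (V.ι ≫ f) eG ?_)
  exact ⟨_, fun i hi => (DerSch.stalkOver (V.ι ≫ f) ⟨y, hy⟩).map_isZero (hz i hi),
    fun i => by exact hf i ⟨y, hy⟩, ⟨Iso.refl _⟩⟩

/-- `Rf_*` of a relatively perfect object is perfect. -/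
theorem isPerfect_rpush_relPerfect {E : DCoh.D X} (hpc : ∀ m : ℤ, LocPC m E)
    (htor : DCoh.LocHasFiniteRelTorDim f E) : DCoh.IsPerfect ((DCoh.Rpush f).obj E) := by
  refine isPerfect_of_cover fun s => ?_
  obtain ⟨V, hV, hsV, -⟩ := exists_isAffineOpen_mem_and_subset (x := s) (U := (⊤ : S.Opens)) trivial
  haveI : IsAffine V.toScheme := hV
  haveI : IsProper (f ∣_ V) := MorphismProperty.of_isPullback (isPullback_morphismRestrict f V).flip ‹_›
  haveI : Flat (f ∣_ V) := MorphismProperty.of_isPullback (isPullback_morphismRestrict f V).flip ‹_›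
  haveI : LocallyOfFinitePresentation (f ∣_ V) :=
    MorphismProperty.of_isPullback (isPullback_morphismRestrict f V).flip ‹_›
  haveI := hasRpush_scheme (f ∣_ V)
  obtain ⟨e⟩ := nonempty_rpush_restrictD_iso f V
  refine ⟨V, V.ι, inferInstance, by simpa using hsV, isPerfect_of_iso' (e.app E).symm ?_⟩
  let U : X.Opens := f ⁻¹ᵁ V
  haveI : CompactSpace (U : Scheme.{u}) := QuasiCompact.compactSpace_of_compactSpace (f ∣_ V)
  let F := DerivedCategory.Q.objPreimage E
  let eF : DCoh.toD X F ≅ E := DerivedCategory.Q.objObjPreimageIso E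
  choose W a b hx hW using exists_local_torAmplitudeAt f htor eF
  obtain ⟨t, ht⟩ := isCompact_univ.elim_finite_subcover (fun x : U => (U.ι ⁻¹ᵁ W (U.ι x) : Set U))
    (fun x => (U.ι ⁻¹ᵁ W (U.ι x)).2) (fun x _ => Set.mem_iUnion.2 ⟨x, hx (U.ι x)⟩)
  let B : ℤ := ((∑ x ∈ t, ((a (U.ι x)).natAbs + (b (U.ι x)).natAbs) : ℕ) : ℤ)
  have hA : DerSch.HasTorAmplitude (f ∣_ V) (-B) B ((rCx U.ι).obj F) := fun y => by
    obtain ⟨x, hxt, hyx⟩ := Set.mem_iUnion₂.1 (ht (Set.mem_univ y))
    have hle := Finset.single_le_sum (f := fun x => (a (U.ι x)).natAbs + (b (U.ι x)).natAbs)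
      (fun _ _ => Nat.zero_le _) hxt
    have hle' : (((a (U.ι x)).natAbs + (b (U.ι x)).natAbs : ℕ) : ℤ) ≤ B := Int.ofNat_le.2 hle
    have hB : -B ≤ a (U.ι x) ∧ b (U.ι x) ≤ B := by clear_value B; omega
    have h₁ := RelTor.torAmplitudeAt_restrict f U.ι y (hW (U.ι x) _ hyx)
    rw [← morphismRestrict_ι] at h₁
    exact RelTor.torAmplitudeAt_mono (f ∣_ V) hB.1 hB.2
      (RelTor.torAmplitudeAt_of_comp_openImmersion (f ∣_ V) V.ι h₁)
  have hq : DCoh.IsQCohD ((rho U.ι).obj E) := isQCohD_rho U.ι fun i =>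
    isQCoh_HD_of_pseudoCoherent ((isPseudoCoherentD_iff (i - 1) E).2 (hpc (i - 1))) i (by omega)
  let eU : DCoh.toD (U : Scheme.{u}) ((rCx U.ι).obj F) ≅ (rho U.ι).obj E :=
    ((rhoQ U.ι).app F).symm ≪≫ (rho U.ι).mapIso eF
  obtain ⟨N, hN⟩ := torAmplitude_rpush_of_relTorAmplitude (f ∣_ V)
  let eR := (DCoh.Rpush (f ∣_ V)).mapIso eU
  have ht' : DCoh.HasTorAmplitudeIn (-B) (B + N) ((DCoh.Rpush (f ∣_ V)).obj ((rho U.ι).obj E)) :=
    torAmplitude_of_retract eR.inv eR.hom eR.inv_hom_id (hN (isQCohD_of_iso eU.symm hq) (-B) B hA)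
  exact (KFlatLib.isPerfect_iff _).2 (locSP_of_flat_pc (by omega)
    (flatAmplitude_of_torAmplitude hasLTensorMod (by omega) ht')
    (locPC_rpush (f ∣_ V) (fun k => (hpc k).restrict U.ι) _))

end Groth.Agent.DerBC7
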