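import Groth.Agent.DerBC7.SepMain
import Groth.Agent.LimSm.Model
import Groth.Agent.LimSm.Flat
import Groth.Agent.MorLib.ProperFT
import Groth.Agent.PerfGen7.RpushPerfect
import Groth.Agent.PerfGen7.Stmts
import Groth.Agent.PerfGen7.Bounded
import Groth.Agent.PerfGen7.AffineX
import Groth.Agent.KFlatLib.Scheme.AffineConservative
import Groth.Agent.KFlatLib.Scheme.RpushRestrict
import Groth.Agent.KFlatLib.Perfect.Basic

/-!
# Direct images of perfect objects along flat proper morphisms of finite presentation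
-/

set_option linter.style.haveILetI false
set_option backward.isDefEq.respectTransparency false

universe u

open CategoryTheory CategoryTheory.Limits AlgebraicGeometry Pretriangulated ZeroObject

attribute [local instance] HasDerivedCategory.standard

noncomputable section

namespace Groth.Agent.DerBC7

open Groth.Agent.KFlatLib Groth.Agent.PerfGen7

theorem isQCoh_retract {X : Scheme.{u}} {E B : X.Modules} (hB : Coh.IsQCoh B) (r : Retract E B) :
    Coh.IsQCoh E := by
  have w : r.i ≫ (𝟙 B - r.r ≫ r.i) = 0 := by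
    rw [Preadditive.comp_sub, Category.comp_id, ← Category.assoc, r.retract, Category.id_comp, sub_self]
  have hl : IsLimit (KernelFork.ofι r.i w) := by
    refine KernelFork.IsLimit.ofι r.i w (fun t _ => t ≫ r.r) (fun t ht => ?_) (fun t ht m hm => ?_)
    · rw [Preadditive.comp_sub, Category.comp_id, sub_eq_zero] at ht
      rw [Category.assoc, ← ht]
    · rw [← hm, Category.assoc, r.retract, Category.comp_id]
  exact (QCoh.isQCoh_iff_iso (hl.conePointUniqueUpToIso (kernelIsKernel (𝟙 B - r.r ≫ r.i)))).2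
    (QCoh.isQCoh_kernel hB hB _)

/-- A retract of a perfect object is perfect. -/
theorem isPerfect_retract {X : Scheme.{u}} [CompactSpace X] [QuasiSeparatedSpace X] {K A : DCoh.D X}
    (r : Retract K A) (hA : DCoh.IsPerfect A) : DCoh.IsPerfect K := by
  have hq : DCoh.IsQCohD K := fun i =>
    isQCoh_retract (isQCohD_of_isPerfect hA i) (r.map (DerivedCategory.homologyFunctor X.Modules i))
  refine isPerfect_of_compact (T := Set.univ) isClosed_univ (by simp) ⟨hq, supp_univ K⟩
    fun J M _ hM φ => ?_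
  obtain ⟨F, hF⟩ := (fix_of_isPerfect_qcoh hA M fun j => (hM j).1).at_zero (r.r ≫ φ)
  refine ⟨F, ?_⟩
  calc φ ≫ partProj M F = r.i ≫ (r.r ≫ φ) ≫ partProj M F := by
        rw [Category.assoc, r.retract_assoc]
    _ = φ := by rw [hF, r.retract_assoc]

/-- The inverse image of a generator along an affine morphism is a generator. -/
theorem generator_lpull {X Y : Scheme.{u}} (g : X ⟶ Y) [IsAffineHom g] [DCoh.HasLpull g] {P : DCoh.D Y}
    (hP : ∀ E : DCoh.D Y, DCoh.IsQCohD E → (∀ (n : ℤ) (φ : P⟦n⟧ ⟶ E), φ = 0) → IsZero E)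
    (E : DCoh.D X) (hE : DCoh.IsQCohD E)
    (h : ∀ (n : ℤ) (φ : ((DCoh.Lpull g).obj P)⟦n⟧ ⟶ E), φ = 0) : IsZero E := by
  haveI : DCoh.HasRpush g := hasRpush_scheme g
  haveI : HasInjectiveResolutions X.Modules := hasInjectiveResolutions_modules
  obtain ⟨adj⟩ := nonempty_lpull_rpush_adj g
  refine isZero_of_rpush_isZero g hE (hP _ (isQCohD_rpush g hE) fun n ψ => ?_)
  obtain ⟨eS⟩ := nonempty_rpush_shift g E (-n)
  let ε := (shiftFunctorCompIsoId (DCoh.D Y) n (-n) (by omega)).app P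
  let ψ' : P ⟶ (DCoh.Rpush g).obj (E⟦-n⟧) := ε.inv ≫ ψ⟦-n⟧' ≫ eS.inv
  let χ := (adj.homEquiv _ _).symm ψ'
  let δ := (shiftFunctorCompIsoId (DCoh.D X) (-n) n (by omega)).app E
  have hχ : χ = 0 := by
    apply (shiftFunctor (DCoh.D X) n).map_injective
    rw [Functor.map_zero]
    exact (cancel_mono δ.hom).1 ((h n _).trans zero_comp.symm)
  have hψ' : ψ' = 0 := by
    have := congrArg (adj.homEquiv _ _) hχ
    rw [Equiv.apply_symm_apply] at this
    rw [this, adj.homEquiv_unit]
    haveI : (DCoh.Rpush g).Additive := by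
      haveI := adj.rightAdjoint_preservesLimits
      haveI : HasBinaryBiproducts (DCoh.D X) := HasBinaryBiproducts.of_hasBinaryProducts
      haveI := preservesBinaryBiproducts_of_preservesBinaryProducts (DCoh.Rpush g)
      exact Functor.additive_of_preservesBinaryBiproducts _
    rw [Functor.map_zero, comp_zero]
  apply (shiftFunctor (DCoh.D Y) (-n)).map_injective
  rw [Functor.map_zero]
  exact (cancel_epi ε.inv).1 ((cancel_mono eS.inv).1 ((Category.assoc _ _ _).trans
    (hψ'.trans ((zero_comp.symm.trans (congrArg (· ≫ eS.inv) comp_zero.symm))))))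

/-- A flat proper morphism of finite presentation to an affine scheme comes from a Noetherian one. -/
theorem exists_flat_proper_model {X S : Scheme.{u}} [IsAffine S] (f : X ⟶ S) [IsProper f] [Flat f]
    [LocallyOfFinitePresentation f] :
    ∃ (X₂ S₂ : Scheme.{u}) (f₂ : X₂ ⟶ S₂) (g₂ : X ⟶ X₂) (g : S ⟶ S₂),
      IsAffine S₂ ∧ IsNoetherian S₂ ∧ IsNoetherian X₂ ∧ IsProper f₂ ∧ Flat f₂ ∧ IsAffineHom g ∧
        IsPullback g₂ f f₂ g := by
  let A := Γ(S, ⊤)
  let f' : X ⟶ Spec (CommRingCat.of A) := f ≫ S.isoSpec.hom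
  haveI : IsProper f' := inferInstanceAs (IsProper (f ≫ S.isoSpec.hom))
  haveI : Flat f' := inferInstanceAs (Flat (f ≫ S.isoSpec.hom))
  haveI : LocallyOfFinitePresentation f' :=
    inferInstanceAs (LocallyOfFinitePresentation (f ≫ S.isoSpec.hom))
  obtain ⟨A₀, hA₀, X₀, f₀, g₀, hprop, hflat, hlfp, -, -, h⟩ :=
    LimSm.exists_model_over_fg (P := @IsProper) (P' := @Flat) (Q := @LocallyOfFiniteType)
      (Q' := @LocallyOfFinitePresentation) MorLib.Ultra.core_isProper LimSm.core_flat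
      (fun f _ => inferInstance) (fun f h => h) A f' ‹_› ‹_›
  haveI := hprop
  haveI := hlfp
  haveI : IsNoetherianRing ↥A₀ :=
    haveI : Algebra.FiniteType ℤ ↥A₀ := (Subalgebra.fg_iff_finiteType A₀).1 hA₀
    Algebra.FiniteType.isNoetherianRing ℤ ↥A₀
  haveI : IsLocallyNoetherian X₀ := LocallyOfFiniteType.isLocallyNoetherian f₀
  haveI : CompactSpace X₀ := QuasiCompact.compactSpace_of_compactSpace f₀
  have hiso : IsPullback (𝟙 X) f f' S.isoSpec.hom := IsPullback.of_horiz_isIso ⟨by simp [f']⟩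
  refine ⟨X₀, _, f₀, 𝟙 X ≫ g₀, S.isoSpec.hom ≫ _, inferInstance, inferInstance, ⟨⟩, hprop, hflat, ?_,
    hiso.paste_horiz h⟩
  infer_instance

/-- `Rf_*` preserves perfect objects: affine base. -/
theorem isPerfect_rpush_affine {X S : Scheme.{u}} [IsAffine S] (f : X ⟶ S) [IsProper f] [Flat f]
    [LocallyOfFinitePresentation f] [DCoh.HasRpush f] {E : DCoh.D X} (hE : DCoh.IsPerfect E) :
    DCoh.IsPerfect ((DCoh.Rpush f).obj E) := by
  obtain ⟨X₂, S₂, f₂, g₂, g, hS₂, hS₂n, hX₂n, hf₂p, hf₂f, hg, h⟩ := exists_flat_proper_model f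
  haveI := hS₂
  haveI := hS₂n
  haveI := hX₂n
  haveI := hf₂p
  haveI := hf₂f
  haveI := hg
  haveI : CompactSpace X := QuasiCompact.compactSpace_of_compactSpace f
  haveI : QuasiSeparatedSpace X := quasiSeparatedSpace_of_quasiSeparated f
  haveI : IsAffineHom g₂ := MorphismProperty.of_isPullback h.flip inferInstance
  haveI : DCoh.HasRpush f₂ := hasRpush_scheme f₂
  haveI : DCoh.HasRpush g := hasRpush_scheme g
  haveI : DCoh.HasRpush g₂ := hasRpush_scheme g₂
  haveI : DCoh.HasLpull g := hasLpull g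
  haveI : DCoh.HasLpull g₂ := hasLpull g₂
  obtain ⟨P₂, hP₂, hP₂q, -, hgen₂⟩ := exists_generator (X := X₂) isClosed_univ (by simp)
  have hgen := generator_lpull g₂ (P := P₂) fun E hE h => (hgen₂ E hE (supp_univ E)).2 h
  let Φ : ObjectProperty (DCoh.D X) := fun A => DCoh.IsPerfect A ∧ DCoh.IsPerfect ((DCoh.Rpush f).obj A)
  haveI : Φ.IsClosedUnderIsomorphisms := ⟨fun e ⟨h₁, h₂⟩ =>
    ⟨isPerfect_of_iso' e h₁, isPerfect_of_iso' ((DCoh.Rpush f).mapIso e) h₂⟩⟩
  have hzero : ∀ Z : DCoh.D X, IsZero Z → IsZero ((DCoh.Rpush f).obj Z) := fun Z hZ => by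
    haveI := hasLpull f
    obtain ⟨adj⟩ := nonempty_lpull_rpush_adj f
    rw [IsZero.iff_id_eq_zero]
    exact (adj.homEquiv _ _).symm.injective (hZ.eq_of_tgt _ _)
  haveI : Φ.IsTriangulated :=
    { exists_zero := ⟨0, isZero_zero _, isPerfect_of_isZero' (isZero_zero _),
        isPerfect_of_isZero' (hzero _ (isZero_zero _))⟩
      isStableUnderShiftBy := fun n => ⟨fun A ⟨h₁, h₂⟩ => ⟨isPerfect_shift' h₁ n,
        isPerfect_of_iso' (nonempty_rpush_shift f A n).some.symm (isPerfect_shift' h₂ n)⟩⟩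
      ext₂' := fun τ hτ ⟨p₁, q₁⟩ ⟨p₃, q₃⟩ => ObjectProperty.le_isoClosure _ _
        ⟨isPerfect_tri₂ hτ p₁ p₃, by
          obtain ⟨c, hc⟩ := exists_rpush_triangle f τ hτ
          exact isPerfect_tri₂ hc q₁ q₃⟩ }
  have hG : Φ ((DCoh.Lpull g₂).obj P₂) := by
    refine ⟨isPerfect_lpull g₂ hP₂, ?_⟩
    have hsp := (KFlatLib.isPerfect_iff P₂).1 hP₂
    obtain ⟨a, ha⟩ := exists_lower_bound_of_locSP hsp
    obtain ⟨b, hb⟩ := exists_bound_of_locPC (hsp.locPC 0)
    haveI : P₂.IsGE a := by rw [DerivedCategory.isGE_iff]; exact ha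
    haveI : P₂.IsLE b := by rw [DerivedCategory.isLE_iff]; exact hb
    obtain ⟨e⟩ := nonempty_baseChange_iso h P₂ a b hP₂q
    exact isPerfect_of_iso' e (isPerfect_lpull g (isPerfect_rpush_of_flat_proper f₂ hP₂))
  obtain ⟨A, ⟨-, hA⟩, ⟨r⟩⟩ := perfect_le_retractClosure hgen Φ (fun _ h => h.1) hG hE
  exact isPerfect_retract (r.map (DCoh.Rpush f)) hA

/-- `Rf_*` preserves perfect objects. -/
theorem isPerfect_rpush {X S : Scheme.{u}} (f : X ⟶ S) [IsProper f] [Flat f]
    [LocallyOfFinitePresentation f] [DCoh.HasRpush f] {E : DCoh.D X} (hE : DCoh.IsPerfect E) :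
    DCoh.IsPerfect ((DCoh.Rpush f).obj E) := by
  refine isPerfect_of_cover fun s => ?_
  obtain ⟨V, hV, hsV, -⟩ := exists_isAffineOpen_mem_and_subset (x := s) (U := (⊤ : S.Opens)) trivial
  haveI : IsAffine V.toScheme := hV
  haveI : IsProper (f ∣_ V) := MorphismProperty.of_isPullback (isPullback_morphismRestrict f V).flip ‹_›
  haveI : Flat (f ∣_ V) := MorphismProperty.of_isPullback (isPullback_morphismRestrict f V).flip ‹_›
  haveI : LocallyOfFinitePresentation (f ∣_ V) :=
    MorphismProperty.of_isPullback (isPullback_morphismRestrict f V).flip ‹_›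
  haveI := hasRpush_scheme (f ∣_ V)
  obtain ⟨e⟩ := nonempty_rpush_restrictD_iso f V
  exact ⟨V, V.ι, inferInstance, by simpa using hsV,
    isPerfect_of_iso' (e.app E).symm (isPerfect_rpush_affine (f ∣_ V) (isPerfect_rho' (f ⁻¹ᵁ V).ι hE))⟩

end Groth.Agent.DerBC7
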