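import Groth.Agent.QCoh.FlatOver
import Groth.Agent.QCoh.Qcqs
import Mathlib.AlgebraicGeometry.Morphisms.Flat

/-!
# Direct images of flat modules along affine morphisms
-/

set_option linter.style.haveILetI false
set_option backward.isDefEq.respectTransparency false
set_option backward.isDefEq.respectTransparency.types false

universe u

open CategoryTheory CategoryTheory.Limits AlgebraicGeometry TopologicalSpace Opposite

namespace Groth.Agent.DerBC7

open QCoh

variable {X Y : Scheme.{u}} (φ : X ⟶ Y) {M : X.Modules}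

theorem isFlatOver_of_isFlat [Flat φ] (h : FlatMod.IsFlat M) : FlatMod.IsFlatOver φ M := fun x => by
  letI : Algebra (Y.presheaf.stalk (φ.base x)) (X.presheaf.stalk x) := (φ.stalkMap x).hom.toAlgebra
  letI := FlatMod.moduleStalkOver φ M x
  haveI : IsScalarTower (Y.presheaf.stalk (φ.base x)) (X.presheaf.stalk x) (M.presheaf.stalk x) :=
    IsScalarTower.of_algebraMap_smul fun _ _ => rfl
  haveI : Module.Flat (Y.presheaf.stalk (φ.base x)) (X.presheaf.stalk x) := Flat.stalkMap φ x
  haveI : Module.Flat (X.presheaf.stalk x) (M.presheaf.stalk x) := h x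
  exact Module.Flat.trans (Y.presheaf.stalk (φ.base x)) (X.presheaf.stalk x) (M.presheaf.stalk x)

theorem isFlat_pushforward_affine [IsAffineHom φ] (hM : Coh.IsQCoh M) (h : FlatMod.IsFlatOver φ M) :
    FlatMod.IsFlat ((Scheme.Modules.pushforward φ).obj M) := fun y => by
  obtain ⟨_, ⟨V, hV, rfl⟩, hyV, -⟩ :=
    Y.isBasis_affineOpens.exists_subset_of_mem_open (Set.mem_univ y) isOpen_univ
  let N := (Scheme.Modules.pushforward φ).obj M
  have hN : Coh.IsQCoh N := isQCoh_pushforward φ hM
  let U : X.Opens := φ ⁻¹ᵁ V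
  letI : Module Γ(Y, V) Γ(M, U) := Module.compHom _ (φ.appLE V U le_rfl).hom
  have hfl : Module.Flat Γ(Y, V) Γ(M, U) :=
    (flat_appLE_iff φ hM (hV.preimage φ) hV le_rfl).2 fun x _ => h x
  haveI : Module.Flat Γ(Y, V) Γ(N, V) := by
    let e : Γ(M, U) ≃ₗ[Γ(Y, V)] Γ(N, V) :=
      { toFun := fun m => m
        map_add' := fun _ _ => rfl
        map_smul' := fun a m => by
          show (φ.appLE V U le_rfl).hom a • m = (φ.app V).hom a • m
          rw [Scheme.Hom.app_eq_appLE]
        invFun := fun m => m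
        left_inv := fun _ => rfl
        right_inv := fun _ => rfl }
    haveI := hfl
    exact Module.Flat.of_linearEquiv e.symm
  letI := stalkAlg (X := Y) (U := V) (x := y) hyV
  letI := stalkModule N hyV
  haveI := isLocalizedModule_germLin hN hV hyV
  haveI : Module.Flat Γ(Y, V) (N.presheaf.stalk y) :=
    flat_base_of_isLocalizedModule (A := Γ(Y, V)) (hV.primeIdealOf ⟨y, hyV⟩).asIdeal.primeCompl (germLin N hyV)
  haveI := isLocalization_stalk' hV hyV
  haveI : IsScalarTower Γ(Y, V) (Y.presheaf.stalk y) (N.presheaf.stalk y) :=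
    IsScalarTower.of_algebraMap_smul fun _ _ => rfl
  exact (Module.flat_iff_of_isLocalization (Y.presheaf.stalk y)
    (hV.primeIdealOf ⟨y, hyV⟩).asIdeal.primeCompl _).2 ‹_›

end Groth.Agent.DerBC7
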