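import Groth.Agent.DerBC7.Derived
import Groth.Agent.KFlatLib.Scheme.PushKInj
import Groth.Agent.KFlatLib.Scheme.AffinePush

/-!
# `Rf_*` on complexes pushed forward from an open affine over the target
-/

set_option linter.style.haveILetI false
set_option backward.isDefEq.respectTransparency false

universe u

open CategoryTheory CategoryTheory.Limits AlgebraicGeometry

attribute [local instance] HasDerivedCategory.standard

noncomputable section

namespace Groth.Agent.DerBC7

open Groth.Agent.KFlatLib

variable {X Y U : Scheme.{u}}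

/-- An affine morphism pushes K-injective resolutions of quasi-coherent complexes to quasi-isomorphisms. -/
theorem quasiIso_push_of_affine (h : U ⟶ Y) [IsAffineHom h] {P I : CochainComplex U.Modules ℤ}
    [I.IsKInjective] (hq : ∀ n, Coh.IsQCoh (P.X n)) (s : P ⟶ I) [QuasiIso s] :
    QuasiIso (((Scheme.Modules.pushforward h).mapHomologicalComplex (ComplexShape.up ℤ)).map s) := by
  let G := (Scheme.Modules.pushforward h).mapHomologicalComplex (ComplexShape.up ℤ)
  have hC : ∀ n, ((G.obj (CochainComplex.mappingCone s))).ExactAt n := by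
    refine exactAt_of_sections fun V hV n z hz => ?_
    obtain ⟨y, hy⟩ := exists_lift_cone hq (hV.preimage h) s n (secPushEquiv h V _ z) (by
      rw [← secPushEquiv_naturality]
      exact (congrArg _ hz).trans (secPushEquiv_zero h V _))
    refine ⟨(secPushEquiv h V _).symm y, (secPushEquiv h V _).injective ?_⟩
    refine (secPushEquiv_naturality h V _ _).trans ?_
    rw [Equiv.apply_symm_apply, hy]
  have hC' : HomotopyCategory.subcategoryAcyclic Y.Modules
      ((HomotopyCategory.quotient Y.Modules (ComplexShape.up ℤ)).obj
        (CochainComplex.mappingCone (G.map s))) := by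
    refine (HomotopyCategory.quotient_obj_mem_subcategoryAcyclic_iff_exactAt _).2 fun n => ?_
    exact ((hC n).of_iso
      ((CochainComplex.mappingCone.mapHomologicalComplexIso s (Scheme.Modules.pushforward h))))
  have hW : (HomotopyCategory.subcategoryAcyclic Y.Modules).trW
      ((HomotopyCategory.quotient Y.Modules (ComplexShape.up ℤ)).map (G.map s)) :=
    ⟨_, _, _, HomotopyCategory.mappingCone_triangleh_distinguished (G.map s), hC'⟩
  rwa [← HomotopyCategory.quasiIso_eq_trW_subcategoryAcyclic,
    HomotopyCategory.quotient_map_mem_quasiIso_iff, HomologicalComplex.mem_quasiIso_iff] at hW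

set_option maxHeartbeats 800000 in
/-- Complexes pushed forward from an open affine over the target compute `Rf_*`. -/
theorem isIso_βK_push (j : U ⟶ X) (f : X ⟶ Y) [Flat j] [IsAffineHom j] [IsAffineHom (j ≫ f)]
    [DCoh.HasRpush f] (P : CochainComplex U.Modules ℤ) (hq : ∀ n, Coh.IsQCoh (P.X n)) :
    IsIso ((βK f).app ((HomotopyCategory.quotient X.Modules _).obj
      (((Scheme.Modules.pushforward j).mapHomologicalComplex (ComplexShape.up ℤ)).obj P))) := by
  obtain ⟨I, s, hI, hs⟩ := exists_kInjective_res P
  let J := (Scheme.Modules.pushforward j).mapHomologicalComplex (ComplexShape.up ℤ)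
  let F := (Scheme.Modules.pushforward f).mapHomologicalComplex (ComplexShape.up ℤ)
  let q := HomotopyCategory.quotient X.Modules (ComplexShape.up ℤ)
  let qY := HomotopyCategory.quotient Y.Modules (ComplexShape.up ℤ)
  haveI : CochainComplex.IsKInjective (J.obj I) := isKInjective_pushforward j I
  haveI := quasiIso_push_of_affine j hq s
  have h₁ : IsIso (DerivedCategory.Qh.map (q.map (J.map s))) :=
    (NatIso.isIso_map_iff (DerivedCategory.quotientCompQhIso X.Modules) _).2
      (isIso_Q_map _ ‹QuasiIso (J.map s)›)
  have hFs : QuasiIso (F.map (J.map s)) := quasiIso_push_of_affine (j ≫ f) hq s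
  have h₂ : IsIso (DerivedCategory.Qh.map (qY.map (F.map (J.map s)))) :=
    (NatIso.isIso_map_iff (DerivedCategory.quotientCompQhIso Y.Modules) _).2 (isIso_Q_map _ hFs)
  have h₃ : IsIso ((βK f).app (q.obj (J.obj I))) := isIso_unit_of_kInjective f (J.obj I)
  let b : DerivedCategory.Qh.obj (qY.obj (F.obj (J.obj P))) ⟶
      (DCoh.Rpush f).obj (DerivedCategory.Qh.obj (q.obj (J.obj P))) := (βK f).app (q.obj (J.obj P))
  have hn : b ≫ (DCoh.Rpush f).map (DerivedCategory.Qh.map (q.map (J.map s))) =
      DerivedCategory.Qh.map (qY.map (F.map (J.map s))) ≫ (βK f).app (q.obj (J.obj I)) :=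
    ((βK f).naturality (q.map (J.map s))).symm
  refine @IsIso.of_isIso_comp_right _ _ _ _ _ b
    ((DCoh.Rpush f).map (DerivedCategory.Qh.map (q.map (J.map s)))) inferInstance ?_
  rw [hn]
  exact IsIso.comp_isIso' h₂ h₃

end Groth.Agent.DerBC7
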