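import Groth.Agent.DerBC7.Theta
import Groth.Agent.DerBC7.PushFlat
import Groth.Agent.DerBC7.PushPush
import Groth.Agent.DerBC7.Bc0Paste
import Groth.Agent.KFlatLib.Scheme.QCohDerived
import Groth.Agent.KFlatLib.Scheme.TildeAmp
import Groth.Agent.KFlatLib.Scheme.ProjLocFree
import Groth.Agent.FlatBC6.AffZero

/-!
# The base change map for sheaves pushed forward from an affine open
-/

set_option linter.style.haveILetI false
set_option backward.isDefEq.respectTransparency false

universe u

open CategoryTheory CategoryTheory.Limits AlgebraicGeometry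

attribute [local instance] HasDerivedCategory.standard

noncomputable section

namespace Groth.Agent.DerBC7

open Groth.Agent.KFlatLib

/-- On an affine scheme, quasi-coherent modules have resolutions by flat quasi-coherent modules. -/
theorem exists_flat_qcoh_res {R : CommRingCat.{u}} (b : ℤ) {M : (Spec R).Modules} (hM : Coh.IsQCoh M) :
    ∃ T : CochainComplex (Spec R).Modules ℤ, T.IsStrictlyLE b ∧ (∀ n, FlatMod.IsFlat (T.X n)) ∧
      (∀ n, Coh.IsQCoh (T.X n)) ∧
      Nonempty (DerivedCategory.Q.obj T ≅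
        DerivedCategory.Q.obj ((HomologicalComplex.single _ (ComplexShape.up ℤ) b).obj M)) := by
  obtain ⟨M₀, ⟨eM⟩⟩ := QCoh.isQCoh_spec_iff.1 hM
  let K₀ := (HomologicalComplex.single (ModuleCat.{u} R) (ComplexShape.up ℤ) b).obj M₀
  obtain ⟨P, ψ, hψ, hflat, hz⟩ := (ringCover R).exists_bounded_resolution K₀ b fun m hm =>
    HomologicalComplex.isZero_single_obj_homology (ComplexShape.up ℤ) b M₀ m (by omega)
  haveI := hψ
  let F := (tilde.functor R).mapHomologicalComplex (ComplexShape.up ℤ)
  haveI : QuasiIso (F.map ψ) := inferInstance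
  haveI := isIso_Q_map (F.map ψ) inferInstance
  refine ⟨F.obj P, (CochainComplex.isStrictlyLE_iff _ _).2 fun m hm => (tilde.functor R).map_isZero (hz m hm),
    fun n => (isFlat_tilde_iff _).2 (hflat n),
    fun n => QCoh.isQCoh_spec_iff.2 ((tilde.functor R).obj_mem_essImage _),
    ⟨asIso (DerivedCategory.Q.map (F.map ψ)) ≪≫ DerivedCategory.Q.mapIso
      ((HomologicalComplex.singleMapHomologicalComplex (tilde.functor R) (ComplexShape.up ℤ) b).app M₀ ≪≫
        (HomologicalComplex.single _ (ComplexShape.up ℤ) b).mapIso eM)⟩⟩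

variable {U X Y : Scheme.{u}}

/-- Derived direct image along an affine morphism of a complex of quasi-coherent modules. -/
def rpushAffineIso (j : U ⟶ X) [IsAffineHom j] [DCoh.HasRpush j] (P : CochainComplex U.Modules ℤ)
    (hq : ∀ n, Coh.IsQCoh (P.X n)) :
    DerivedCategory.Q.obj (((Scheme.Modules.pushforward j).mapHomologicalComplex (ComplexShape.up ℤ)).obj P) ≅
      (DCoh.Rpush j).obj (DerivedCategory.Q.obj P) :=
  haveI := isIso_unit_of_isAffineHom j P hq
  ((DerivedCategory.quotientCompQhIso X.Modules).app _).symm ≪≫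
    asIso ((βK j).app ((HomotopyCategory.quotient U.Modules _).obj P)) ≪≫
    (DCoh.Rpush j).mapIso ((DerivedCategory.quotientCompQhIso U.Modules).app P)

/-- `βK` is compatible with isomorphisms of complexes. -/
theorem isIso_βK_of_iso (f : X ⟶ Y) [DCoh.HasRpush f] {A B : CochainComplex X.Modules ℤ} (e : A ≅ B)
    (h : IsIso ((βK f).app ((HomotopyCategory.quotient X.Modules _).obj B))) :
    IsIso ((βK f).app ((HomotopyCategory.quotient X.Modules _).obj A)) :=
  (NatTrans.isIso_app_iff_of_iso (βK f) ((HomotopyCategory.quotient X.Modules _).mapIso e)).2 h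

variable {S X' S' : Scheme.{u}} {f : X ⟶ S} {g : S' ⟶ S} {f' : X' ⟶ S'} {g' : X' ⟶ X}
  [DCoh.HasRpush f] [DCoh.HasRpush g] [DCoh.HasLpull g] [DCoh.HasRpush f'] [DCoh.HasRpush g']
  [DCoh.HasLpull g'] {θ : DCoh.Rpush f ⋙ DCoh.Lpull g ⟶ DCoh.Lpull g' ⋙ DCoh.Rpush f'}

/-- The base change map on a resolved complex. -/
theorem isIso_of_acyclic {w : g' ≫ f = f' ≫ g} (hθ : HasFormula w θ) (J : CochainComplex X.Modules ℤ)
    (h₁ : IsIso ((βK f).app ((HomotopyCategory.quotient X.Modules _).obj J)))
    (h₂ : IsIso ((αK g').app ((HomotopyCategory.quotient X.Modules _).obj J)))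
    (h₃ : IsIso ((αK g).app ((HomotopyCategory.quotient S.Modules _).obj
      (((Scheme.Modules.pushforward f).mapHomologicalComplex _).obj J))))
    (h₄ : ∀ n, IsIso ((tauNat f g f' g' w).app (J.X n)))
    (h₅ : IsIso ((βK f').app ((HomotopyCategory.quotient X'.Modules _).obj
      (((Scheme.Modules.pullback g').mapHomologicalComplex _).obj J)))) :
    IsIso (θ.app (DerivedCategory.Q.obj J)) := by
  let qX := HomotopyCategory.quotient X.Modules (ComplexShape.up ℤ)
  let τ := (NatTrans.mapHomologicalComplex (tauNat f g f' g' w) (ComplexShape.up ℤ)).app J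
  haveI : ∀ n, IsIso (τ.f n) := h₄
  haveI : IsIso τ := HomologicalComplex.Hom.isIso_of_components τ
  haveI := h₁
  haveI := h₂
  haveI : IsIso ((αK g).app (((Scheme.Modules.pushforward f).mapHomotopyCategory _).obj (qX.obj J))) := h₃
  haveI : IsIso ((βK f').app (((Scheme.Modules.pullback g').mapHomotopyCategory _).obj (qX.obj J))) := h₅
  have h := hθ J
  have h₆ : IsIso ((DCoh.Lpull g).map ((βK f).app (qX.obj J)) ≫
      θ.app (DerivedCategory.Qh.obj (qX.obj J)) ≫ (DCoh.Rpush f').map ((αK g').app (qX.obj J))) :=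
    (congrArg (fun t => IsIso t) h).mpr
      (IsIso.comp_isIso' inferInstance (IsIso.comp_isIso' inferInstance inferInstance))
  haveI h₇ := @IsIso.of_isIso_comp_left _ _ _ _ _ ((DCoh.Lpull g).map ((βK f).app (qX.obj J)))
    (θ.app (DerivedCategory.Qh.obj (qX.obj J)) ≫ (DCoh.Rpush f').map ((αK g').app (qX.obj J)))
    inferInstance h₆
  refine (NatTrans.isIso_app_iff_of_iso θ ((DerivedCategory.quotientCompQhIso X.Modules).app J)).1 ?_
  exact @IsIso.of_isIso_comp_right _ _ _ _ _ _
    ((DCoh.Rpush f').map ((αK g').app (qX.obj J))) inferInstance h₇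

/-- Sheaves pushed forward from an affine open. -/
theorem isIso_push_affine (h : IsPullback g' f' f g) (hθ : HasFormula h.w θ) [Flat f] {R : CommRingCat.{u}}
    (j : Spec R ⟶ X) [IsOpenImmersion j] [IsAffineHom j] [IsAffineHom (j ≫ f)] (a : ℤ)
    {N : (Spec R).Modules} (hN : Coh.IsQCoh N) :
    IsIso (θ.app ((DerivedCategory.singleFunctor X.Modules a).obj
      ((Scheme.Modules.pushforward j).obj N))) := by
  haveI := hasLpull j
  haveI : DCoh.HasRpush j := hasRpush_scheme j
  obtain ⟨T, hT, hTf, hTq, ⟨eT⟩⟩ := exists_flat_qcoh_res a hN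
  haveI := hT
  let Pj := (Scheme.Modules.pushforward j).mapHomologicalComplex (ComplexShape.up ℤ)
  let Pf := (Scheme.Modules.pushforward f).mapHomologicalComplex (ComplexShape.up ℤ)
  let J : CochainComplex X.Modules ℤ := Pj.obj T
  let U' := pullback g' j
  let j' : U' ⟶ X' := pullback.fst g' j
  let g'' : U' ⟶ Spec R := pullback.snd g' j
  have hj : IsPullback g'' j' j g' := (IsPullback.of_hasPullback g' j).flip
  have hjf : IsPullback g'' (j' ≫ f') (j ≫ f) g := hj.paste_vert h
  haveI : IsOpenImmersion j' := MorphismProperty.of_isPullback hj inferInstance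
  haveI : IsAffineHom j' := MorphismProperty.of_isPullback hj inferInstance
  haveI : IsAffineHom (j' ≫ f') := MorphismProperty.of_isPullback hjf inferInstance
  have hbc : ∀ n, IsIso ((tauNat f g f' g' h.w).app (J.X n)) := fun n => by
    haveI := FlatBC6.isIso_bc0_affine hj (hTq n)
    haveI := FlatBC6.isIso_bc0_affine hjf (hTq n)
    rw [tauNat_app]
    have e := bc0_paste f g f' g' h.w j j' g'' hj.w hjf.w (T.X n)
    exact @IsIso.of_isIso_comp_right _ _ _ _ _ _
      ((Scheme.Modules.pushforward f').map (CohBC.bc0 j g' j' g'' hj.w (T.X n)) ≫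
        ((Scheme.Modules.pushforwardComp j' f').app ((Scheme.Modules.pullback g'').obj (T.X n))).hom)
      inferInstance ((congrArg (fun t => IsIso t) e).mpr inferInstance)
  have hle : ∀ n, a < n → IsZero (T.X n) := fun n hn => CochainComplex.isZero_of_isStrictlyLE T a n hn
  haveI : J.IsStrictlyLE a := (CochainComplex.isStrictlyLE_iff _ _).2 fun n hn =>
    (Scheme.Modules.pushforward j).map_isZero (hle n hn)
  haveI : CochainComplex.IsStrictlyLE (Pf.obj J) a := (CochainComplex.isStrictlyLE_iff _ _).2 fun n hn =>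
    (Scheme.Modules.pushforward f).map_isZero ((Scheme.Modules.pushforward j).map_isZero (hle n hn))
  have hk₁ : DCoh.IsKFlat J := isKFlat_of_isStrictlyLE J a fun n =>
    isFlat_pushforward_affine j (hTq n) (isFlatOver_of_isFlat j (hTf n))
  have hk₂ : DCoh.IsKFlat (Pf.obj J) := isKFlat_of_isStrictlyLE _ a fun n =>
    isFlat_pushforward_affine (j ≫ f) (hTq n) (isFlatOver_of_isFlat (j ≫ f) (hTf n))
  let τj : ((Scheme.Modules.pullback g').mapHomologicalComplex (ComplexShape.up ℤ)).obj J ⟶
      ((Scheme.Modules.pushforward j').mapHomologicalComplex (ComplexShape.up ℤ)).obj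
        (((Scheme.Modules.pullback g'').mapHomologicalComplex (ComplexShape.up ℤ)).obj T) :=
    (NatTrans.mapHomologicalComplex (tauNat j g' j' g'' hj.w) (ComplexShape.up ℤ)).app T
  haveI : ∀ n, IsIso (τj.f n) := fun n => by
    show IsIso ((tauNat j g' j' g'' hj.w).app (T.X n))
    rw [tauNat_app]
    exact FlatBC6.isIso_bc0_affine hj (hTq n)
  haveI : IsIso τj := HomologicalComplex.Hom.isIso_of_components τj
  have key : IsIso (θ.app (DerivedCategory.Q.obj J)) := isIso_of_acyclic hθ J (isIso_βK_push j f T hTq)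
    (isIso_Lpull_counit g' hk₁) (isIso_Lpull_counit g hk₂) hbc
    (isIso_βK_of_iso f' (asIso τj)
      (isIso_βK_push j' f' _ fun n => QCoh.isQCoh_pullback g'' (hTq n)))
  have hNq : ∀ n, Coh.IsQCoh (((HomologicalComplex.single _ (ComplexShape.up ℤ) a).obj N).X n) := fun n => by
    by_cases hn : n = a
    · subst hn
      exact isQCoh_of_iso (HomologicalComplex.singleObjXSelf (ComplexShape.up ℤ) n N).symm hN
    · exact isQCoh_of_isZero (HomologicalComplex.isZero_single_obj_X (ComplexShape.up ℤ) _ _ _ hn)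
  let i : (DerivedCategory.singleFunctor X.Modules a).obj ((Scheme.Modules.pushforward j).obj N) ≅
      DerivedCategory.Q.obj J :=
    (DerivedCategory.singleFunctorIsoCompQ X.Modules a).app _ ≪≫
      DerivedCategory.Q.mapIso
        ((HomologicalComplex.singleMapHomologicalComplex (Scheme.Modules.pushforward j) (ComplexShape.up ℤ) a).app N).symm ≪≫
      rpushAffineIso j _ hNq ≪≫ (DCoh.Rpush j).mapIso eT.symm ≪≫ (rpushAffineIso j T hTq).symm
  exact (NatTrans.isIso_app_iff_of_iso θ i).2 key

end Groth.Agent.DerBC7
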