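import Groth.Agent.DerBC7.H0Fibre
import Groth.Agent.H23.RigidGamma

/-!
# `O = f_* O` for geometrically reduced and connected fibres
-/

set_option linter.style.haveILetI false

universe u

open CategoryTheory CategoryTheory.Limits AlgebraicGeometry

noncomputable section

namespace Groth.Agent.DerBC7

open Groth.Agent.H23

theorem isIso_app_of_geometric {X S : Scheme.{u}} (f : X ⟶ S) [IsProper f] [Flat f]
    [LocallyOfFinitePresentation f]
    (h : ∀ (K : Type u) [Field K] [IsAlgClosed K] (g : Spec (CommRingCat.of K) ⟶ S),
      IsReduced (pullback f g) ∧ ConnectedSpace ↥(pullback f g))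
    (V : S.Opens) : IsIso (f.app V) := by
  refine isIso_app_of_h0 f (fun s => ?_) V
  let t := Spec.map (CommRingCat.ofHom (algebraMap (S.residueField s) (AlgebraicClosure (S.residueField s))))
  obtain ⟨hr, hc⟩ := h (AlgebraicClosure (S.residueField s)) (t ≫ S.fromSpecResidueField s)
  let e := pullbackLeftPullbackSndIso f (S.fromSpecResidueField s) t
  haveI : ConnectedSpace ↥(pullback (pullback.snd f (S.fromSpecResidueField s)) t) :=
    e.hom.homeomorph.connectedSpace_iff.mpr hc
  haveI := hr
  haveI : IsReduced (pullback (pullback.snd f (S.fromSpecResidueField s)) t) :=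
    isReduced_of_isOpenImmersion e.hom
  refine (ConcreteCategory.isIso_iff_bijective _).mpr ?_
  exact RigidGamma.bijective_appTop_of_algClosure (k := S.residueField s)
    (pullback.snd f (S.fromSpecResidueField s))

end Groth.Agent.DerBC7
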