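import Groth.Agent.KFlatLib.Scheme.Amplitude
import Groth.Agent.PerfGen7.TensorTri
import Groth.Agent.DerBC7.TriExact

/-!
# Functors computed by K-flat complexes send distinguished triangles to distinguished triangles
-/

set_option linter.style.haveILetI false
set_option backward.isDefEq.respectTransparency false

universe u

open CategoryTheory CategoryTheory.Limits AlgebraicGeometry Pretriangulated

attribute [local instance] HasDerivedCategory.standard

noncomputable section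

namespace Groth.Agent.DerBC7

open Groth.Agent.KFlatLib

variable {X Y : Scheme.{u}}

/-- A functor on `D(X)` given by `F` on K-flat complexes preserves distinguished triangles. -/
theorem exists_distinguished_of_comparison (F : X.Modules ⥤ Y.Modules) [F.Additive]
    (L : DCoh.D X ⥤ DCoh.D Y)
    (α : DerivedCategory.Q ⋙ L ⟶ F.mapHomologicalComplex (ComplexShape.up ℤ) ⋙ DerivedCategory.Q)
    (hα : ∀ K, DCoh.IsKFlat K → IsIso (α.app K)) (T : Triangle (DCoh.D X))
    (hT : T ∈ distTriang (DCoh.D X)) :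
    ∃ c : L.obj T.obj₃ ⟶ (L.obj T.obj₁)⟦(1 : ℤ)⟧,
      Triangle.mk (L.map T.mor₁) (L.map T.mor₂) c ∈ distTriang (DCoh.D Y) := by
  obtain ⟨A, B, φ, ⟨e⟩⟩ := (DerivedCategory.mem_distTriang_iff T).1 hT
  let φ' := (kRes X).map φ
  let T₁ := DerivedCategory.Q.mapTriangle.obj (CochainComplex.mappingCone.triangle φ')
  have hT₁ : T₁ ∈ distTriang (DCoh.D X) :=
    (DerivedCategory.mem_distTriang_iff _).2 ⟨_, _, φ', ⟨Iso.refl _⟩⟩
  have hT₀ : DerivedCategory.Q.mapTriangle.obj (CochainComplex.mappingCone.triangle φ) ∈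
      distTriang (DCoh.D X) :=
    (DerivedCategory.mem_distTriang_iff _).2 ⟨_, _, φ, ⟨Iso.refl _⟩⟩
  let e' : T₁ ≅ T := isoTriangleOfIso₁₂ T₁
    (DerivedCategory.Q.mapTriangle.obj (CochainComplex.mappingCone.triangle φ)) hT₁ hT₀
    ((resQIso X).app A) ((resQIso X).app B) ((resQIso X).hom.naturality φ) ≪≫ e.symm
  have hA : DCoh.IsKFlat ((kRes X).obj A) := isKFlat_kRes A
  have hB : DCoh.IsKFlat ((kRes X).obj B) := isKFlat_kRes B
  have hC : DCoh.IsKFlat (CochainComplex.mappingCone φ') := kFlat_cone (T := DCoh.tensorBi) φ' hA hB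
  haveI := hα _ hA
  haveI := hα _ hB
  haveI := hα _ hC
  let G := F.mapHomologicalComplex (ComplexShape.up ℤ)
  let T₂ := DerivedCategory.Q.mapTriangle.obj (CochainComplex.mappingCone.triangle (G.map φ'))
  have hT₂ : T₂ ∈ distTriang (DCoh.D Y) :=
    (DerivedCategory.mem_distTriang_iff _).2 ⟨_, _, G.map φ', ⟨Iso.refl _⟩⟩
  let d := CochainComplex.mappingCone.mapHomologicalComplexIso φ' F
  let a₁ : L.obj T.obj₁ ≅ T₂.obj₁ := L.mapIso (Triangle.π₁.mapIso e'.symm) ≪≫ asIso (α.app ((kRes X).obj A))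
  let a₂ : L.obj T.obj₂ ≅ T₂.obj₂ := L.mapIso (Triangle.π₂.mapIso e'.symm) ≪≫ asIso (α.app ((kRes X).obj B))
  let a₃ : L.obj T.obj₃ ≅ T₂.obj₃ := L.mapIso (Triangle.π₃.mapIso e'.symm) ≪≫
    asIso (α.app (CochainComplex.mappingCone φ')) ≪≫ DerivedCategory.Q.mapIso d
  have h₁ : T.mor₁ ≫ e'.inv.hom₂ = e'.inv.hom₁ ≫ DerivedCategory.Q.map φ' := e'.inv.comm₁
  have h₂ : T.mor₂ ≫ e'.inv.hom₃ =
      e'.inv.hom₂ ≫ DerivedCategory.Q.map (CochainComplex.mappingCone.inr φ') := e'.inv.comm₂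
  refine ⟨a₃.hom ≫ T₂.mor₃ ≫ a₁.inv⟦(1 : ℤ)⟧', isomorphic_distinguished _ hT₂ _ ?_⟩
  refine Triangle.isoMk _ _ a₁ a₂ a₃ ?_ ?_ ?_
  · show L.map T.mor₁ ≫ L.map e'.inv.hom₂ ≫ α.app _ =
      (L.map e'.inv.hom₁ ≫ α.app _) ≫ DerivedCategory.Q.map (G.map φ')
    rw [← L.map_comp_assoc, h₁, L.map_comp, Category.assoc, Category.assoc]
    exact congrArg _ (α.naturality φ')
  · show L.map T.mor₂ ≫ L.map e'.inv.hom₃ ≫ α.app _ ≫ DerivedCategory.Q.map d.hom =
      (L.map e'.inv.hom₂ ≫ α.app _) ≫ DerivedCategory.Q.map (CochainComplex.mappingCone.inr (G.map φ'))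
    have hd : G.map (CochainComplex.mappingCone.inr φ') ≫ d.hom = CochainComplex.mappingCone.inr (G.map φ') :=
      CochainComplex.mappingCone.map_inr φ' F
    rw [← L.map_comp_assoc, h₂, L.map_comp, Category.assoc, Category.assoc, ← hd,
      DerivedCategory.Q.map_comp]
    exact congrArg _ (α.naturality_assoc (CochainComplex.mappingCone.inr φ') _)
  · show (a₃.hom ≫ T₂.mor₃ ≫ a₁.inv⟦(1 : ℤ)⟧') ≫ a₁.hom⟦(1 : ℤ)⟧' = a₃.hom ≫ T₂.mor₃
    rw [Category.assoc, Category.assoc, ← Functor.map_comp, Iso.inv_hom_id,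
      CategoryTheory.Functor.map_id, Category.comp_id]

/-- `- ⊗^L G` preserves distinguished triangles. -/
theorem exists_ltensorMod_distinguished (G : X.Modules) [DCoh.HasLTensorMod G] (T : Triangle (DCoh.D X))
    (hT : T ∈ distTriang (DCoh.D X)) :
    ∃ c : (DCoh.LTensorMod G).obj T.obj₃ ⟶ ((DCoh.LTensorMod G).obj T.obj₁)⟦(1 : ℤ)⟧,
      Triangle.mk ((DCoh.LTensorMod G).map T.mor₁) ((DCoh.LTensorMod G).map T.mor₂) c ∈
        distTriang (DCoh.D X) :=
  exists_distinguished_of_comparison (DCoh.tensorRightMod G) (DCoh.LTensorMod G)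
    (ltensorModComparison G) (fun _ hK => isIso_ltensorModComparison G hK) T hT

end Groth.Agent.DerBC7
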