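import Groth.Agent.KFlatLib.Perfect.LocExact
import Mathlib.LinearAlgebra.Dimension.Constructions

/-!
# A free line which is a kernel of corank one is a direct summand
-/

universe u

open scoped TensorProduct
open Module IsLocalRing

namespace Groth.Agent.DerBC7

variable {R : Type u} [CommRing R] [IsLocalRing R]
variable {A B C : Type u} [AddCommGroup A] [AddCommGroup B] [AddCommGroup C]
  [Module R A] [Module R B] [Module R C]
  [Module.Free R A] [Module.Finite R B] [Module.Free R B] [Module.Finite R C] [Module.Free R C]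

/-- An injection of a free line onto the kernel of a map of free modules, the fibre of which has
corank one, splits, and the cokernel of that map is free. -/
theorem exists_retraction_of_corank_one {f : A →ₗ[R] B} {g : B →ₗ[R] C} (hA : finrank R A = 1)
    (hf : Function.Injective f) (hfg : Function.Exact f g)
    (hrk : finrank (ResidueField R) (LinearMap.range (g.baseChange (ResidueField R))) + 1 = finrank R B) :
    (∃ π : B →ₗ[R] A, π ∘ₗ f = LinearMap.id) ∧ Module.Free R (C ⧸ LinearMap.range g) := by
  classical
  let k := ResidueField R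
  let gb := g.baseChange k
  haveI : Module.Free k (LinearMap.range gb) :=
    Module.Free.of_basis (Module.Basis.ofVectorSpace k (LinearMap.range gb))
  let b := Module.finBasis k (LinearMap.range gb)
  choose z hz using fun i => (b i).2
  have hmk : Function.Surjective (TensorProduct.mk R k B 1) :=
    TensorProduct.mk_surjective R B k Ideal.Quotient.mk_surjective
  choose w hw using fun i => hmk (z i)
  let m := finrank k (LinearMap.range gb)
  let h : (Fin m → R) →ₗ[R] B := Fintype.linearCombination R w
  have hinj : Function.Injective ((g ∘ₗ h).lTensor k) := by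
    let b₀ := (Pi.basisFun R (Fin m)).baseChange k
    have h2 : ∀ i, (g ∘ₗ h).baseChange k (b₀ i) = b i := fun i => by
      rw [Module.Basis.baseChange_apply, Pi.basisFun_apply, ← hz i, ← hw i]
      simp [h, gb]
    have hi : Function.Injective ((g ∘ₗ h).baseChange k) := by
      have e : (g ∘ₗ h).baseChange k =
          (LinearMap.range gb).subtype ∘ₗ (b₀.equiv b (Equiv.refl _)).toLinearMap :=
        b₀.ext fun i => by simp [h2]
      rw [e]
      exact (LinearMap.range gb).injective_subtype.comp (LinearEquiv.injective _)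
    exact hi
  obtain ⟨r, hr⟩ := (split_injective_iff_lTensor_residueField_injective (g ∘ₗ h)).2 hinj
  let ρ : B →ₗ[R] (Fin m → R) := r ∘ₗ g
  have hρh : ∀ v, ρ (h v) = v := LinearMap.congr_fun hr
  let N := LinearMap.ker ρ
  let p : B →ₗ[R] N := LinearMap.codRestrict N (LinearMap.id - h ∘ₗ ρ) fun x => by
    simp [N, map_sub, hρh]
  have hp : ∀ n : N, p n.1 = n := fun n =>
    Subtype.ext (by simp [p, show ρ n.1 = 0 from n.2])
  haveI : Module.Finite R N := Module.Finite.of_surjective p fun n => ⟨n.1, hp n⟩
  haveI : Module.Projective R N := Module.Projective.of_split N.subtype p (LinearMap.ext hp)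
  haveI : Module.Free R N := Module.free_of_flat_of_isLocalRing
  let e : B ≃ₗ[R] (Fin m → R) × N :=
    LinearEquiv.ofBijective (ρ.prod p) ⟨(injective_iff_map_eq_zero _).2 fun x hx => by
      have h1 : ρ x = 0 := congrArg Prod.fst hx
      have h2 : (p x).1 = 0 := congrArg (fun t => t.2.1) hx
      simpa [p, h1] using h2, fun ⟨v, n⟩ => ⟨h v + n.1, Prod.ext
        (by simp [hρh, show ρ n.1 = 0 from n.2])
        (Subtype.ext (by simp [p, hρh, show ρ n.1 = 0 from n.2]))⟩⟩
  have hN : finrank R N = 1 := by
    have := e.finrank_eq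
    rw [Module.finrank_prod, Module.finrank_pi, Fintype.card_fin, ← hrk] at this
    change finrank k (LinearMap.range gb) + 1 = m + _ at this
    omega
  haveI : Module.Finite R A := Module.finite_of_finrank_eq_succ hA
  let bN := Module.finBasisOfFinrankEq R N hN
  let bA := Module.finBasisOfFinrankEq R A hA
  let a₀ := bA 0
  have hρf : ∀ a, ρ (f a) = 0 := fun a => by simp [ρ, hfg.apply_apply_eq_zero a]
  obtain ⟨a, ha⟩ : ∃ a : R, f a₀ = a • (bN 0).1 := ⟨bN.repr (p (f a₀)) 0, by
    have h1 : p (f a₀) = bN.repr (p (f a₀)) 0 • bN 0 := by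
      conv_lhs => rw [← bN.sum_repr (p (f a₀)), Fin.sum_univ_one]
    rw [← Submodule.coe_smul, ← h1]
    simp [p, hρf]⟩
  have hnzd : ∀ r : R, r * a = 0 → r = 0 := fun r hr => by
    have h0 : r • a₀ = 0 := hf (by rw [map_smul, ha, smul_smul, hr, zero_smul, map_zero])
    have := congrArg (fun x => bA.repr x 0) h0
    simpa [a₀] using this
  have hgz : g (bN 0).1 = 0 := by
    let bC := Module.Free.chooseBasis R C
    refine (LinearEquiv.map_eq_zero_iff bC.repr).1 (Finsupp.ext fun i => ?_)
    rw [Finsupp.zero_apply]
    refine hnzd _ ?_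
    have h0 : g (f a₀) = 0 := hfg.apply_apply_eq_zero _
    rw [ha, map_smul] at h0
    have := congrArg (fun x => bC.repr x i) h0
    simpa [mul_comm] using this
  obtain ⟨y, hy⟩ := (hfg _).1 hgz
  obtain ⟨c, rfl⟩ : ∃ c : R, c • a₀ = y := ⟨bA.repr y 0, by
    conv_rhs => rw [← bA.sum_repr y, Fin.sum_univ_one]⟩
  have hca : c * a = 1 := by
    rw [map_smul, ha, smul_smul] at hy
    have h1 : (c * a) • bN 0 = bN 0 := Subtype.ext hy
    have := congrArg (fun x => bN.repr x 0) h1
    simpa using this
  refine ⟨⟨(bN.coord 0 ∘ₗ p).smulRight (c • a₀), bA.ext fun j => ?_⟩, ?_⟩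
  · obtain rfl : j = 0 := Subsingleton.elim _ _
    show bN.coord 0 (p (f a₀)) • (c • a₀) = a₀
    rw [ha, map_smul, hp, map_smul, smul_smul]
    simp [mul_comm a c, hca]
  · have hrange : LinearMap.range g = LinearMap.range (g ∘ₗ h) := by
      refine le_antisymm ?_ (LinearMap.range_comp_le_range _ _)
      rintro _ ⟨x, rfl⟩
      refine ⟨ρ x, ?_⟩
      have hx : p x = bN.repr (p x) 0 • bN 0 := by
        conv_lhs => rw [← bN.sum_repr (p x), Fin.sum_univ_one]
      have h1 : g (p x).1 = 0 := by rw [hx, Submodule.coe_smul, map_smul, hgz, smul_zero]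
      have h2 : g x - g (h (ρ x)) = 0 := by simpa [p] using h1
      exact (sub_eq_zero.1 h2).symm
    rw [hrange]
    exact free_of_lTensor_residueField_injective (g ∘ₗ h) (Submodule.mkQ _)
      (Submodule.mkQ_surjective _) (g ∘ₗ h).exact_map_mkQ_range hinj

end Groth.Agent.DerBC7
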