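import Groth.Agent.KFlatLib.Scheme.RpushTriangle
import Groth.Agent.KFlatLib.Scheme.ProjLocFree
import Groth.Agent.DerBC7.TriExact
import Mathlib.CategoryTheory.Triangulated.Adjunction

/-!
# `Lf^*` is exact
-/

set_option linter.style.haveILetI false

universe u

open CategoryTheory CategoryTheory.Limits AlgebraicGeometry Pretriangulated

attribute [local instance] HasDerivedCategory.standard

noncomputable section

namespace Groth.Agent.DerBC7

open Groth.Agent.KFlatLib

variable {X Y : Scheme.{u}} (f : X ⟶ Y) [DCoh.HasLpull f]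

/-- `Lf^*` sends distinguished triangles to distinguished triangles. -/
theorem exists_lpull_distinguished (T : Triangle (DCoh.D Y)) (hT : T ∈ distTriang (DCoh.D Y)) :
    ∃ c : (DCoh.Lpull f).obj T.obj₃ ⟶ ((DCoh.Lpull f).obj T.obj₁)⟦(1 : ℤ)⟧,
      Triangle.mk ((DCoh.Lpull f).map T.mor₁) ((DCoh.Lpull f).map T.mor₂) c ∈
        distTriang (DCoh.D X) := by
  haveI : DCoh.HasRpush f := hasRpush_scheme f
  obtain ⟨adj⟩ := nonempty_lpull_rpush_adj f
  haveI := TriCat.qh_isLeftAdjoint_of_exists_resolution (A := X.Modules) exists_kInjective_res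
  let adjQ := Adjunction.ofIsLeftAdjoint (DerivedCategory.Qh (C := X.Modules))
  let ρ := (DerivedCategory.Qh (C := X.Modules)).rightAdjoint
  let W := HomotopyCategory.quasiIso X.Modules (ComplexShape.up ℤ)
  haveI : (ρ ⋙ DCoh.pushKh f).IsRightDerivedFunctor
      (Functor.whiskerRight adjQ.unit (DCoh.pushKh f)) W :=
    TriCat.isRightDerivedFunctor_of_adjunction adjQ W (DCoh.pushKh f)
  let e : ρ ⋙ DCoh.pushKh f ≅ DCoh.Rpush f :=
    Functor.rightDerivedUnique _ _ (Functor.whiskerRight adjQ.unit (DCoh.pushKh f))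
      ((DCoh.pushKh f).totalRightDerivedUnit DerivedCategory.Qh W) W
  letI := adjQ.rightAdjointCommShift ℤ
  haveI := adjQ.commShift_of_leftAdjoint ℤ
  haveI : ρ.IsTriangulated := adjQ.isTriangulated_rightAdjoint
  let a : DCoh.Lpull f ⊣ ρ ⋙ DCoh.pushKh f := adj.ofNatIsoRight e.symm
  letI := a.leftAdjointCommShift ℤ
  haveI := a.commShift_of_rightAdjoint ℤ
  haveI : (DCoh.Lpull f).IsTriangulated := a.isTriangulated_leftAdjoint
  exact ⟨_, (DCoh.Lpull f).map_distinguished T hT⟩

end Groth.Agent.DerBC7
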