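import Groth.Agent.DerBC7.Theta

/-!
# From sheaves to complexes with quasi-coherent cohomology
-/

set_option linter.style.haveILetI false
set_option backward.isDefEq.respectTransparency false

universe u

open CategoryTheory CategoryTheory.Limits AlgebraicGeometry Pretriangulated

attribute [local instance] HasDerivedCategory.standard

noncomputable section

namespace Groth.Agent.DerBC7

open Groth.Agent.KFlatLib

/-- The two parts of a truncation triangle. -/
theorem exists_cut {X : Scheme.{u}} (K : DCoh.D X) (hK : DCoh.IsQCohD K) (b : ℤ) :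
    ∃ T ∈ distTriang (DCoh.D X), T.obj₂ = K ∧ T.obj₁.IsLE (b - 1) ∧ T.obj₃.IsGE b ∧
      DCoh.IsQCohD T.obj₁ ∧ DCoh.IsQCohD T.obj₃ ∧
      (∀ a, K.IsGE a → a ≤ b → T.obj₁.IsGE a) ∧ (∀ c, K.IsLE c → b - 1 ≤ c → T.obj₃.IsLE c) := by
  let t : Triangulated.TStructure (DCoh.D X) := DerivedCategory.TStructure.t
  let T := (t.triangleLTGE b).obj K
  have hT : T ∈ distTriang _ := t.triangleLTGE_distinguished _ K
  haveI h₁ : T.obj₁.IsLE (b - 1) := t.isLE_truncLT_obj K _ _ (by omega)
  haveI h₃ : T.obj₃.IsGE b := t.isGE_truncGE_obj K _ _ le_rfl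
  have hq₃ : DCoh.IsQCohD T.obj₃ := fun i => by
    by_cases hi : b ≤ i
    · haveI : Mono ((DerivedCategory.homologyFunctor X.Modules i).map T.mor₂) :=
        (DerivedCategory.HomologySequence.exact₂ T hT i).mono_g
          ((DerivedCategory.isZero_of_isLE T.obj₁ (b - 1) i (by omega)).eq_of_src _ _)
      haveI : Epi ((DerivedCategory.homologyFunctor X.Modules i).map T.mor₂) :=
        (DerivedCategory.HomologySequence.exact₃ T hT i (i + 1) rfl).epi_f
          ((DerivedCategory.isZero_of_isLE T.obj₁ (b - 1) (i + 1) (by omega)).eq_of_tgt _ _)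
      haveI := isIso_of_mono_of_epi ((DerivedCategory.homologyFunctor X.Modules i).map T.mor₂)
      exact isQCoh_of_iso (asIso ((DerivedCategory.homologyFunctor X.Modules i).map T.mor₂)) (hK i)
    · exact isQCoh_of_isZero (DerivedCategory.isZero_of_isGE T.obj₃ b i (by omega))
  refine ⟨T, hT, rfl, h₁, h₃, isQCohD_obj₁ hT hK hq₃, hq₃, fun a ha hab => ?_, fun c hc hbc => ?_⟩
  · haveI := ha
    rw [DerivedCategory.isGE_iff]
    intro i hi
    exact (DerivedCategory.HomologySequence.exact₁ T hT (i - 1) i (by omega)).isZero_X₂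
      ((DerivedCategory.isZero_of_isGE T.obj₃ b (i - 1) (by omega)).eq_of_src _ _)
      ((DerivedCategory.isZero_of_isGE K a i hi).eq_of_tgt _ _)
  · haveI := hc
    rw [DerivedCategory.isLE_iff]
    intro i hi
    exact (DerivedCategory.HomologySequence.exact₃ T hT i (i + 1) rfl).isZero_X₂
      ((DerivedCategory.isZero_of_isLE K c i hi).eq_of_src _ _)
      ((DerivedCategory.isZero_of_isLE T.obj₁ (b - 1) (i + 1) (by omega)).eq_of_tgt _ _)

variable {X S X' S' : Scheme.{u}} (f : X ⟶ S) (g : S' ⟶ S) (f' : X' ⟶ S') (g' : X' ⟶ X)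
  [DCoh.HasRpush f] [DCoh.HasLpull g] [DCoh.HasRpush f'] [DCoh.HasLpull g']
  [PreservesFiniteLimits (Scheme.Modules.pullback g')] [PreservesFiniteLimits (Scheme.Modules.pullback g)]

theorem triExact_left (i : ℤ) :
    TriExact ((DCoh.Rpush f ⋙ DCoh.Lpull g) ⋙ DerivedCategory.homologyFunctor S'.Modules i) := fun T hT => by
  obtain ⟨c, hc⟩ := exists_rpush_triangle f T hT
  obtain ⟨c', hc'⟩ := exists_lpull_triangle g _ hc
  exact ⟨_, DerivedCategory.HomologySequence.exact₂ _ hc' i⟩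

theorem triExact_right (i : ℤ) :
    TriExact ((DCoh.Lpull g' ⋙ DCoh.Rpush f') ⋙ DerivedCategory.homologyFunctor S'.Modules i) :=
  fun T hT => by
    obtain ⟨c, hc⟩ := exists_lpull_triangle g' T hT
    obtain ⟨c', hc'⟩ := exists_rpush_triangle f' _ hc
    exact ⟨_, DerivedCategory.HomologySequence.exact₂ _ hc' i⟩

omit [PreservesFiniteLimits (Scheme.Modules.pullback g')] [PreservesFiniteLimits (Scheme.Modules.pullback g)] in
theorem TriExact.restrict {F : DCoh.D X ⥤ S'.Modules} (hF : TriExact F) (W : S'.Opens) :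
    TriExact (F ⋙ Scheme.Modules.restrictFunctor W.ι) := fun T hT => by
  obtain ⟨w, hw⟩ := hF T hT
  exact ⟨_, exact_restrict hw W⟩

omit [DCoh.HasLpull g] [PreservesFiniteLimits (Scheme.Modules.pullback g')]
  [PreservesFiniteLimits (Scheme.Modules.pullback g)] in
theorem isZero_restrict_pullback {V : S.Opens} {W : S'.Opens} (h : W ≤ g ⁻¹ᵁ V) (A : S.Modules)
    (hA : IsZero ((Scheme.Modules.restrictFunctor V.ι).obj A)) :
    IsZero ((Scheme.Modules.restrictFunctor W.ι).obj ((Scheme.Modules.pullback g).obj A)) := by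
  refine ((Scheme.Modules.pullback (g.resLE V W h)).map_isZero hA).of_iso ?_
  exact (Scheme.Modules.restrictFunctorIsoPullback W.ι).app _ ≪≫
    (Scheme.Modules.pullbackComp W.ι g).app A ≪≫
    (Scheme.Modules.pullbackCongr (Scheme.Hom.resLE_comp_ι g h).symm).app A ≪≫
    ((Scheme.Modules.pullbackComp (g.resLE V W h) V.ι).app A).symm ≪≫
    (Scheme.Modules.pullback (g.resLE V W h)).mapIso
      ((Scheme.Modules.restrictFunctorIsoPullback V.ι).app A).symm

variable {f g f' g'} (θ : DCoh.Rpush f ⋙ DCoh.Lpull g ⟶ DCoh.Lpull g' ⋙ DCoh.Rpush f')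

/-- Components in degree `i`, restricted to an open. -/
abbrev Hθ (i : ℤ) (W : S'.Opens) :=
  Functor.whiskerRight (Functor.whiskerRight θ (DerivedCategory.homologyFunctor S'.Modules i))
    (Scheme.Modules.restrictFunctor W.ι)

/-- The base change map is an isomorphism on bounded objects. -/
theorem isIso_bounded (h₀ : ∀ (a : ℤ) (M : X.Modules), Coh.IsQCoh M →
      IsIso (θ.app ((DerivedCategory.singleFunctor X.Modules a).obj M))) :
    ∀ (m : ℕ) (a : ℤ) (K : DCoh.D X), K.IsGE a → K.IsLE (a + m) → DCoh.IsQCohD K →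
      IsIso (θ.app K) := by
  intro m
  induction m with
  | zero =>
    intro a K hge hle hq
    haveI := hge
    haveI : K.IsLE a := by simpa using hle
    obtain ⟨M, ⟨e⟩⟩ := DerivedCategory.exists_iso_singleFunctor_obj_of_isGE_of_isLE K a
    refine (NatTrans.isIso_app_iff_of_iso θ e).2 (h₀ a M (isQCoh_of_iso ?_ (hq a)))
    exact (DerivedCategory.homologyFunctor X.Modules a).mapIso e ≪≫
      (DerivedCategory.singleFunctorCompHomologyFunctorIso X.Modules a).app M
  | succ m ih =>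
    intro a K hge hle hq
    obtain ⟨T, hT, rfl, h₁, h₃, hq₁, hq₃, hg, hl⟩ := exists_cut K hq (a + 1)
    haveI := hg a hge (by omega)
    haveI := hl _ hle (by omega)
    haveI := h₁
    haveI := h₃
    let t : Triangulated.TStructure (DCoh.D X) := DerivedCategory.TStructure.t
    haveI l₁ : T.obj₁.IsLE (a + (m : ℕ)) := t.isLE_of_le _ (a + 1 - 1) _ (by omega)
    haveI l₃ : T.obj₃.IsLE (a + 1 + (m : ℕ)) := t.isLE_of_le _ (a + (m + 1 : ℕ)) _ (by push_cast; omega)
    haveI g₀ : (T.obj₃⟦(-1 : ℤ)⟧).IsGE (a + 2) := t.isGE_shift _ (a + 1) _ _ (by omega)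
    haveI l₀ : (T.obj₃⟦(-1 : ℤ)⟧).IsLE (a + 2 + (m : ℕ)) := t.isLE_shift _ (a + 1 + (m : ℕ)) _ _ (by omega)
    haveI g₄ : (T.obj₁⟦(1 : ℤ)⟧).IsGE (a - 1) := t.isGE_shift _ a _ _ (by omega)
    haveI l₄ : (T.obj₁⟦(1 : ℤ)⟧).IsLE (a - 1 + (m : ℕ)) := t.isLE_shift _ (a + (m : ℕ)) _ _ (by omega)
    haveI := ih a T.obj₁ inferInstance l₁ hq₁
    haveI := ih (a + 1) T.obj₃ h₃ l₃ hq₃
    haveI := ih (a + 2) _ g₀ l₀ (isQCohD_shift hq₃ (-1))
    haveI := ih (a - 1) _ g₄ l₄ (isQCohD_shift hq₁ 1)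
    refine (DerivedCategory.isIso_iff _ _).2 fun i => ?_
    exact isIso_app_obj₂ (triExact_left f g i) (triExact_right f' g' i)
      (Functor.whiskerRight θ (DerivedCategory.homologyFunctor S'.Modules i)) hT
      (inferInstanceAs (IsIso ((DerivedCategory.homologyFunctor S'.Modules i).map (θ.app T.obj₁))))
      (inferInstanceAs (IsIso ((DerivedCategory.homologyFunctor S'.Modules i).map (θ.app T.obj₃))))
      (inferInstanceAs (IsIso ((DerivedCategory.homologyFunctor S'.Modules i).map (θ.app (T.obj₃⟦(-1 : ℤ)⟧)))))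
      (inferInstanceAs (IsIso ((DerivedCategory.homologyFunctor S'.Modules i).map (θ.app (T.obj₁⟦(1 : ℤ)⟧)))))

/-- The base change map is an isomorphism on all objects with quasi-coherent cohomology. -/
theorem isIso_of_bounded [QuasiCompact f] [QuasiSeparated f] [QuasiCompact f'] [QuasiSeparated f']
    [HasInjectiveResolutions X.Modules] [HasInjectiveResolutions X'.Modules]
    (h₀ : ∀ (a : ℤ) (M : X.Modules), Coh.IsQCoh M →
      IsIso (θ.app ((DerivedCategory.singleFunctor X.Modules a).obj M)))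
    (K : DCoh.D X) (hK : DCoh.IsQCohD K) : IsIso (θ.app K) := by
  let t : Triangulated.TStructure (DCoh.D X) := DerivedCategory.TStructure.t
  refine (DerivedCategory.isIso_iff _ _).2 fun i => isIso_of_isIso_restrict _ fun y => ?_
  obtain ⟨_, ⟨V, hV, rfl⟩, hyV, -⟩ :=
    S.isBasis_affineOpens.exists_subset_of_mem_open (Set.mem_univ (g.base y)) isOpen_univ
  obtain ⟨_, ⟨W, hW, rfl⟩, hyW, hWV⟩ :=
    S'.isBasis_affineOpens.exists_subset_of_mem_open (show y ∈ (g ⁻¹ᵁ V : Set S') from hyV)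
      (g ⁻¹ᵁ V).2
  refine ⟨W, hyW, ?_⟩
  obtain ⟨d, hd⟩ := exists_Rpush_bound_near f hV
  obtain ⟨d', hd'⟩ := exists_Rpush_bound_near f' hW
  let R := Scheme.Modules.restrictFunctor (Scheme.Opens.ι (X := S') W)
  have zero : ∀ (L : DCoh.D X) (j : ℤ), DCoh.IsQCohD L → L.IsLE j → j + d ≤ i → j + d' ≤ i →
      IsIso ((Hθ θ i W).app L) := by
    intro L j hL hLj h h'
    haveI := hLj
    refine isIso_of_isZero _ ?_ ?_
    · exact (isZero_restrict_pullback g hWV _ (isZero_restrict_hd_rpush f hL j V d hd i h)).of_iso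
        (R.mapIso (nonempty_hd_lpull_iso g _ i).some)
    · haveI := isLE_lpull' g' L j
      exact isZero_restrict_hd_rpush f' (isQCohD_lpull g' hL) j W d' hd' i h'
  have above : ∀ (c : ℤ) (L : DCoh.D X), L.IsLE c → DCoh.IsQCohD L → IsIso ((Hθ θ i W).app L) := by
    intro c L hLc hL
    let a : ℤ := min c (i - d - d')
    obtain ⟨T, hT, rfl, h₁, h₃, hq₁, hq₃, -, hl⟩ := exists_cut L hL a
    haveI := h₁
    haveI := h₃
    haveI := hl c hLc (by omega)
    have bdd : ∀ (M : DCoh.D X) (p q : ℤ), M.IsGE p → M.IsLE q → DCoh.IsQCohD M →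
        IsIso ((Hθ θ i W).app M) := by
      intro M p q hp hq hM
      haveI := hq
      haveI := isIso_bounded θ h₀ (q - p).toNat p M hp (t.isLE_of_le _ q _ (by omega)) hM
      exact inferInstanceAs (IsIso (R.map ((DerivedCategory.homologyFunctor S'.Modules i).map (θ.app M))))
    exact isIso_app_obj₂ ((triExact_left f g i).restrict W) ((triExact_right f' g' i).restrict W)
      (Hθ θ i W) hT (zero _ (a - 1) hq₁ h₁ (by omega) (by omega)) (bdd _ a c h₃ inferInstance hq₃)
      (bdd _ (a + 1) (c + 1) (t.isGE_shift _ a _ _ (by omega)) (t.isLE_shift _ c _ _ (by omega))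
        (isQCohD_shift hq₃ (-1)))
      (zero _ (a - 1 - 1) (isQCohD_shift hq₁ 1) (t.isLE_shift _ (a - 1) _ _ (by omega)) (by omega) (by omega))
  obtain ⟨T, hT, rfl, h₁, h₃, hq₁, hq₃, -, -⟩ := exists_cut K hK (i + 1)
  haveI := h₁
  haveI := h₃
  have below : ∀ (L : DCoh.D X) (p : ℤ), L.IsGE p → i < p → IsIso ((Hθ θ i W).app L) := by
    intro L p hp h
    haveI := hp
    refine isIso_of_isZero _ ?_ ?_
    · exact R.map_isZero (isZero_hd_lpull g _ i (isZero_hd_rpush_of_lt f L p i h))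
    · haveI := isGE_lpull g' L p
      exact R.map_isZero (isZero_hd_rpush_of_lt f' _ p i h)
  exact isIso_app_obj₂ ((triExact_left f g i).restrict W) ((triExact_right f' g' i).restrict W)
    (Hθ θ i W) hT (above _ _ h₁ hq₁) (below _ _ h₃ (by omega))
    (below _ (i + 2) (t.isGE_shift _ (i + 1) _ _ (by omega)) (by omega))
    (above (i + 1 - 1 - 1) _ (t.isLE_shift _ (i + 1 - 1) _ _ (by omega)) (isQCohD_shift hq₁ 1))

end Groth.Agent.DerBC7
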