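import Groth.Agent.DerBC7.FlatSep
import Groth.Agent.DerBC7.Devissage
import Groth.Agent.DerBC7.WayOut

/-!
# Base change along arbitrary morphisms for a flat separated morphism to an affine scheme
-/

set_option linter.style.haveILetI false
set_option backward.isDefEq.respectTransparency false

universe u

open CategoryTheory CategoryTheory.Limits AlgebraicGeometry Pretriangulated

attribute [local instance] HasDerivedCategory.standard

noncomputable section

namespace Groth.Agent.DerBC7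

open Groth.Agent.KFlatLib

variable {X S X' S' : Scheme.{u}} (f : X ⟶ S) (g : S' ⟶ S) (f' : X' ⟶ S') (g' : X' ⟶ X)
  [DCoh.HasRpush f] [DCoh.HasLpull g] [DCoh.HasRpush f'] [DCoh.HasLpull g']

theorem triExact_left' (i : ℤ) :
    TriExact ((DCoh.Rpush f ⋙ DCoh.Lpull g) ⋙ DerivedCategory.homologyFunctor S'.Modules i) := fun T hT => by
  obtain ⟨c, hc⟩ := exists_rpush_triangle f T hT
  obtain ⟨c', hc'⟩ := exists_lpull_distinguished g _ hc
  exact ⟨_, DerivedCategory.HomologySequence.exact₂ _ hc' i⟩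

theorem triExact_right' (i : ℤ) :
    TriExact ((DCoh.Lpull g' ⋙ DCoh.Rpush f') ⋙ DerivedCategory.homologyFunctor S'.Modules i) :=
  fun T hT => by
    obtain ⟨c, hc⟩ := exists_lpull_distinguished g' T hT
    obtain ⟨c', hc'⟩ := exists_rpush_triangle f' _ hc
    exact ⟨_, DerivedCategory.HomologySequence.exact₂ _ hc' i⟩

variable {f g f' g'}

/-- From sheaves to bounded objects. -/
theorem isIso_bounded' (θ : DCoh.Rpush f ⋙ DCoh.Lpull g ⟶ DCoh.Lpull g' ⋙ DCoh.Rpush f')
    (h₀ : ∀ (a : ℤ) (M : X.Modules), Coh.IsQCoh M →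
      IsIso (θ.app ((DerivedCategory.singleFunctor X.Modules a).obj M))) :
    ∀ (m : ℕ) (a : ℤ) (K : DCoh.D X), K.IsGE a → K.IsLE (a + m) → DCoh.IsQCohD K →
      IsIso (θ.app K) := by
  intro m
  induction m with
  | zero =>
    intro a K hge hle hq
    haveI := hge
    haveI : K.IsLE a := by simpa using hle
    obtain ⟨M, ⟨e⟩⟩ := DerivedCategory.exists_iso_singleFunctor_obj_of_isGE_of_isLE K a
    refine (NatTrans.isIso_app_iff_of_iso θ e).2 (h₀ a M (isQCoh_of_iso ?_ (hq a)))
    exact (DerivedCategory.homologyFunctor X.Modules a).mapIso e ≪≫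
      (DerivedCategory.singleFunctorCompHomologyFunctorIso X.Modules a).app M
  | succ m ih =>
    intro a K hge hle hq
    obtain ⟨T, hT, rfl, h₁, h₃, hq₁, hq₃, hg, hl⟩ := exists_cut K hq (a + 1)
    haveI := hg a hge (by omega)
    haveI := hl _ hle (by omega)
    haveI := h₁
    haveI := h₃
    let t : Triangulated.TStructure (DCoh.D X) := DerivedCategory.TStructure.t
    haveI l₁ : T.obj₁.IsLE (a + (m : ℕ)) := t.isLE_of_le _ (a + 1 - 1) _ (by omega)
    haveI l₃ : T.obj₃.IsLE (a + 1 + (m : ℕ)) := t.isLE_of_le _ (a + (m + 1 : ℕ)) _ (by push_cast; omega)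
    haveI g₀ : (T.obj₃⟦(-1 : ℤ)⟧).IsGE (a + 2) := t.isGE_shift _ (a + 1) _ _ (by omega)
    haveI l₀ : (T.obj₃⟦(-1 : ℤ)⟧).IsLE (a + 2 + (m : ℕ)) := t.isLE_shift _ (a + 1 + (m : ℕ)) _ _ (by omega)
    haveI g₄ : (T.obj₁⟦(1 : ℤ)⟧).IsGE (a - 1) := t.isGE_shift _ a _ _ (by omega)
    haveI l₄ : (T.obj₁⟦(1 : ℤ)⟧).IsLE (a - 1 + (m : ℕ)) := t.isLE_shift _ (a + (m : ℕ)) _ _ (by omega)
    haveI := ih a T.obj₁ inferInstance l₁ hq₁
    haveI := ih (a + 1) T.obj₃ h₃ l₃ hq₃
    haveI := ih (a + 2) _ g₀ l₀ (isQCohD_shift hq₃ (-1))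
    haveI := ih (a - 1) _ g₄ l₄ (isQCohD_shift hq₁ 1)
    refine (DerivedCategory.isIso_iff _ _).2 fun i => ?_
    exact isIso_app_obj₂ (triExact_left' f g i) (triExact_right' f' g' i)
      (Functor.whiskerRight θ (DerivedCategory.homologyFunctor S'.Modules i)) hT
      (inferInstanceAs (IsIso ((DerivedCategory.homologyFunctor S'.Modules i).map (θ.app T.obj₁))))
      (inferInstanceAs (IsIso ((DerivedCategory.homologyFunctor S'.Modules i).map (θ.app T.obj₃))))
      (inferInstanceAs (IsIso ((DerivedCategory.homologyFunctor S'.Modules i).map (θ.app (T.obj₃⟦(-1 : ℤ)⟧)))))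
      (inferInstanceAs (IsIso ((DerivedCategory.homologyFunctor S'.Modules i).map (θ.app (T.obj₁⟦(1 : ℤ)⟧)))))

/-- For `f` flat, separated and quasi-compact with affine target, `Lg^* Rf_* E = Rf'_* Lg'^* E` for bounded
`E` with quasi-coherent cohomology and any `g`. -/
theorem nonempty_baseChange_iso [DCoh.HasRpush g] [DCoh.HasRpush g'] (h : IsPullback g' f' f g)
    [IsAffine S] [Flat f] [QuasiCompact f] [IsSeparated f] (E : DCoh.D X) (a b : ℤ) [E.IsGE a] [E.IsLE b]
    (hE : DCoh.IsQCohD E) :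
    Nonempty ((DCoh.Lpull g).obj ((DCoh.Rpush f).obj E) ≅ (DCoh.Rpush f').obj ((DCoh.Lpull g').obj E)) := by
  obtain ⟨adjg⟩ := nonempty_lpull_rpush_adj g
  obtain ⟨adjg'⟩ := nonempty_lpull_rpush_adj g'
  obtain ⟨e, he⟩ := exists_bcNat h.w (f := f) (f' := f') adjg adjg'
  let θ := bcNat (f := f) (f' := f') adjg adjg' e
  have h₀ : ∀ (c : ℤ) (M : X.Modules), Coh.IsQCoh M →
      IsIso (θ.app ((DerivedCategory.singleFunctor X.Modules c).obj M)) := by
    intro c M hM
    refine (DerivedCategory.isIso_iff _ _).2 fun i => ?_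
    haveI : CompactSpace X := QuasiCompact.compactSpace_of_compactSpace f
    obtain ⟨t, ht⟩ := isCompact_univ.elim_finite_subcover (fun U : X.affineOpens => (U.1 : Set X))
      (fun U => U.1.2) (fun x _ => by
        obtain ⟨V, hV, hxV, -⟩ := exists_isAffineOpen_mem_and_subset (x := x) (U := ⊤) trivial
        exact Set.mem_iUnion.2 ⟨⟨V, hV⟩, hxV⟩)
    have hj : ∀ U : X.affineOpens, IsAffineHom U.2.fromSpec := fun U =>
      MorphismProperty.of_postcomp @IsAffineHom U.2.fromSpec f ‹IsSeparated f› inferInstance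
    have hiso := isoOn_of_cover (triExact_left' f g i) (triExact_right' f' g' i)
      (Functor.whiskerRight θ (DerivedCategory.homologyFunctor S'.Modules i)) t (fun U => U.1) (fun U => U.2)
      (hj := hj) (fun x => by simpa using ht (Set.mem_univ x)) (fun U N hN c' => by
        haveI := hj U
        haveI := isIso_push_affine h he U.2.fromSpec c' hN
        exact inferInstanceAs (IsIso ((DerivedCategory.homologyFunctor S'.Modules i).map (θ.app _)))) hM c
    exact hiso
  haveI : E.IsLE (a + ((b - a).toNat : ℕ)) :=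
    DerivedCategory.TStructure.t.isLE_of_le _ b _ (by omega)
  haveI := isIso_bounded' θ h₀ (b - a).toNat a E inferInstance inferInstance hE
  exact ⟨asIso (θ.app E)⟩

end Groth.Agent.DerBC7
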