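import Groth.Agent.DerBC7.Derived

/-!
# The base change map on injective resolutions
-/

set_option linter.style.haveILetI false
set_option backward.isDefEq.respectTransparency false

universe v₁ v₂ u₁ u₂ u

open CategoryTheory CategoryTheory.Limits AlgebraicGeometry HomologicalComplex

noncomputable section

namespace Groth.Agent.DerBC7

section Abelian

variable {B : Type u₁} [Category.{v₁} B] [Abelian B] {C : Type u₂} [Category.{v₂} C] [Abelian C]
  {ι : Type*} {c : ComplexShape ι}

theorem isIso_cyclesComparison (G : B ⥤ C) [G.Additive] [PreservesFiniteLimits G] (K : HomologicalComplex B c) (i : ι) :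
    IsIso (RDer.cyclesComparison G K i) := by
  let hK := KernelFork.mapIsLimit _ (K.cyclesIsKernel i (c.next i) rfl) G
  let hGK := ((G.mapHomologicalComplex c).obj K).cyclesIsKernel i (c.next i) rfl
  refine ⟨hGK.lift (KernelFork.ofι (G.map (K.iCycles i)) (by
    simp [← G.map_comp])), ?_, ?_⟩
  · apply Fork.IsLimit.hom_ext hGK
    simp only [Fork.ι_ofι, Category.assoc, Category.id_comp]
    erw [hGK.fac _ WalkingParallelPair.zero]
    exact RDer.cyclesComparison_i G K i
  · apply Fork.IsLimit.hom_ext hK
    rw [KernelFork.map_ι, Fork.ι_ofι, Category.assoc, RDer.cyclesComparison_i, Category.id_comp]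
    exact hGK.fac _ WalkingParallelPair.zero

/-- For an exact functor the comparison of cohomology is an isomorphism. -/
theorem isIso_homologyComparison (G : B ⥤ C) [G.Additive] [PreservesFiniteLimits G] [PreservesFiniteColimits G]
    (K : HomologicalComplex B c) (i : ι) : IsIso (RDer.homologyComparison G K i) := by
  haveI := isIso_cyclesComparison G K i
  let GK := (G.mapHomologicalComplex c).obj K
  let hGK := GK.homologyIsCokernel (c.prev i) i rfl
  let hK := CokernelCofork.mapIsColimit _ (K.homologyIsCokernel (c.prev i) i rfl) G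
  have w : G.map (K.toCycles (c.prev i) i) ≫ inv (RDer.cyclesComparison G K i) ≫ GK.homologyπ i = 0 := by
    rw [← RDer.toCycles_cyclesComparison]
    erw [Category.assoc, IsIso.hom_inv_id_assoc]
    exact GK.toCycles_comp_homologyπ _ _
  let d : G.obj (K.homology i) ⟶ GK.homology i :=
    hK.desc (CokernelCofork.ofπ (inv (RDer.cyclesComparison G K i) ≫ GK.homologyπ i) w)
  have hd : G.map (K.homologyπ i) ≫ d = inv (RDer.cyclesComparison G K i) ≫ GK.homologyπ i :=
    hK.fac (CokernelCofork.ofπ (inv (RDer.cyclesComparison G K i) ≫ GK.homologyπ i) w) WalkingParallelPair.one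
  refine ⟨d, ?_, ?_⟩
  · apply Cofork.IsColimit.hom_ext hGK
    simp only [Cofork.π_ofπ, Category.comp_id]
    erw [RDer.homologyπ_homologyComparison_assoc, hd, IsIso.hom_inv_id_assoc]
    exact (Category.comp_id _).symm
  · apply Cofork.IsColimit.hom_ext hK
    rw [CokernelCofork.map_π, Cofork.π_ofπ, ← Category.assoc, hd, Category.assoc,
      RDer.homologyπ_homologyComparison, IsIso.inv_hom_id_assoc]
    exact (Category.comp_id _).symm

/-- Cohomology of a transposed map of complexes. -/
theorem homologyMap_transpose (G : B ⥤ C) (P : C ⥤ B) [G.Additive] [P.Additive] [PreservesFiniteLimits G]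
    [PreservesFiniteLimits P] (a : G ⊣ P) (K : HomologicalComplex B c) (L : HomologicalComplex C c)
    (x : (G.mapHomologicalComplex c).obj K ⟶ L) (xh : K ⟶ (P.mapHomologicalComplex c).obj L)
    (hx : ∀ i, x.f i = (a.homEquiv _ _).symm (xh.f i)) (i : ι) :
    homologyMap x i = RDer.homologyComparison G K i ≫
      (a.homEquiv _ _).symm (homologyMap xh i ≫ RDer.homologyComparison P L i) := by
  rw [← cancel_epi (((G.mapHomologicalComplex c).obj K).homologyπ i), homologyπ_naturality,
    RDer.homologyπ_homologyComparison_assoc, ← a.homEquiv_naturality_left_symm,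
    homologyπ_naturality_assoc, RDer.homologyπ_homologyComparison, ← Category.assoc (cyclesMap xh i),
    a.homEquiv_naturality_right_symm, ← Category.assoc]
  congr 1
  rw [← cancel_mono (L.iCycles i), cyclesMap_i, Category.assoc, ← a.homEquiv_naturality_right_symm,
    Category.assoc, RDer.cyclesComparison_i, cyclesMap_i, a.homEquiv_naturality_left_symm,
    RDer.cyclesComparison_i_assoc, hx]

end Abelian

section Scheme

variable {X S X' S' : Scheme.{u}} (f : X ⟶ S) (g : S' ⟶ S) (f' : X' ⟶ S') (g' : X' ⟶ X)
  (w : g' ≫ f = f' ≫ g) [HasInjectiveResolutions X.Modules] [HasInjectiveResolutions X'.Modules]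
  [PreservesFiniteLimits (Scheme.Modules.pullback g')] [PreservesFiniteLimits (Scheme.Modules.pullback g)]
  (M : X.Modules)

/-- The composite base change map on injective resolutions is a quasi-isomorphism when the base change
maps in all degrees are isomorphisms. -/
theorem exists_quasiIso_resolution (hbc : ∀ k, IsIso (CohBC.bcQ f g f' g' w k M)) :
    ∃ φ : ((Scheme.Modules.pullback g').mapHomologicalComplex (ComplexShape.up ℕ)).obj
        (injectiveResolution M).cocomplex ⟶ (injectiveResolution ((Scheme.Modules.pullback g').obj M)).cocomplex,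
      QuasiIso φ ∧ QuasiIso
        ((NatTrans.mapHomologicalComplex (tauNat f g f' g' w) (ComplexShape.up ℕ)).app
            (injectiveResolution M).cocomplex ≫
          ((Scheme.Modules.pushforward f').mapHomologicalComplex (ComplexShape.up ℕ)).map φ) := by
  let F := Scheme.Modules.pushforward f
  let P := Scheme.Modules.pushforward g'
  let G := (Scheme.Modules.pullback g').obj M
  let adj' := Scheme.Modules.pullbackPushforwardAdjunction g'
  let U := adj'.unit.app M
  let I := injectiveResolution M
  let J := injectiveResolution G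
  let J₁ := injectiveResolution (P.obj G)
  let ψ₁ : I.cocomplex ⟶ J₁.cocomplex := InjectiveResolution.desc U J₁ I
  let ψ₂ : J₁.cocomplex ⟶ (P.mapHomologicalComplex _).obj J.cocomplex :=
    RDer.descToInjectives (𝟙 (P.obj G)) J₁.cocomplex J₁.ι ((P.mapHomologicalComplex _).obj J.cocomplex)
      (RDer.mapAug P J.ι)
  have hψ₁ : I.ι.f 0 ≫ ψ₁.f 0 = U ≫ J₁.ι.f 0 := InjectiveResolution.desc_commutes_zero U J₁ I
  let φ : ((Scheme.Modules.pullback g').mapHomologicalComplex (ComplexShape.up ℕ)).obj I.cocomplex ⟶
      J.cocomplex :=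
    { f := fun n => (adj'.homEquiv _ _).symm ((ψ₁ ≫ ψ₂).f n)
      comm' := fun i j _ => by
        show (adj'.homEquiv _ _).symm _ ≫ _ = (Scheme.Modules.pullback g').map _ ≫ (adj'.homEquiv _ _).symm _
        rw [← adj'.homEquiv_naturality_right_symm, ← adj'.homEquiv_naturality_left_symm]
        exact congrArg _ ((ψ₁ ≫ ψ₂).comm i j) }
  have hφ : QuasiIso φ := by
    haveI : QuasiIso (RDer.mapAug (Scheme.Modules.pullback g') I.ι) := inferInstance
    have h : RDer.mapAug (Scheme.Modules.pullback g') I.ι ≫ φ = J.ι := by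
      refine HomologicalComplex.from_single_hom_ext ?_
      have h2 : (RDer.mapAug P J.ι).f 0 = P.map (J.ι.f 0) := by
        simp [RDer.mapAug]
      have h1 : (RDer.mapAug (Scheme.Modules.pullback g') I.ι).f 0 =
          (Scheme.Modules.pullback g').map (I.ι.f 0) := by
        simp [RDer.mapAug]
      rw [HomologicalComplex.comp_f, h1]
      show (Scheme.Modules.pullback g').map (I.ι.f 0) ≫ (adj'.homEquiv _ _).symm (ψ₁.f 0 ≫ ψ₂.f 0) = _
      rw [← adj'.homEquiv_naturality_left_symm]
      erw [reassoc_of% hψ₁, RDer.ι_descToInjectives_f_zero, Category.id_comp, h2]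
      rw [Equiv.symm_apply_eq, Adjunction.homEquiv_unit]
      rfl
    haveI : QuasiIso (RDer.mapAug (Scheme.Modules.pullback g') I.ι ≫ φ) := by
      rw [h]; exact J.quasiIso
    exact quasiIso_of_comp_left (RDer.mapAug (Scheme.Modules.pullback g') I.ι) φ
  refine ⟨φ, hφ, ⟨fun k => ?_⟩⟩
  rw [quasiIsoAt_iff_isIso_homologyMap]
  let p : Scheme.Modules.pushforward g' ⋙ F ≅ Scheme.Modules.pushforward f' ⋙ Scheme.Modules.pushforward g :=
    Scheme.Modules.pushforwardComp g' f ≪≫ Scheme.Modules.pushforwardCongr w ≪≫
      (Scheme.Modules.pushforwardComp f' g).symm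
  let xh : (F.mapHomologicalComplex _).obj I.cocomplex ⟶
      ((Scheme.Modules.pushforward g).mapHomologicalComplex _).obj
        (((Scheme.Modules.pushforward f').mapHomologicalComplex _).obj J.cocomplex) :=
    (F.mapHomologicalComplex _).map (ψ₁ ≫ ψ₂) ≫
      (NatTrans.mapHomologicalComplex p.hom _).app J.cocomplex
  let adjg := Scheme.Modules.pullbackPushforwardAdjunction g
  rw [homologyMap_transpose _ _ adjg _ _ _ xh (fun n => ?_)]
  swap
  · show (tauNat f g f' g' w).app _ ≫ (Scheme.Modules.pushforward f').map (φ.f n) = _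
    rw [tauNat_app, CohBC.bc0]
    refine (adjg.homEquiv_naturality_right_symm _ _).symm.trans (congrArg _ ?_)
    have hn := p.hom.naturality (φ.f n)
    have hu : (ψ₁ ≫ ψ₂).f n = adj'.unit.app _ ≫ P.map (φ.f n) :=
      ((adj'.homEquiv_unit _ _ _).symm.trans ((adj'.homEquiv _ _).apply_symm_apply _)).symm
    show CohBC.bc0Adj f g f' g' w _ ≫ _ = F.map ((ψ₁ ≫ ψ₂).f n) ≫ p.hom.app _
    rw [hu, F.map_comp, CohBC.bc0Adj, Category.assoc]
    refine Eq.trans ?_ (Category.assoc _ _ _).symm
    refine congrArg (F.map _ ≫ ·) ?_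
    refine Eq.trans ?_ hn.symm
    simp [p]
    rfl
  haveI := hbc k
  haveI := isIso_homologyComparison (Scheme.Modules.pullback g) ((F.mapHomologicalComplex _).obj I.cocomplex) k
  have key : homologyMap xh k ≫ RDer.homologyComparison (Scheme.Modules.pushforward g)
      (((Scheme.Modules.pushforward f').mapHomologicalComplex _).obj J.cocomplex) k =
      (I.isoRightDerivedObj F k).inv ≫ CohBC.bcQAdj f g f' g' w k M ≫
        (Scheme.Modules.pushforward g).map (J.isoRightDerivedObj (Scheme.Modules.pushforward f') k).hom := by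
    have e₁ := InjectiveResolution.isoRightDerivedObj_inv_naturality U I J₁ ψ₁ hψ₁ F k
    simp only [Functor.comp_map, HomologicalComplex.homologyFunctor_map] at e₁
    dsimp only [CohBC.bcQAdj, RDer.edgeIn, RDer.edgeOut, CohBC.RpushSquareIso, RDer.rightDerivedIso, Coh.Rpush]
    rw [InjectiveResolution.rightDerived_app_eq _ J k]
    simp only [Category.assoc, HomologicalComplex.homologyFunctor_map]
    rw [reassoc_of% e₁]
    simp only [Category.assoc, Iso.inv_hom_id_assoc, ← Functor.map_comp, Iso.inv_hom_id,
      CategoryTheory.Functor.map_id, Category.comp_id]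
    simp only [← Category.assoc, ← homologyMap_comp]
    simp [xh, p, F, P]
    simp only [J, J₁, ψ₂, G, P]
    simp only [Iso.inv_hom_id_assoc, ← Functor.map_comp, Iso.inv_hom_id, CategoryTheory.Functor.map_id,
      Category.comp_id]
    simp only [homologyMap_comp, Category.assoc]
  rw [key, adjg.homEquiv_naturality_left_symm, adjg.homEquiv_naturality_right_symm]
  haveI : IsIso ((adjg.homEquiv _ _).symm (CohBC.bcQAdj f g f' g' w k M)) := hbc k
  infer_instance

end Scheme

end Groth.Agent.DerBC7
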