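import Groth.Agent.DerBC7.PushFlat
import Groth.Agent.KFlatLib.Scheme.TensorStalk

/-!
# Flatness over the base of tensor products
-/

set_option linter.style.haveILetI false
set_option backward.isDefEq.respectTransparency false
set_option backward.isDefEq.respectTransparency.types false

universe u

open CategoryTheory CategoryTheory.Limits AlgebraicGeometry TensorProduct

namespace Groth.Agent.DerBC7

theorem flat_tensor_flat_left (R O A B : Type u) [CommRing R] [CommRing O] [Algebra R O] [AddCommGroup A] [Module O A]
    [Module R A] [IsScalarTower R O A] [AddCommGroup B] [Module O B] [Module R B] [IsScalarTower R O B]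
    [Module.Flat O A] [Module.Flat R B] : Module.Flat R (A ⊗[O] B) := by
  rw [Module.Flat.iff_lTensor_injectiveₛ]
  intro P _ _ N
  have h₁ : Function.Injective (AlgebraTensorModule.lTensor O B N.subtype) :=
    Module.Flat.lTensor_preserves_injective_linearMap (M := B) N.subtype Subtype.val_injective
  have h₂ := Module.Flat.lTensor_preserves_injective_linearMap (M := A)
    (AlgebraTensorModule.lTensor O B N.subtype) h₁
  let e₁ : (A ⊗[O] B) ⊗[R] N ≃ₗ[O] A ⊗[O] (B ⊗[R] N) := AlgebraTensorModule.assoc R O O A B N
  let e₂ : (A ⊗[O] B) ⊗[R] P ≃ₗ[O] A ⊗[O] (B ⊗[R] P) := AlgebraTensorModule.assoc R O O A B P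
  have he : AlgebraTensorModule.lTensor O (A ⊗[O] B) N.subtype =
      e₂.symm.toLinearMap ∘ₗ (AlgebraTensorModule.lTensor O B N.subtype).lTensor A ∘ₗ e₁.toLinearMap := by
    ext a b n
    simp [e₁, e₂]
  have h₃ : Function.Injective (AlgebraTensorModule.lTensor O (A ⊗[O] B) N.subtype) := by
    rw [he]
    exact e₂.symm.injective.comp (h₂.comp e₁.injective)
  exact h₃

variable {X S : Scheme.{u}} (f : X ⟶ S) {M G : X.Modules}

open MonoidalCategory in
/-- A flat module tensored with a module flat over the base is flat over the base. -/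
theorem isFlatOver_tensor_of_isFlat (hM : FlatMod.IsFlat M) (hG : FlatMod.IsFlatOver f G) :
    FlatMod.IsFlatOver f ((DCoh.tensorBi.obj M).obj G) := fun x => by
  let O := X.presheaf.stalk x
  letI : Algebra (S.presheaf.stalk (f.base x)) O := (f.stalkMap x).hom.toAlgebra
  let A : ModuleCat.{u} O := (DerSch.stalkFunctor X x).obj M
  let B : ModuleCat.{u} O := (DerSch.stalkFunctor X x).obj G
  letI : Module (S.presheaf.stalk (f.base x)) A := Module.compHom _ (f.stalkMap x).hom
  letI : Module (S.presheaf.stalk (f.base x)) B := Module.compHom _ (f.stalkMap x).hom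
  haveI : IsScalarTower (S.presheaf.stalk (f.base x)) O A := IsScalarTower.of_algebraMap_smul fun _ _ => rfl
  haveI : IsScalarTower (S.presheaf.stalk (f.base x)) O B := IsScalarTower.of_algebraMap_smul fun _ _ => rfl
  haveI : Module.Flat O A := hM x
  haveI : Module.Flat (S.presheaf.stalk (f.base x)) B := hG x
  haveI := flat_tensor_flat_left (S.presheaf.stalk (f.base x)) O A B
  let e := (KFlatLib.stalkTensorIso x M G).toLinearEquiv.symm
  letI := FlatMod.moduleStalkOver f ((DCoh.tensorBi.obj M).obj G) x
  exact Module.Flat.of_linearEquiv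
    ({ e with
        map_smul' := fun r m => by
          show e ((f.stalkMap x).hom r • m) = _
          rw [e.map_smul]
          exact algebraMap_smul (M := A ⊗[O] B) O r (e m) } :
      (((DCoh.tensorBi.obj M).obj G).presheaf.stalk x) ≃ₗ[S.presheaf.stalk (f.base x)] (A ⊗[O] B))

end Groth.Agent.DerBC7
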