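import Groth.Agent.DerBC7.Theta
import Groth.Agent.DerBC7.KFlatTri
import Groth.Agent.KFlatLib.Perfect.Amplitude
import Groth.Agent.KFlatLib.Scheme.RpushUnbounded

/-!
# The base change map for derived tensor products with a module
-/

set_option linter.style.haveILetI false
set_option backward.isDefEq.respectTransparency false

universe u

open CategoryTheory CategoryTheory.Limits AlgebraicGeometry

attribute [local instance] HasDerivedCategory.standard

noncomputable section

namespace Groth.Agent.DerBC7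

open Groth.Agent.KFlatLib

variable {X X' : Scheme.{u}} (g' : X' ⟶ X) (G : X.Modules)

/-- Pullback of complexes commutes with tensoring by a module. -/
def pullTensorRightCxIso :
    tensorModCx G ⋙ pullCx g' ≅ pullCx g' ⋙ tensorModCx ((Scheme.Modules.pullback g').obj G) :=
  NatIso.ofComponents (fun K => HomologicalComplex.Hom.isoOfComponents
    (fun i => (pullTensorRightIso g' G).app (K.X i))
    (fun i j _ => ((pullTensorRightIso g' G).hom.naturality (K.d i j)).symm))
    (fun φ => HomologicalComplex.hom_ext _ _ fun i => (pullTensorRightIso g' G).hom.naturality (φ.f i))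

variable [DCoh.HasLpull g'] [DCoh.HasLTensorMod G]
  [DCoh.HasLTensorMod ((Scheme.Modules.pullback g').obj G)]

/-- `P ↦ g'^*(P ⊗ G)` and its resolution. -/
def compRes : Resolution (qisX X) ((tensorModCx G ⋙ pullCx g') ⋙ DerivedCategory.Q) where
  Good := DCoh.IsKFlat
  P := kRes X
  ψ := (flatCover X).ψ
  good := isKFlat_kRes
  weq K := (flatCover X).quasiIso_ψ K
  inverts A B a hA hB (ha : QuasiIso a) := by
    haveI := ha
    haveI := quasiIso_pullback g' a hA hB
    haveI := quasiIso_tensorRightMod ((Scheme.Modules.pullback g').obj G) ((pullCx g').map a)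
      (isKFlat_pullback g' hA) (isKFlat_pullback g' hB)
    have := isIso_Q_map ((tensorModCx ((Scheme.Modules.pullback g').obj G)).map ((pullCx g').map a))
      inferInstance
    exact (NatIso.isIso_map_iff (Functor.isoWhiskerRight (pullTensorRightCxIso g' G) DerivedCategory.Q) a).2 this

/-- The comparison for `Lg'^*(- ⊗^L G)`. -/
def compSrc : DerivedCategory.Q ⋙ DCoh.LTensorMod G ⋙ DCoh.Lpull g' ⟶
    (tensorModCx G ⋙ pullCx g') ⋙ DerivedCategory.Q where
  app P := (DCoh.Lpull g').map ((ltensorModComparison G).app P) ≫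
    (lpullComparison g').app ((tensorModCx G).obj P)
  naturality A B φ := by
    have h₁ := (ltensorModComparison G).naturality φ
    have h₂ := (lpullComparison g').naturality ((tensorModCx G).map φ)
    dsimp at h₁ h₂ ⊢
    rw [← Functor.map_comp_assoc, h₁, Functor.map_comp, Category.assoc, h₂, Category.assoc]

/-- The comparison for `Lg'^*(-) ⊗^L g'^*G`. -/
def compTgt : DerivedCategory.Q ⋙ DCoh.Lpull g' ⋙ DCoh.LTensorMod ((Scheme.Modules.pullback g').obj G) ⟶
    (tensorModCx G ⋙ pullCx g') ⋙ DerivedCategory.Q where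
  app P := (DCoh.LTensorMod _).map ((lpullComparison g').app P) ≫
    (ltensorModComparison _).app ((pullCx g').obj P) ≫
      DerivedCategory.Q.map ((pullTensorRightCxIso g' G).inv.app P)
  naturality A B φ := by
    have h₁ := (lpullComparison g').naturality φ
    have h₂ := (ltensorModComparison ((Scheme.Modules.pullback g').obj G)).naturality ((pullCx g').map φ)
    have h₃ := (pullTensorRightCxIso g' G).inv.naturality φ
    dsimp at h₁ h₂ h₃ ⊢
    rw [← Functor.map_comp_assoc, h₁, Functor.map_comp, Category.assoc, reassoc_of% h₂,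
      ← Functor.map_comp, h₃, Functor.map_comp, Category.assoc, Category.assoc]

theorem isIso_compTgt {P : CochainComplex X.Modules ℤ} (hP : DCoh.IsKFlat P) :
    IsIso ((compTgt g' G).app P) := by
  haveI := isIso_lpullComparison g' hP
  haveI := isIso_ltensorModComparison ((Scheme.Modules.pullback g').obj G) (isKFlat_pullback g' hP)
  dsimp [compTgt]
  infer_instance

/-- The natural map `Lg'^*(E ⊗^L G) ⟶ Lg'^*E ⊗^L g'^*G`. -/
theorem exists_nu : ∃ ν : DCoh.LTensorMod G ⋙ DCoh.Lpull g' ⟶
    DCoh.Lpull g' ⋙ DCoh.LTensorMod ((Scheme.Modules.pullback g').obj G),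
    ∀ P : CochainComplex X.Modules ℤ,
      ν.app (DerivedCategory.Q.obj P) ≫ (compTgt g' G).app P = (compSrc g' G).app P := by
  let R := compRes g' G
  let e := R.lift DerivedCategory.Q (DCoh.Lpull g' ⋙ DCoh.LTensorMod _) (compTgt g' G)
  have he : ∀ P, e.app (DerivedCategory.Q.obj P) ≫ (R.counit DerivedCategory.Q).app P =
      (compTgt g' G).app P := R.lift_fac DerivedCategory.Q _ _
  haveI : ∀ K, IsIso (e.app K) := fun K => by
    refine (NatTrans.isIso_app_iff_of_iso e ((resQIso X).app (DerivedCategory.Q.objPreimage K) ≪≫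
      DerivedCategory.Q.objObjPreimageIso K)).1 ?_
    let P := (kRes X).obj (DerivedCategory.Q.objPreimage K)
    have hP : DCoh.IsKFlat P := isKFlat_kRes _
    haveI := isIso_compTgt g' G hP
    haveI := R.isIso_counit_app DerivedCategory.Q hP
    exact @IsIso.of_isIso_fac_right _ _ _ _ _ _ _ _ inferInstance inferInstance (he P)
  haveI := NatIso.isIso_of_isIso_app e
  refine ⟨R.lift DerivedCategory.Q (DCoh.LTensorMod G ⋙ DCoh.Lpull g') (compSrc g' G) ≫ (asIso e).inv, fun P => ?_⟩
  rw [← he P, NatTrans.comp_app, Category.assoc]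
  refine Eq.trans ?_ (R.lift_fac DerivedCategory.Q _ (compSrc g' G) P)
  refine congrArg _ ?_
  rw [← Category.assoc]
  erw [(asIso e).inv_hom_id_app, Category.id_comp]

variable {S S' : Scheme.{u}} {f : X ⟶ S} {g : S' ⟶ S} {f' : X' ⟶ S'}
  [DCoh.HasRpush f] [DCoh.HasLpull g] [DCoh.HasRpush f']

/-- The base change map composed with `ν`. -/
def etaNat (θ : DCoh.Rpush f ⋙ DCoh.Lpull g ⟶ DCoh.Lpull g' ⋙ DCoh.Rpush f')
    (ν : DCoh.LTensorMod G ⋙ DCoh.Lpull g' ⟶
      DCoh.Lpull g' ⋙ DCoh.LTensorMod ((Scheme.Modules.pullback g').obj G)) :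
    DCoh.LTensorMod G ⋙ DCoh.Rpush f ⋙ DCoh.Lpull g ⟶
      DCoh.Lpull g' ⋙ DCoh.LTensorMod ((Scheme.Modules.pullback g').obj G) ⋙ DCoh.Rpush f' where
  app K := θ.app ((DCoh.LTensorMod G).obj K) ≫ (DCoh.Rpush f').map (ν.app K)
  naturality A B φ := by
    have h₁ := θ.naturality ((DCoh.LTensorMod G).map φ)
    have h₂ := ν.naturality φ
    dsimp at h₁ h₂ ⊢
    rw [reassoc_of% h₁, Category.assoc, ← Functor.map_comp, h₂, Functor.map_comp]

variable {g' G} {w : g' ≫ f = f' ≫ g} [DCoh.HasRpush g] [DCoh.HasRpush g']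
  {θ : DCoh.Rpush f ⋙ DCoh.Lpull g ⟶ DCoh.Lpull g' ⋙ DCoh.Rpush f'}

/-- The map `η` at a K-flat complex `P`, by the termwise base change map on `P ⊗ G`. -/
theorem isIso_etaNat (hθ : HasFormula w θ)
    {ν : DCoh.LTensorMod G ⋙ DCoh.Lpull g' ⟶
      DCoh.Lpull g' ⋙ DCoh.LTensorMod ((Scheme.Modules.pullback g').obj G)}
    (hν : ∀ P : CochainComplex X.Modules ℤ,
      ν.app (DerivedCategory.Q.obj P) ≫ (compTgt g' G).app P = (compSrc g' G).app P)
    (P : CochainComplex X.Modules ℤ) (hP : DCoh.IsKFlat P)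
    (h₁ : IsIso ((βK f).app ((HomotopyCategory.quotient X.Modules _).obj ((tensorModCx G).obj P))))
    (h₃ : IsIso ((αK g).app ((HomotopyCategory.quotient S.Modules _).obj
      (((Scheme.Modules.pushforward f).mapHomologicalComplex _).obj ((tensorModCx G).obj P)))))
    (h₄ : ∀ n, IsIso ((tauNat f g f' g' w).app (((tensorModCx G).obj P).X n)))
    (h₅ : IsIso ((βK f').app ((HomotopyCategory.quotient X'.Modules _).obj
      ((pullCx g').obj ((tensorModCx G).obj P))))) :
    IsIso ((etaNat g' G θ ν).app (DerivedCategory.Q.obj P)) := by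
  let C := (tensorModCx G).obj P
  let qX := HomotopyCategory.quotient X.Modules (ComplexShape.up ℤ)
  let τ := (NatTrans.mapHomologicalComplex (tauNat f g f' g' w) (ComplexShape.up ℤ)).app C
  haveI : ∀ n, IsIso (τ.f n) := h₄
  haveI : IsIso τ := HomologicalComplex.Hom.isIso_of_components τ
  haveI := h₁
  haveI : IsIso ((αK g).app (((Scheme.Modules.pushforward f).mapHomotopyCategory _).obj (qX.obj C))) := h₃
  haveI : IsIso ((βK f').app (((Scheme.Modules.pullback g').mapHomotopyCategory _).obj (qX.obj C))) := h₅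
  have h := hθ C
  have h₆ : IsIso ((DCoh.Lpull g).map ((βK f).app (qX.obj C)) ≫
      θ.app (DerivedCategory.Qh.obj (qX.obj C)) ≫ (DCoh.Rpush f').map ((αK g').app (qX.obj C))) :=
    (congrArg (fun t => IsIso t) h).mpr
      (IsIso.comp_isIso' inferInstance (IsIso.comp_isIso' inferInstance inferInstance))
  haveI h₇ := @IsIso.of_isIso_comp_left _ _ _ _ _ ((DCoh.Lpull g).map ((βK f).app (qX.obj C)))
    (θ.app (DerivedCategory.Qh.obj (qX.obj C)) ≫ (DCoh.Rpush f').map ((αK g').app (qX.obj C)))
    inferInstance h₆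
  let ι := (DerivedCategory.quotientCompQhIso X.Modules).inv.app C
  let κ := (quotientMapIso (Scheme.Modules.pullback g')).hom.app C
  have hl : (lpullComparison g').app C = (DCoh.Lpull g').map ι ≫ (αK g').app (qX.obj C) ≫ κ := by
    simp [lpullComparison, ι, κ, qX]
  haveI hC : IsIso (θ.app (DerivedCategory.Q.obj C) ≫ (DCoh.Rpush f').map ((lpullComparison g').app C)) := by
    have n := θ.naturality ι
    dsimp at n
    rw [hl, Functor.map_comp, Functor.map_comp, ← Category.assoc, ← n, Category.assoc,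
      ← Category.assoc (θ.app _)]
    haveI : IsIso ι := inferInstance
    haveI : IsIso κ := inferInstance
    exact IsIso.comp_isIso' (Functor.map_isIso _ _) (IsIso.comp_isIso' h₇ inferInstance)
  haveI := isIso_ltensorModComparison G hP
  haveI := isIso_compTgt g' G hP
  let α := (ltensorModComparison G).app P
  haveI : IsIso (θ.app ((DCoh.LTensorMod G).obj (DerivedCategory.Q.obj P)) ≫
      (DCoh.Rpush f').map ((compSrc g' G).app P)) := by
    have n := θ.naturality α
    dsimp [compSrc] at n ⊢
    rw [Functor.map_comp, ← Category.assoc, ← n, Category.assoc]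
    exact IsIso.comp_isIso' (Functor.map_isIso _ _) hC
  refine @IsIso.of_isIso_comp_right _ _ _ _ _ _ ((DCoh.Rpush f').map ((compTgt g' G).app P)) inferInstance ?_
  show IsIso ((θ.app ((DCoh.LTensorMod G).obj (DerivedCategory.Q.obj P)) ≫
    (DCoh.Rpush f').map (ν.app (DerivedCategory.Q.obj P))) ≫ _)
  rw [Category.assoc, ← Functor.map_comp, hν]
  infer_instance

variable (g' G) (f g f')

theorem triExact_eta_left (i : ℤ) :
    TriExact ((DCoh.LTensorMod G ⋙ DCoh.Rpush f ⋙ DCoh.Lpull g) ⋙
      DerivedCategory.homologyFunctor S'.Modules i) := fun T hT => by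
  obtain ⟨c, hc⟩ := exists_ltensorMod_distinguished G T hT
  obtain ⟨c₁, hc₁⟩ := exists_rpush_triangle f _ hc
  obtain ⟨c₂, hc₂⟩ := exists_distinguished_of_comparison (Scheme.Modules.pullback g) (DCoh.Lpull g)
    (lpullComparison g) (fun _ hK => isIso_lpullComparison g hK) _ hc₁
  exact ⟨_, DerivedCategory.HomologySequence.exact₂ _ hc₂ i⟩

theorem triExact_eta_right (i : ℤ) :
    TriExact ((DCoh.Lpull g' ⋙ DCoh.LTensorMod ((Scheme.Modules.pullback g').obj G) ⋙ DCoh.Rpush f') ⋙
      DerivedCategory.homologyFunctor S'.Modules i) := fun T hT => by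
  obtain ⟨c, hc⟩ := exists_distinguished_of_comparison (Scheme.Modules.pullback g') (DCoh.Lpull g')
    (lpullComparison g') (fun _ hK => isIso_lpullComparison g' hK) T hT
  obtain ⟨c₁, hc₁⟩ := exists_ltensorMod_distinguished ((Scheme.Modules.pullback g').obj G) _ hc
  obtain ⟨c₂, hc₂⟩ := exists_rpush_triangle f' _ hc₁
  exact ⟨_, DerivedCategory.HomologySequence.exact₂ _ hc₂ i⟩

end Groth.Agent.DerBC7
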