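import Groth.Agent.DerBC7.FlatSep
import Groth.Agent.DerBC7.Main
import Groth.Agent.DerBC7.TensorFlat
import Groth.Agent.DerBC7.TensorTheta
import Groth.Agent.KFlatLib.Scheme.QCohTensor
import Groth.Agent.PerfGen7.RpushFlatOver

/-!
# Base change with a module flat over the base: sheaves pushed forward from an affine open
-/

set_option linter.style.haveILetI false
set_option backward.isDefEq.respectTransparency false

universe u

open CategoryTheory CategoryTheory.Limits AlgebraicGeometry

attribute [local instance] HasDerivedCategory.standard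

noncomputable section

namespace Groth.Agent.DerBC7

open Groth.Agent.KFlatLib Groth.Agent.PerfGen7

variable {X U : Scheme.{u}}

theorem isQCoh_single_X {M : X.Modules} (hM : Coh.IsQCoh M) (a n : ℤ) :
    Coh.IsQCoh (((HomologicalComplex.single _ (ComplexShape.up ℤ) a).obj M).X n) := by
  by_cases hn : n = a
  · subst hn
    exact isQCoh_of_iso (HomologicalComplex.singleObjXSelf (ComplexShape.up ℤ) n M).symm hM
  · exact isQCoh_of_isZero (HomologicalComplex.isZero_single_obj_X (ComplexShape.up ℤ) _ _ _ hn)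

theorem isKFlat_degZero {M : X.Modules} (hM : FlatMod.IsFlat M) : DCoh.IsKFlat (degZero M) := by
  refine isKFlat_of_vanishesOutside (vanishesOutside_degZero M) fun n => ?_
  by_cases hn : n = 0
  · subst hn
    exact isFlat_of_iso' (HomologicalComplex.singleObjXSelf (ComplexShape.up ℤ) 0 M).symm hM
  · intro x
    haveI : Subsingleton ((DerSch.stalkFunctor X x).obj ((degZero M).X n) : Type u) :=
      ModuleCat.subsingleton_of_isZero ((DerSch.stalkFunctor X x).map_isZero
        (HomologicalComplex.isZero_single_obj_X (ComplexShape.up ℤ) _ _ _ hn))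
    show Module.Flat (X.presheaf.stalk x) ((DerSch.stalkFunctor X x).obj ((degZero M).X n) : Type u)
    infer_instance

/-- Modules which are isomorphic as complexes in degree `0` of the derived category are isomorphic. -/
theorem nonempty_iso_of_degZero {A B : X.Modules}
    (e : DerivedCategory.Q.obj (degZero A) ≅ DerivedCategory.Q.obj (degZero B)) : Nonempty (A ≅ B) :=
  ⟨(HomologicalComplex.singleObjHomologySelfIso (ComplexShape.up ℤ) 0 A).symm ≪≫
    ((DerivedCategory.homologyFunctorFactors X.Modules 0).app (degZero A)).symm ≪≫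
    (DerivedCategory.homologyFunctor X.Modules 0).mapIso e ≪≫
    (DerivedCategory.homologyFunctorFactors X.Modules 0).app (degZero B) ≪≫
    HomologicalComplex.singleObjHomologySelfIso (ComplexShape.up ℤ) 0 B⟩

/-- The projection formula for a flat module pushed forward from an affine open immersion. -/
theorem exists_pushforward_tensor (j : U ⟶ X) [IsOpenImmersion j] [IsAffineHom j] {T : U.Modules}
    (hT : Coh.IsQCoh T) (hTf : FlatMod.IsFlat T) {G : X.Modules} (hG : Coh.IsQCoh G) :
    ∃ D : U.Modules, Coh.IsQCoh D ∧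
      Nonempty ((DCoh.tensorRightMod G).obj ((Scheme.Modules.pushforward j).obj T) ≅
        (Scheme.Modules.pushforward j).obj D) := by
  haveI : DCoh.HasRpush j := hasRpush_scheme j
  haveI := hasLpull j
  haveI : PreservesFiniteLimits (Scheme.Modules.pullback j) :=
    Groth.Agent.HensSch7.preservesFiniteLimits_pullMod j.toLRSHom (fun x => Flat.stalkMap j x)
  let G₁ := (Scheme.Modules.pullback j).obj G
  let D := (DCoh.tensorRightMod G₁).obj T
  have hD : Coh.IsQCoh D := isQCoh_tensor hT (QCoh.isQCoh_pullback j hG)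
  refine ⟨D, hD, ?_⟩
  haveI := hasLTensorCx (degZero G)
  haveI := hasLTensorCx (degZero G₁)
  let sm := fun (Y Z : Scheme.{u}) (F : Y.Modules ⥤ Z.Modules) [F.Additive] (M : Y.Modules) =>
    DerivedCategory.Q.mapIso
      ((HomologicalComplex.singleMapHomologicalComplex F (ComplexShape.up ℤ) 0).app M)
  obtain ⟨eL⟩ := nonempty_lpull_iso_map j
  let eM : DCoh.toD U (degZero G₁) ≅ (DCoh.Lpull j).obj (DCoh.toD X (degZero G)) :=
    (sm X U (Scheme.Modules.pullback j) G).symm ≪≫
      ((Scheme.Modules.pullback j).mapDerivedCategoryFactors.app (degZero G)).symm ≪≫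
      (eL.app _).symm
  have hjT : FlatMod.IsFlat ((Scheme.Modules.pushforward j).obj T) :=
    isFlat_pushforward_affine j hT (isFlatOver_of_isFlat j hTf)
  obtain ⟨eP⟩ := nonempty_projection_DQCoh j (DCoh.toD U (degZero T)) (isQCohD_degZero hT) (degZero G)
    (isQCohD_degZero hG) (degZero G₁) ⟨eM⟩
  let aT : (DCoh.Rpush j).obj (DCoh.toD U (degZero T)) ≅
      DCoh.toD X (degZero ((Scheme.Modules.pushforward j).obj T)) :=
    (rpushAffineIso j (degZero T) (isQCoh_single_X hT 0)).symm ≪≫ sm U X (Scheme.Modules.pushforward j) T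
  let aL : (DCoh.LTensorCx (degZero G)).obj (DCoh.toD X (degZero ((Scheme.Modules.pushforward j).obj T))) ≅
      DCoh.toD X (degZero ((DCoh.tensorRightMod G).obj ((Scheme.Modules.pushforward j).obj T))) :=
    ltensorCxIso (degZero G) (isKFlat_degZero hjT) ≪≫
      DerivedCategory.Q.mapIso (tensorCxSingleIso G _).symm ≪≫ sm X X (DCoh.tensorRightMod G) _
  let aR : (DCoh.LTensorCx (degZero G₁)).obj (DCoh.toD U (degZero T)) ≅ DCoh.toD U (degZero D) :=
    ltensorCxIso (degZero G₁) (isKFlat_degZero hTf) ≪≫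
      DerivedCategory.Q.mapIso (tensorCxSingleIso G₁ _).symm ≪≫ sm U U (DCoh.tensorRightMod G₁) T
  let aD : (DCoh.Rpush j).obj (DCoh.toD U (degZero D)) ≅
      DCoh.toD X (degZero ((Scheme.Modules.pushforward j).obj D)) :=
    (rpushAffineIso j (degZero D) (isQCoh_single_X hD 0)).symm ≪≫ sm U X (Scheme.Modules.pushforward j) D
  exact nonempty_iso_of_degZero
    (aL.symm ≪≫ (DCoh.LTensorCx (degZero G)).mapIso aT.symm ≪≫ eP ≪≫ (DCoh.Rpush j).mapIso aR ≪≫ aD)

variable {S X' S' : Scheme.{u}} {f : X ⟶ S} {g : S' ⟶ S} {f' : X' ⟶ S'} {g' : X' ⟶ X}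
  [DCoh.HasRpush f] [DCoh.HasRpush g] [DCoh.HasLpull g] [DCoh.HasRpush f'] [DCoh.HasRpush g']
  [DCoh.HasLpull g'] {G : X.Modules} [DCoh.HasLTensorMod G]
  [DCoh.HasLTensorMod ((Scheme.Modules.pullback g').obj G)]
  {θ : DCoh.Rpush f ⋙ DCoh.Lpull g ⟶ DCoh.Lpull g' ⋙ DCoh.Rpush f'}
  {ν : DCoh.LTensorMod G ⋙ DCoh.Lpull g' ⟶
    DCoh.Lpull g' ⋙ DCoh.LTensorMod ((Scheme.Modules.pullback g').obj G)}

/-- The base case: sheaves pushed forward from an affine open. -/
theorem isIso_eta_push_affine (h : IsPullback g' f' f g) (hθ : HasFormula h.w θ)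
    (hν : ∀ P : CochainComplex X.Modules ℤ,
      ν.app (DerivedCategory.Q.obj P) ≫ (compTgt g' G).app P = (compSrc g' G).app P)
    (hG : Coh.IsQCoh G) (hflat : FlatMod.IsFlatOver f G) {R : CommRingCat.{u}}
    (j : Spec R ⟶ X) [IsOpenImmersion j] [IsAffineHom j] [IsAffineHom (j ≫ f)] (a : ℤ)
    {N : (Spec R).Modules} (hN : Coh.IsQCoh N) :
    IsIso ((etaNat g' G θ ν).app ((DerivedCategory.singleFunctor X.Modules a).obj
      ((Scheme.Modules.pushforward j).obj N))) := by
  haveI := hasLpull j
  haveI : DCoh.HasRpush j := hasRpush_scheme j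
  obtain ⟨T, hT, hTf, hTq, ⟨eT⟩⟩ := exists_flat_qcoh_res a hN
  haveI := hT
  let Pj := (Scheme.Modules.pushforward j).mapHomologicalComplex (ComplexShape.up ℤ)
  let Pf := (Scheme.Modules.pushforward f).mapHomologicalComplex (ComplexShape.up ℤ)
  let P : CochainComplex X.Modules ℤ := Pj.obj T
  have hle : ∀ n, a < n → IsZero (T.X n) := fun n hn => CochainComplex.isZero_of_isStrictlyLE T a n hn
  haveI : P.IsStrictlyLE a := (CochainComplex.isStrictlyLE_iff _ _).2 fun n hn =>
    (Scheme.Modules.pushforward j).map_isZero (hle n hn)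
  have hPf : ∀ n, FlatMod.IsFlat (P.X n) := fun n =>
    isFlat_pushforward_affine j (hTq n) (isFlatOver_of_isFlat j (hTf n))
  have hk₁ : DCoh.IsKFlat P := isKFlat_of_isStrictlyLE P a hPf
  let C := (tensorModCx G).obj P
  let D : CochainComplex (Spec R).Modules ℤ := (pullCx j).obj C
  have hC : ∀ n, ∃ E : (Spec R).Modules, Coh.IsQCoh E ∧
      Nonempty (C.X n ≅ (Scheme.Modules.pushforward j).obj E) :=
    fun n => exists_pushforward_tensor j (hTq n) (hTf n) hG
  have hCq : ∀ n, Coh.IsQCoh (C.X n) := fun n => isQCoh_tensor (QCoh.isQCoh_pushforward j (hTq n)) hG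
  have hDq : ∀ n, Coh.IsQCoh (D.X n) := fun n => QCoh.isQCoh_pullback j (hCq n)
  let adj := Scheme.Modules.pullbackPushforwardAdjunction j
  have hu : ∀ n, IsIso (adj.unit.app (C.X n)) := fun n => by
    obtain ⟨E, -, ⟨e⟩⟩ := hC n
    exact adj.isIso_unit_app_of_iso e
  let u : C ≅ Pj.obj D :=
    HomologicalComplex.Hom.isoOfComponents (fun n => @asIso _ _ _ _ (adj.unit.app (C.X n)) (hu n))
      (fun m n _ => (adj.unit.naturality (C.d m n)).symm)
  have hDf : ∀ n, FlatMod.IsFlatOver (j ≫ f) (D.X n) := fun n =>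
    PerfLocus7.isFlatOver_of_iso (j ≫ f) ((Scheme.Modules.restrictFunctorIsoPullback j).app (C.X n))
      (PerfLocus7.isFlatOver_restrict f j (isFlatOver_tensor_of_isFlat f (hPf n) hflat))
  let U' := pullback g' j
  let j' : U' ⟶ X' := pullback.fst g' j
  let g'' : U' ⟶ Spec R := pullback.snd g' j
  have hj : IsPullback g'' j' j g' := (IsPullback.of_hasPullback g' j).flip
  have hjf : IsPullback g'' (j' ≫ f') (j ≫ f) g := hj.paste_vert h
  haveI : IsOpenImmersion j' := MorphismProperty.of_isPullback hj inferInstance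
  haveI : IsAffineHom j' := MorphismProperty.of_isPullback hj inferInstance
  haveI : IsAffineHom (j' ≫ f') := MorphismProperty.of_isPullback hjf inferInstance
  have hbc : ∀ n, IsIso ((tauNat f g f' g' h.w).app (C.X n)) := fun n => by
    refine (NatTrans.isIso_app_iff_of_iso _ (@asIso _ _ _ _ (adj.unit.app (C.X n)) (hu n))).2 ?_
    haveI := FlatBC6.isIso_bc0_affine hj (hDq n)
    haveI := FlatBC6.isIso_bc0_affine hjf (hDq n)
    rw [tauNat_app]
    have e := bc0_paste f g f' g' h.w j j' g'' hj.w hjf.w (D.X n)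
    exact @IsIso.of_isIso_comp_right _ _ _ _ _ _
      ((Scheme.Modules.pushforward f').map (CohBC.bc0 j g' j' g'' hj.w (D.X n)) ≫
        ((Scheme.Modules.pushforwardComp j' f').app ((Scheme.Modules.pullback g'').obj (D.X n))).hom)
      inferInstance ((congrArg (fun t => IsIso t) e).mpr inferInstance)
  have hCle : ∀ n, a < n → IsZero (C.X n) := fun n hn =>
    (DCoh.tensorRightMod G).map_isZero (CochainComplex.isZero_of_isStrictlyLE P a n hn)
  haveI : CochainComplex.IsStrictlyLE (Pf.obj (Pj.obj D)) a := (CochainComplex.isStrictlyLE_iff _ _).2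
    fun n hn => (Scheme.Modules.pushforward f).map_isZero ((Scheme.Modules.pushforward j).map_isZero
      ((Scheme.Modules.pullback j).map_isZero (hCle n hn)))
  have hk₂ : DCoh.IsKFlat (Pf.obj (Pj.obj D)) := isKFlat_of_isStrictlyLE _ a fun n =>
    isFlat_pushforward_affine (j ≫ f) (hDq n) (hDf n)
  have h₃ : IsIso ((αK g).app ((HomotopyCategory.quotient S.Modules _).obj (Pf.obj C))) :=
    (NatTrans.isIso_app_iff_of_iso (αK g)
      ((HomotopyCategory.quotient S.Modules _).mapIso (Pf.mapIso u))).2 (isIso_Lpull_counit g hk₂)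
  let τj : (pullCx g').obj (Pj.obj D) ⟶
      ((Scheme.Modules.pushforward j').mapHomologicalComplex (ComplexShape.up ℤ)).obj
        (((Scheme.Modules.pullback g'').mapHomologicalComplex (ComplexShape.up ℤ)).obj D) :=
    (NatTrans.mapHomologicalComplex (tauNat j g' j' g'' hj.w) (ComplexShape.up ℤ)).app D
  haveI : ∀ n, IsIso (τj.f n) := fun n => by
    show IsIso ((tauNat j g' j' g'' hj.w).app (D.X n))
    rw [tauNat_app]
    exact FlatBC6.isIso_bc0_affine hj (hDq n)
  haveI : IsIso τj := HomologicalComplex.Hom.isIso_of_components τj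
  have key : IsIso ((etaNat g' G θ ν).app (DerivedCategory.Q.obj P)) := isIso_etaNat hθ hν P hk₁
    (isIso_βK_of_iso f u (isIso_βK_push j f D hDq)) h₃ hbc
    (isIso_βK_of_iso f' ((pullCx g').mapIso u ≪≫ asIso τj)
      (isIso_βK_push j' f' _ fun n => QCoh.isQCoh_pullback g'' (hDq n)))
  let i : (DerivedCategory.singleFunctor X.Modules a).obj ((Scheme.Modules.pushforward j).obj N) ≅
      DerivedCategory.Q.obj P :=
    (DerivedCategory.singleFunctorIsoCompQ X.Modules a).app _ ≪≫
      DerivedCategory.Q.mapIso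
        ((HomologicalComplex.singleMapHomologicalComplex (Scheme.Modules.pushforward j) (ComplexShape.up ℤ) a).app N).symm ≪≫
      rpushAffineIso j _ (isQCoh_single_X hN a) ≪≫ (DCoh.Rpush j).mapIso eT.symm ≪≫
      (rpushAffineIso j T hTq).symm
  exact (NatTrans.isIso_app_iff_of_iso (etaNat g' G θ ν) i).2 key

end Groth.Agent.DerBC7
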