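import Groth.Agent.DerBC7.TensorBase
import Groth.Agent.DerBC7.SepMain

/-!
# Base change for a module flat over an affine base
-/

set_option linter.style.haveILetI false
set_option backward.isDefEq.respectTransparency false

universe u v w

open CategoryTheory CategoryTheory.Limits AlgebraicGeometry Pretriangulated

attribute [local instance] HasDerivedCategory.standard

noncomputable section

namespace Groth.Agent.DerBC7

open Groth.Agent.KFlatLib

variable {X : Scheme.{u}}

/-- From quasi-coherent sheaves to bounded objects. -/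
theorem isIso_app_of_bounded {A : Type w} [Category.{v} A] [Abelian A] {F G : DCoh.D X ⥤ A}
    (hF : TriExact F) (hG : TriExact G) (θ : F ⟶ G) (h₀ : ∀ M : X.Modules, Coh.IsQCoh M → IsoOn θ M) :
    ∀ (m : ℕ) (a : ℤ) (K : DCoh.D X), K.IsGE a → K.IsLE (a + m) → DCoh.IsQCohD K → IsIso (θ.app K) := by
  intro m
  induction m with
  | zero =>
    intro a K hge hle hq
    haveI := hge
    haveI : K.IsLE a := by simpa using hle
    obtain ⟨M, ⟨e⟩⟩ := DerivedCategory.exists_iso_singleFunctor_obj_of_isGE_of_isLE K a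
    refine (NatTrans.isIso_app_iff_of_iso θ e).2 (h₀ M (isQCoh_of_iso ?_ (hq a)) a)
    exact (DerivedCategory.homologyFunctor X.Modules a).mapIso e ≪≫
      (DerivedCategory.singleFunctorCompHomologyFunctorIso X.Modules a).app M
  | succ m ih =>
    intro a K hge hle hq
    obtain ⟨T, hT, rfl, h₁, h₃, hq₁, hq₃, hg, hl⟩ := exists_cut K hq (a + 1)
    haveI := hg a hge (by omega)
    haveI := hl _ hle (by omega)
    haveI := h₁
    haveI := h₃
    let t : Triangulated.TStructure (DCoh.D X) := DerivedCategory.TStructure.t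
    haveI l₁ : T.obj₁.IsLE (a + (m : ℕ)) := t.isLE_of_le _ (a + 1 - 1) _ (by omega)
    haveI l₃ : T.obj₃.IsLE (a + 1 + (m : ℕ)) := t.isLE_of_le _ (a + (m + 1 : ℕ)) _ (by push_cast; omega)
    haveI g₀ : (T.obj₃⟦(-1 : ℤ)⟧).IsGE (a + 2) := t.isGE_shift _ (a + 1) _ _ (by omega)
    haveI l₀ : (T.obj₃⟦(-1 : ℤ)⟧).IsLE (a + 2 + (m : ℕ)) := t.isLE_shift _ (a + 1 + (m : ℕ)) _ _ (by omega)
    haveI g₄ : (T.obj₁⟦(1 : ℤ)⟧).IsGE (a - 1) := t.isGE_shift _ a _ _ (by omega)
    haveI l₄ : (T.obj₁⟦(1 : ℤ)⟧).IsLE (a - 1 + (m : ℕ)) := t.isLE_shift _ (a + (m : ℕ)) _ _ (by omega)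
    exact isIso_app_obj₂ hF hG θ hT (ih a T.obj₁ inferInstance l₁ hq₁) (ih (a + 1) T.obj₃ h₃ l₃ hq₃)
      (ih (a + 2) _ g₀ l₀ (isQCohD_shift hq₃ (-1))) (ih (a - 1) _ g₄ l₄ (isQCohD_shift hq₁ 1))

variable {S X' S' : Scheme.{u}} {f : X ⟶ S} {g : S' ⟶ S} {f' : X' ⟶ S'} {g' : X' ⟶ X}
  [DCoh.HasRpush f] [DCoh.HasLpull g] [DCoh.HasRpush f'] [DCoh.HasLpull g']

/-- For `f` separated and quasi-compact with affine target and `G` flat over the base,
`Lg^* Rf_*(E ⊗^L G) = Rf'_*(Lg'^*E ⊗^L g'^*G)` for bounded `E` with quasi-coherent cohomology. -/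
theorem nonempty_baseChange_tensor_iso [DCoh.HasRpush g] [DCoh.HasRpush g'] (h : IsPullback g' f' f g)
    [IsAffine S] [QuasiCompact f] [IsSeparated f] (G : X.Modules) (hG : Coh.IsQCoh G)
    (hflat : FlatMod.IsFlatOver f G) [DCoh.HasLTensorMod G]
    [DCoh.HasLTensorMod ((Scheme.Modules.pullback g').obj G)] (E : DCoh.D X) (a b : ℤ) [E.IsGE a] [E.IsLE b]
    (hE : DCoh.IsQCohD E) :
    Nonempty ((DCoh.Lpull g).obj ((DCoh.Rpush f).obj ((DCoh.LTensorMod G).obj E)) ≅
      (DCoh.Rpush f').obj ((DCoh.LTensorMod ((Scheme.Modules.pullback g').obj G)).obj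
        ((DCoh.Lpull g').obj E))) := by
  obtain ⟨adjg⟩ := nonempty_lpull_rpush_adj g
  obtain ⟨adjg'⟩ := nonempty_lpull_rpush_adj g'
  obtain ⟨e, he⟩ := exists_bcNat h.w (f := f) (f' := f') adjg adjg'
  obtain ⟨ν, hν⟩ := exists_nu g' G
  let θ := bcNat (f := f) (f' := f') adjg adjg' e
  let η := etaNat g' G θ ν
  haveI : IsIso (η.app E) := by
    refine (DerivedCategory.isIso_iff _ _).2 fun i => ?_
    let H := DerivedCategory.homologyFunctor S'.Modules i
    haveI : CompactSpace X := QuasiCompact.compactSpace_of_compactSpace f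
    obtain ⟨t, ht⟩ := isCompact_univ.elim_finite_subcover (fun U : X.affineOpens => (U.1 : Set X))
      (fun U => U.1.2) (fun x _ => by
        obtain ⟨V, hV, hxV, -⟩ := exists_isAffineOpen_mem_and_subset (x := x) (U := ⊤) trivial
        exact Set.mem_iUnion.2 ⟨⟨V, hV⟩, hxV⟩)
    have hj : ∀ U : X.affineOpens, IsAffineHom U.2.fromSpec := fun U =>
      MorphismProperty.of_postcomp @IsAffineHom U.2.fromSpec f ‹IsSeparated f› inferInstance
    have hF := triExact_eta_left G f g i
    have hF' := triExact_eta_right g' G f' i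
    have h₀ : ∀ M : X.Modules, Coh.IsQCoh M → IsoOn (Functor.whiskerRight η H) M := fun M hM =>
      isoOn_of_cover hF hF' _ t (fun U => U.1) (fun U => U.2) (hj := hj)
        (fun x => by simpa using ht (Set.mem_univ x)) (fun U N hN c => by
          haveI := hj U
          haveI := isIso_eta_push_affine h he hν hG hflat U.2.fromSpec c hN
          exact inferInstanceAs (IsIso (H.map (η.app _)))) hM
    haveI : E.IsLE (a + ((b - a).toNat : ℕ)) :=
      DerivedCategory.TStructure.t.isLE_of_le _ b _ (by omega)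
    exact isIso_app_of_bounded hF hF' _ h₀ (b - a).toNat a E inferInstance inferInstance hE
  exact ⟨asIso (η.app E)⟩

end Groth.Agent.DerBC7
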