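import Groth.Agent.DerBC7.TensorMain
import Groth.Agent.DerBC7.FlatPerfect
import Groth.Agent.CohPullLib.Model
import Groth.Agent.CohPullLib.BaseChange
import Groth.Agent.PerfGen7.RelPerfectFP
import Groth.Agent.FittX.Free
import Groth.Agent.FittX.Sheaf
import Groth.Agent.MorLib.IdealFG2
import Groth.Agent.QCoh.ProperOver
import Groth.Agent.S9349

/-!
# Direct images of perfect objects tensored with finitely presented modules flat over the base
-/

set_option linter.style.haveILetI false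
set_option backward.isDefEq.respectTransparency false

universe u

open CategoryTheory CategoryTheory.Limits AlgebraicGeometry Pretriangulated ZeroObject

attribute [local instance] HasDerivedCategory.standard

noncomputable section

namespace Groth.Agent.DerBC7

open Groth.Agent.KFlatLib Groth.Agent.PerfGen7

variable {X S : Scheme.{u}}

/-- `E ⊗^L G` by a K-flat representative of `E`, the factors exchanged. -/
theorem nonempty_LTensorMod_swap (G : X.Modules) [DCoh.HasLTensorMod G] {R : CochainComplex X.Modules ℤ}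
    (hR : DCoh.IsKFlat R) [DCoh.HasLTensorCx R] :
    Nonempty ((DCoh.LTensorMod G).obj (DCoh.toD X R) ≅ (DCoh.LTensorCx R).obj (DCoh.toD X (degZero G))) := by
  haveI := hasLTensorCx (degZero G)
  obtain ⟨e⟩ := nonempty_LTensorMod_iso G (DCoh.toD X R)
  exact ⟨e ≪≫ ltensorCxIso (degZero G) hR ≪≫
    DerivedCategory.Q.mapIso ((symmIso (tensorBiFlipIso X) (degZero G)).app R) ≪≫
    (@asIso _ _ _ _ (((DCoh.tensorCxQ R).totalLeftDerivedCounit DerivedCategory.Q (qisX X)).app (degZero G))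
      (isIso_LTensorCx_counit_of_isKFlat_right R hR _)).symm⟩

/-- Restriction of `E ⊗^L G` to an open. -/
theorem nonempty_rho_ltensorMod {U : Scheme.{u}} (j : U ⟶ X) [IsOpenImmersion j] (G : X.Modules)
    [DCoh.HasLTensorMod G] [DCoh.HasLTensorMod (G.restrict j)] (E : DCoh.D X) :
    Nonempty ((rho j).obj ((DCoh.LTensorMod G).obj E) ≅
      (DCoh.LTensorMod (G.restrict j)).obj ((rho j).obj E)) := by
  haveI := hasLTensorCx (degZero G)
  haveI := hasLTensorCx (degZero (G.restrict j))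
  obtain ⟨a⟩ := nonempty_LTensorMod_iso G E
  obtain ⟨b⟩ := nonempty_rho_ltensor_degZero j G E
  obtain ⟨c⟩ := nonempty_LTensorMod_iso (G.restrict j) ((rho j).obj E)
  exact ⟨(rho j).mapIso a ≪≫ b ≪≫ c.symm⟩

/-- `- ⊗^L G` only depends on the isomorphism class of `G`. -/
theorem nonempty_LTensorMod_congr {G G' : X.Modules} (e : G ≅ G') [DCoh.HasLTensorMod G]
    [DCoh.HasLTensorMod G'] (E : DCoh.D X) :
    Nonempty ((DCoh.LTensorMod G).obj E ≅ (DCoh.LTensorMod G').obj E) := by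
  haveI := hasLTensorCx (degZero G)
  haveI := hasLTensorCx (degZero G')
  obtain ⟨a⟩ := nonempty_LTensorMod_iso G E
  obtain ⟨b⟩ := nonempty_LTensorMod_iso G' E
  obtain ⟨c⟩ := nonempty_LTensorCx_congr_D
    (DerivedCategory.Q.mapIso ((HomologicalComplex.single X.Modules (ComplexShape.up ℤ) 0).mapIso e))
  exact ⟨a ≪≫ c.app E ≪≫ b.symm⟩

variable (f : X ⟶ S)

theorem isZero_rpush [DCoh.HasRpush f] {Z : DCoh.D X} (hZ : IsZero Z) : IsZero ((DCoh.Rpush f).obj Z) :=
  haveI := rpush_additive f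
  Functor.map_isZero _ hZ

theorem isZero_ltensorMod (G : X.Modules) [DCoh.HasLTensorMod G] {Z : DCoh.D X} (hZ : IsZero Z) :
    IsZero ((DCoh.LTensorMod G).obj Z) := by
  obtain ⟨c, hc⟩ := exists_ltensorMod_distinguished G _ (contractible_distinguished Z)
  refine ((Triangle.isZero₃_iff_isIso₁ _ hc).2 ?_).of_iso ((DCoh.LTensorMod G).mapIso (hZ.iso (isZero_zero _)))
  show IsIso ((DCoh.LTensorMod G).map (𝟙 Z))
  infer_instance

variable [DCoh.HasRpush f] (G : X.Modules) [DCoh.HasLTensorMod G]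

/-- The objects whose twisted direct image is perfect form a triangulated class. -/
def perfectPush : ObjectProperty (DCoh.D X) := fun A =>
  DCoh.IsPerfect A ∧ DCoh.IsPerfect ((DCoh.Rpush f).obj ((DCoh.LTensorMod G).obj A))

instance : (perfectPush f G).IsClosedUnderIsomorphisms := ⟨fun e ⟨h₁, h₂⟩ =>
  ⟨isPerfect_of_iso' e h₁, isPerfect_of_iso' ((DCoh.LTensorMod G ⋙ DCoh.Rpush f).mapIso e) h₂⟩⟩

theorem perfectPush_tri {T : Triangle (DCoh.D X)} (hT : T ∈ distTriang (DCoh.D X)) :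
    ∃ T' ∈ distTriang (DCoh.D S), T'.obj₁ = (DCoh.Rpush f).obj ((DCoh.LTensorMod G).obj T.obj₁) ∧
      T'.obj₂ = (DCoh.Rpush f).obj ((DCoh.LTensorMod G).obj T.obj₂) ∧
      T'.obj₃ = (DCoh.Rpush f).obj ((DCoh.LTensorMod G).obj T.obj₃) := by
  obtain ⟨c, hc⟩ := exists_ltensorMod_distinguished G T hT
  obtain ⟨c', hc'⟩ := exists_rpush_triangle f _ hc
  exact ⟨_, hc', rfl, rfl, rfl⟩

theorem perfectPush_shift_one_iff (A : DCoh.D X) :
    DCoh.IsPerfect ((DCoh.Rpush f).obj ((DCoh.LTensorMod G).obj (A⟦(1 : ℤ)⟧))) ↔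
      DCoh.IsPerfect ((DCoh.Rpush f).obj ((DCoh.LTensorMod G).obj A)) := by
  obtain ⟨T', hT', e₁, e₂, e₃⟩ := perfectPush_tri f G (rot_of_distTriang _ (contractible_distinguished A))
  have h₂ : DCoh.IsPerfect T'.obj₂ := by
    rw [e₂]
    exact isPerfect_of_isZero' (isZero_rpush f (isZero_ltensorMod G (isZero_zero _)))
  refine ⟨fun h => ?_, fun h => ?_⟩
  · have := isPerfect_tri₁ hT' h₂ (by rw [e₃]; exact h)
    rw [e₁] at this
    exact this
  · have := isPerfect_tri₃ hT' (by rw [e₁]; exact h) h₂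
    rw [e₃] at this
    exact this

theorem perfectPush_shift (A : DCoh.D X) (h : DCoh.IsPerfect ((DCoh.Rpush f).obj ((DCoh.LTensorMod G).obj A)))
    (n : ℤ) : DCoh.IsPerfect ((DCoh.Rpush f).obj ((DCoh.LTensorMod G).obj (A⟦n⟧))) := by
  induction n using Int.induction_on with
  | zero =>
    exact isPerfect_of_iso' ((DCoh.LTensorMod G ⋙ DCoh.Rpush f).mapIso
      ((shiftFunctorZero (DCoh.D X) ℤ).app A).symm) h
  | succ i ih =>
    exact isPerfect_of_iso' ((DCoh.LTensorMod G ⋙ DCoh.Rpush f).mapIso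
      ((shiftFunctorAdd' (DCoh.D X) (i : ℤ) 1 _ rfl).app A).symm) ((perfectPush_shift_one_iff f G _).2 ih)
  | pred i ih =>
    exact (perfectPush_shift_one_iff f G _).1 (isPerfect_of_iso' ((DCoh.LTensorMod G ⋙ DCoh.Rpush f).mapIso
      ((shiftFunctorAdd' (DCoh.D X) (-(i : ℤ) - 1) 1 (-(i : ℤ)) (by omega)).app A)) ih)

instance : (perfectPush f G).IsTriangulated :=
  { exists_zero := ⟨0, isZero_zero _, isPerfect_of_isZero' (isZero_zero _),
      isPerfect_of_isZero' (isZero_rpush f (isZero_ltensorMod G (isZero_zero _)))⟩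
    isStableUnderShiftBy := fun n => ⟨fun A ⟨h₁, h₂⟩ =>
      ⟨isPerfect_shift' h₁ n, perfectPush_shift f G A h₂ n⟩⟩
    ext₂' := fun τ hτ ⟨p₁, q₁⟩ ⟨p₃, q₃⟩ => ObjectProperty.le_isoClosure _ _
      ⟨isPerfect_tri₂ hτ p₁ p₃, by
        obtain ⟨T', hT', e₁, e₂, e₃⟩ := perfectPush_tri f G hτ
        exact e₂ ▸ isPerfect_tri₂ hT' (e₁.symm ▸ q₁) (e₃.symm ▸ q₃)⟩ }

variable {f G}

/-- Proper morphisms to affine schemes. -/
theorem isPerfect_rpush_ltensorMod_affine [IsAffine S] [IsProper f] [LocallyOfFinitePresentation f]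
    (hG : CohB1.IsFP G) (hflat : FlatMod.IsFlatOver f G) {E : DCoh.D X} (hE : DCoh.IsPerfect E) :
    DCoh.IsPerfect ((DCoh.Rpush f).obj ((DCoh.LTensorMod G).obj E)) := by
  let A := Γ(S, ⊤)
  let f' : X ⟶ Spec (CommRingCat.of A) := f ≫ S.isoSpec.hom
  haveI : IsProper f' := inferInstanceAs (IsProper (f ≫ S.isoSpec.hom))
  haveI : LocallyOfFinitePresentation f' :=
    inferInstanceAs (LocallyOfFinitePresentation (f ≫ S.isoSpec.hom))
  have hflat' : FlatMod.IsFlatOver f' G := isFlatOver_comp_openImmersion f S.isoSpec.hom hflat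
  obtain ⟨A₂, X₂, f₂, g₂, G₂, hA₂, hf₂, h₂, hG₂, hflat₂, ⟨eG⟩⟩ :=
    CohPullLib.exists_noetherian_model f' (QCoh.isQCoh_of_isFP hG) hG hflat'
  haveI := hf₂
  let g := S.isoSpec.hom ≫ Spec.map (CommRingCat.ofHom (algebraMap (↥A₂) A))
  have hiso : IsPullback (𝟙 X) f f' S.isoSpec.hom := IsPullback.of_horiz_isIso ⟨by simp [f']⟩
  have h : IsPullback g₂ f f₂ g := by simpa using hiso.paste_horiz h₂
  haveI : IsNoetherianRing ↥A₂ :=
    haveI : Algebra.FiniteType ℤ ↥A₂ := (Subalgebra.fg_iff_finiteType A₂).1 hA₂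
    Algebra.FiniteType.isNoetherianRing ℤ ↥A₂
  haveI : LocallyOfFiniteType f₂ := inferInstance
  haveI : IsLocallyNoetherian X₂ := LocallyOfFiniteType.isLocallyNoetherian f₂
  haveI : CompactSpace X₂ := QuasiCompact.compactSpace_of_compactSpace f₂
  haveI : IsNoetherian X₂ := ⟨⟩
  haveI : IsAffineHom g := inferInstance
  haveI : IsAffineHom g₂ := MorphismProperty.of_isPullback h.flip inferInstance
  haveI : CompactSpace X := QuasiCompact.compactSpace_of_compactSpace f
  haveI : QuasiSeparatedSpace X := quasiSeparatedSpace_of_quasiSeparated f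
  haveI : QuasiSeparatedSpace X₂ := quasiSeparatedSpace_of_quasiSeparated f₂
  haveI : DCoh.HasRpush f₂ := hasRpush_scheme f₂
  haveI : DCoh.HasRpush g := hasRpush_scheme g
  haveI : DCoh.HasRpush g₂ := hasRpush_scheme g₂
  haveI : DCoh.HasLpull g := hasLpull g
  haveI : DCoh.HasLpull g₂ := hasLpull g₂
  haveI := hasLTensorMod G₂
  haveI := hasLTensorCx (degZero G₂)
  haveI := hasLTensorMod ((Scheme.Modules.pullback g₂).obj G₂)
  obtain ⟨P₂, hP₂, hP₂q, -, hgen₂⟩ := exists_generator (X := X₂) isClosed_univ (by simp)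
  have hgen := generator_lpull g₂ (P := P₂) fun E hE h => (hgen₂ E hE (supp_univ E)).2 h
  have hP : perfectPush f G ((DCoh.Lpull g₂).obj P₂) := by
    refine ⟨isPerfect_lpull g₂ hP₂, ?_⟩
    have hsp := (KFlatLib.isPerfect_iff P₂).1 hP₂
    obtain ⟨a, ha⟩ := exists_lower_bound_of_locSP hsp
    obtain ⟨b, hb⟩ := exists_bound_of_locPC (hsp.locPC 0)
    haveI : P₂.IsGE a := by rw [DerivedCategory.isGE_iff]; exact ha
    haveI : P₂.IsLE b := by rw [DerivedCategory.isLE_iff]; exact hb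
    obtain ⟨e⟩ := nonempty_baseChange_tensor_iso h G₂ hG₂.1 hflat₂ P₂ a b hP₂q
    have hsupp : ClSub.IsProperOver f₂ (CohB1.support G₂) :=
      QCoh.isProperOver_of_subset (f := f₂) (𝟙 X₂)
        (QCoh.isClosed_support_of_isFT hG₂.1 hG₂.2) (fun x _ => ⟨x, rfl⟩)
    obtain ⟨eT⟩ := nonempty_LTensorMod_iso G₂ P₂
    have hN : DCoh.IsPerfect ((DCoh.Rpush f₂).obj ((DCoh.LTensorMod G₂).obj P₂)) :=
      isPerfect_of_iso' ((DCoh.Rpush f₂).mapIso eT.symm)
        (isPerfect_rpush_ltensor f₂ hG₂ hflat₂ hsupp hP₂)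
    obtain ⟨c⟩ := nonempty_LTensorMod_congr eG ((DCoh.Lpull g₂).obj P₂)
    exact isPerfect_of_iso' (e ≪≫ (DCoh.Rpush f).mapIso c) (isPerfect_lpull g hN)
  obtain ⟨B, ⟨-, hB⟩, ⟨r⟩⟩ := perfect_le_retractClosure hgen (perfectPush f G) (fun _ h => h.1) hP hE
  haveI : CompactSpace S := inferInstance
  exact isPerfect_retract (r.map (DCoh.LTensorMod G ⋙ DCoh.Rpush f)) hB

/-- Proper morphisms. -/
theorem isPerfect_rpush_ltensorMod_proper [IsProper f] [LocallyOfFinitePresentation f]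
    (hG : CohB1.IsFP G) (hflat : FlatMod.IsFlatOver f G) {E : DCoh.D X} (hE : DCoh.IsPerfect E) :
    DCoh.IsPerfect ((DCoh.Rpush f).obj ((DCoh.LTensorMod G).obj E)) := by
  refine isPerfect_of_cover fun s => ?_
  obtain ⟨V, hV, hsV, -⟩ := exists_isAffineOpen_mem_and_subset (x := s) (U := (⊤ : S.Opens)) trivial
  haveI : IsAffine V.toScheme := hV
  have hp := isPullback_morphismRestrict f V
  haveI : IsProper (f ∣_ V) := MorphismProperty.of_isPullback hp.flip ‹_›
  haveI : LocallyOfFinitePresentation (f ∣_ V) := MorphismProperty.of_isPullback hp.flip ‹_›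
  haveI := hasRpush_scheme (f ∣_ V)
  let j := (f ⁻¹ᵁ V).ι
  haveI := hasLTensorMod (G.restrict j)
  obtain ⟨e⟩ := nonempty_rpush_restrictD_iso f V
  obtain ⟨c⟩ := nonempty_rho_ltensorMod j G E
  have hfl : FlatMod.IsFlatOver (f ∣_ V) (G.restrict j) :=
    PerfLocus7.isFlatOver_of_iso (f ∣_ V) ((Scheme.Modules.restrictFunctorIsoPullback j).app G).symm
      (CohPullLib.isFlatOver_baseChange hp.flip hflat)
  exact ⟨V, V.ι, inferInstance, by simpa using hsV, isPerfect_of_iso'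
    ((DCoh.Rpush (f ∣_ V)).mapIso c.symm ≪≫ (e.app _).symm)
    (isPerfect_rpush_ltensorMod_affine (CohPullLib.isFP_restrict j (QCoh.isQCoh_of_isFP hG) hG) hfl
      (isPerfect_rho' j hE))⟩

/-- The scheme-theoretic reduction to proper morphisms. -/
theorem isPerfect_rpush_ltensorMod [LocallyOfFinitePresentation f] (hG : CohB1.IsFP G)
    (hflat : FlatMod.IsFlatOver f G) (hsupp : ClSub.IsProperOver f (CohB1.support G))
    {E : DCoh.D X} (hE : DCoh.IsPerfect E) :
    DCoh.IsPerfect ((DCoh.Rpush f).obj ((DCoh.LTensorMod G).obj E)) := by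
  have hGq : Coh.IsQCoh G := QCoh.isQCoh_of_isFP hG
  have hft : CohB1.IsFT G := QCoh.isFT_of_isFP hG
  let I := Fitt.sheafIdeal G 0
  let i := I.subschemeι
  haveI : LocallyOfFinitePresentation i := MorLib.IdealFG.lfp_subschemeι (FittX.isFiniteTypeIdeal hG 0)
  have hrange : Set.range i ⊆ CohB1.support G := by
    rw [Scheme.IdealSheafData.range_subschemeι]
    exact (FittX.support_sheafIdeal_zero hGq hft).le
  haveI : LocallyOfFiniteType f := inferInstance
  haveI : IsProper (i ≫ f) := QCoh.isProper_comp_of_isProperOver i hsupp hrange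
  haveI : LocallyOfFinitePresentation (i ≫ f) := inferInstance
  have hu : IsIso ((Scheme.Modules.pullbackPushforwardAdjunction i).unit.app G) :=
    (QCoh.isIso_unit_closed_iff i hGq).2 fun U a ha s => by
      rw [Scheme.IdealSheafData.ker_subschemeι, FittX.sheafIdeal_ideal hGq hft] at ha
      haveI := QCoh.finite_of_isFT hGq hft U.2
      exact Module.mem_annihilator.1 (FittX.ideal_annihilator ha) s
  let GZ := (Scheme.Modules.pullback i).obj G
  have hGZ : Coh.IsQCoh GZ := QCoh.isQCoh_pullback i hGq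
  have hGZfp : CohB1.IsFP GZ := CohPullLib.isFP_pullback_of_isQCoh i hGq hG
  let eG : G ≅ (Scheme.Modules.pushforward i).obj GZ := @asIso _ _ _ _ _ hu
  have hGZfl : FlatMod.IsFlatOver (i ≫ f) GZ :=
    (S9349.result i f GZ hGZ).2 (PerfLocus7.isFlatOver_of_iso f eG hflat)
  haveI : DCoh.HasRpush i := hasRpush_scheme i
  haveI : DCoh.HasRpush (i ≫ f) := hasRpush_scheme (i ≫ f)
  haveI := hasLpull i
  haveI := hasLTensorMod GZ
  let R := repK E
  have hR : DCoh.IsKFlat R := isKFlat_repK E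
  have hRi : DCoh.IsKFlat ((pullCx i).obj R) := isKFlat_pullback i hR
  haveI := hasLTensorCx R
  haveI := hasLTensorCx ((pullCx i).obj R)
  obtain ⟨eP⟩ := nonempty_projection_DQCoh i (DCoh.toD _ (degZero GZ)) (isQCohD_degZero hGZ) R
    (isQCohD_of_iso (repKIso E).symm (isQCohD_of_isPerfect hE)) ((pullCx i).obj R) ⟨(lpullIso i hR).symm⟩
  obtain ⟨a⟩ := nonempty_LTensorMod_swap G hR
  obtain ⟨b⟩ := nonempty_LTensorMod_swap GZ hRi
  obtain ⟨c⟩ := nonempty_rpush_comp i f
  let eD : DCoh.toD X (degZero G) ≅ (DCoh.Rpush i).obj (DCoh.toD _ (degZero GZ)) :=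
    DerivedCategory.Q.mapIso ((HomologicalComplex.single X.Modules (ComplexShape.up ℤ) 0).mapIso eG ≪≫
      ((HomologicalComplex.singleMapHomologicalComplex (Scheme.Modules.pushforward i) (ComplexShape.up ℤ) 0).app
        GZ).symm) ≪≫ rpushAffineIso i (degZero GZ) (isQCoh_single_X hGZ 0)
  let key : (DCoh.LTensorMod G).obj E ≅
      (DCoh.Rpush i).obj ((DCoh.LTensorMod GZ).obj ((DCoh.Lpull i).obj E)) :=
    (DCoh.LTensorMod G).mapIso (repKIso E).symm ≪≫ a ≪≫ (DCoh.LTensorCx R).mapIso eD ≪≫ eP ≪≫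
      (DCoh.Rpush i).mapIso (b.symm ≪≫ (DCoh.LTensorMod GZ).mapIso
        ((lpullIso i hR).symm ≪≫ (DCoh.Lpull i).mapIso (repKIso E)))
  exact isPerfect_of_iso' (((DCoh.Rpush f).mapIso key ≪≫ c.app _).symm)
    (isPerfect_rpush_ltensorMod_proper hGZfp hGZfl (isPerfect_lpull i hE))

end Groth.Agent.DerBC7
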