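import Groth.Agent.DerBC7.LpullFlat
import Groth.Agent.DerBC7.Single
import Groth.Agent.DerBC7.ExtendNat
import Groth.Agent.KFlatLib.Scheme.RpushQCoh

/-!
# The derived base change map: naturality and the case of a single sheaf
-/

set_option linter.style.haveILetI false
set_option backward.isDefEq.respectTransparency false

universe u

open CategoryTheory CategoryTheory.Limits AlgebraicGeometry HomologicalComplex

attribute [local instance] HasDerivedCategory.standard

noncomputable section

namespace Groth.Agent.DerBC7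

open Groth.Agent.KFlatLib

variable {X S X' S' : Scheme.{u}} {f : X ⟶ S} {g : S' ⟶ S} {f' : X' ⟶ S'} {g' : X' ⟶ X}
  [DCoh.HasRpush f] [DCoh.HasRpush g] [DCoh.HasLpull g] [DCoh.HasRpush f'] [DCoh.HasRpush g']
  [DCoh.HasLpull g']

/-- The base change map as a natural transformation. -/
def bcNat (adjg : DCoh.Lpull g ⊣ DCoh.Rpush g) (adjg' : DCoh.Lpull g' ⊣ DCoh.Rpush g')
    (e : DCoh.Rpush g' ⋙ DCoh.Rpush f ≅ DCoh.Rpush f' ⋙ DCoh.Rpush g) :
    DCoh.Rpush f ⋙ DCoh.Lpull g ⟶ DCoh.Lpull g' ⋙ DCoh.Rpush f' where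
  app K := DCoh.baseChangeApp adjg adjg' e K
  naturality A B φ := by
    show (DCoh.Lpull g).map ((DCoh.Rpush f).map φ) ≫ (adjg.homEquiv _ _).symm _ =
      (adjg.homEquiv _ _).symm _ ≫ (DCoh.Rpush f').map ((DCoh.Lpull g').map φ)
    rw [← adjg.homEquiv_naturality_left_symm, ← adjg.homEquiv_naturality_right_symm]
    refine congrArg _ ?_
    have h₁ := adjg'.unit.naturality φ
    have h₂ := e.hom.naturality ((DCoh.Lpull g').map φ)
    simp only [Functor.id_map, Functor.comp_map] at h₁ h₂
    rw [← Category.assoc, ← Functor.map_comp, h₁, Functor.map_comp, Category.assoc, Category.assoc]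
    exact congrArg _ h₂

theorem bcNat_app (adjg : DCoh.Lpull g ⊣ DCoh.Rpush g) (adjg' : DCoh.Lpull g' ⊣ DCoh.Rpush g')
    (e : DCoh.Rpush g' ⋙ DCoh.Rpush f ≅ DCoh.Rpush f' ⋙ DCoh.Rpush g) (K : DCoh.D X) :
    (bcNat adjg adjg' e).app K = DCoh.baseChangeApp adjg adjg' e K := rfl

variable (w : g' ≫ f = f' ≫ g)

/-- The formula for the base change map on a complex. -/
def HasFormula (θ : DCoh.Rpush f ⋙ DCoh.Lpull g ⟶ DCoh.Lpull g' ⋙ DCoh.Rpush f') : Prop :=
  ∀ J : CochainComplex X.Modules ℤ,
    (DCoh.Lpull g).map ((βK f).app ((HomotopyCategory.quotient X.Modules _).obj J)) ≫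
      θ.app (DerivedCategory.Qh.obj ((HomotopyCategory.quotient X.Modules _).obj J)) ≫
      (DCoh.Rpush f').map ((αK g').app ((HomotopyCategory.quotient X.Modules _).obj J)) =
    (αK g).app (((Scheme.Modules.pushforward f).mapHomotopyCategory _).obj
        ((HomotopyCategory.quotient X.Modules _).obj J)) ≫
      DerivedCategory.Qh.map ((HomotopyCategory.quotient S'.Modules _).map
        ((NatTrans.mapHomologicalComplex (tauNat f g f' g' w) (ComplexShape.up ℤ)).app J)) ≫
      (βK f').app (((Scheme.Modules.pullback g').mapHomotopyCategory _).obj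
        ((HomotopyCategory.quotient X.Modules _).obj J))

theorem exists_bcNat (adjg : DCoh.Lpull g ⊣ DCoh.Rpush g) (adjg' : DCoh.Lpull g' ⊣ DCoh.Rpush g') :
    ∃ e, HasFormula w (bcNat (f := f) (f' := f') adjg adjg' e) :=
  exists_bc_formula f g f' g' w adjg adjg'

variable {w} {θ : DCoh.Rpush f ⋙ DCoh.Lpull g ⟶ DCoh.Lpull g' ⋙ DCoh.Rpush f'} (hθ : HasFormula w θ)
  [PreservesFiniteLimits (Scheme.Modules.pullback g')] [PreservesFiniteLimits (Scheme.Modules.pullback g)]

include hθ in
/-- On a K-injective complex the base change map is computed by `f'_*`-resolved complexes. -/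
theorem isIso_of_quasiIso (J : CochainComplex X.Modules ℤ) [J.IsKInjective]
    (I : CochainComplex X'.Modules ℤ) [I.IsKInjective]
    (φ : ((Scheme.Modules.pullback g').mapHomologicalComplex _).obj J ⟶ I) (hφ : QuasiIso φ)
    (hc : QuasiIso ((NatTrans.mapHomologicalComplex (tauNat f g f' g' w) (ComplexShape.up ℤ)).app J ≫
      ((Scheme.Modules.pushforward f').mapHomologicalComplex _).map φ)) :
    IsIso (θ.app (DerivedCategory.Qh.obj ((HomotopyCategory.quotient X.Modules _).obj J))) := by
  let qX := HomotopyCategory.quotient X.Modules (ComplexShape.up ℤ)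
  let qX' := HomotopyCategory.quotient X'.Modules (ComplexShape.up ℤ)
  let qS' := HomotopyCategory.quotient S'.Modules (ComplexShape.up ℤ)
  let G' := (Scheme.Modules.pullback g').mapHomologicalComplex (ComplexShape.up ℤ)
  let P' := (Scheme.Modules.pushforward f').mapHomologicalComplex (ComplexShape.up ℤ)
  let τ := (NatTrans.mapHomologicalComplex (tauNat f g f' g' w) (ComplexShape.up ℤ)).app J
  haveI : IsIso ((βK f).app (qX.obj J)) := isIso_unit_of_kInjective f J
  haveI : IsIso ((βK f').app (qX'.obj I)) := isIso_unit_of_kInjective f' I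
  haveI : IsIso ((αK g').app (qX.obj J)) := isIso_αK g' J
  haveI : IsIso ((αK g).app (((Scheme.Modules.pushforward f).mapHomotopyCategory _).obj (qX.obj J))) :=
    isIso_αK g (((Scheme.Modules.pushforward f).mapHomologicalComplex _).obj J)
  haveI : IsIso (DerivedCategory.Qh.map (qX'.map φ)) :=
    (NatIso.isIso_map_iff (DerivedCategory.quotientCompQhIso X'.Modules) φ).2
      (isIso_Q_map _ hφ)
  have h₁ : IsIso (DerivedCategory.Qh.map (qS'.map (τ ≫ P'.map φ))) :=
    (NatIso.isIso_map_iff (DerivedCategory.quotientCompQhIso S'.Modules) _).2 (isIso_Q_map _ hc)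
  let b : DerivedCategory.Qh.obj (qS'.obj (P'.obj (G'.obj J))) ⟶
      (DCoh.Rpush f').obj (DerivedCategory.Qh.obj (qX'.obj (G'.obj J))) :=
    (βK f').app (((Scheme.Modules.pullback g').mapHomotopyCategory _).obj (qX.obj J))
  have hn : b ≫ (DCoh.Rpush f').map (DerivedCategory.Qh.map (qX'.map φ)) =
      DerivedCategory.Qh.map (qS'.map (P'.map φ)) ≫ (βK f').app (qX'.obj I) :=
    ((βK f').naturality (qX'.map φ)).symm
  have h₂ : IsIso (DerivedCategory.Qh.map (qS'.map τ) ≫ b) := by
    refine @IsIso.of_isIso_comp_right _ _ _ _ _ _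
      ((DCoh.Rpush f').map (DerivedCategory.Qh.map (qX'.map φ))) inferInstance ?_
    rw [Category.assoc, hn, ← Category.assoc, ← Functor.map_comp, ← Functor.map_comp]
    exact IsIso.comp_isIso' h₁ inferInstance
  have h := hθ J
  have h₃ : IsIso ((DCoh.Lpull g).map ((βK f).app (qX.obj J)) ≫
      θ.app (DerivedCategory.Qh.obj (qX.obj J)) ≫ (DCoh.Rpush f').map ((αK g').app (qX.obj J))) :=
    (congrArg (fun t => IsIso t) h).mpr (IsIso.comp_isIso' inferInstance h₂)
  haveI h₄ := @IsIso.of_isIso_comp_left _ _ _ _ _ ((DCoh.Lpull g).map ((βK f).app (qX.obj J)))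
    (θ.app (DerivedCategory.Qh.obj (qX.obj J)) ≫ (DCoh.Rpush f').map ((αK g').app (qX.obj J)))
    inferInstance h₃
  exact @IsIso.of_isIso_comp_right _ _ _ _ _ _
    ((DCoh.Rpush f').map ((αK g').app (qX.obj J))) inferInstance h₄

theorem isKInjective_extend {B : Type*} [Category B] [Abelian B] (a : ℤ) (K : CochainComplex B ℕ)
    [∀ n, Injective (K.X n)] :
    CochainComplex.IsKInjective (K.extend (ComplexShape.embeddingUpIntGE a)) := by
  let e := ComplexShape.embeddingUpIntGE a
  haveI : CochainComplex.IsStrictlyGE (K.extend e) a := inferInstance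
  haveI : ∀ n, Injective ((K.extend e).X n) := fun n => by
    by_cases hn : ∃ i, e.f i = n
    · obtain ⟨i, hi⟩ := hn
      exact Injective.of_iso (K.extendXIso e hi).symm inferInstance
    · exact IsZero.injective (HomologicalComplex.isZero_extend_X _ _ _ (by simpa using hn))
  exact CochainComplex.isKInjective_of_injective _ a

include hθ in
/-- The case of a sheaf placed in one degree. -/
theorem isIso_single [HasInjectiveResolutions X.Modules] [HasInjectiveResolutions X'.Modules]
    (a : ℤ) (M : X.Modules) (hbc : ∀ k, IsIso (CohBC.bcQ f g f' g' w k M)) :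
    IsIso (θ.app ((DerivedCategory.singleFunctor X.Modules a).obj M)) := by
  let e := ComplexShape.embeddingUpIntGE a
  let R := injectiveResolution M
  let R' := injectiveResolution ((Scheme.Modules.pullback g').obj M)
  obtain ⟨φ₀, hφ₀, hc₀⟩ := exists_quasiIso_resolution f g f' g' w M hbc
  haveI := isKInjective_extend a R.cocomplex
  haveI := isKInjective_extend a R'.cocomplex
  let J : CochainComplex X.Modules ℤ := R.cocomplex.extend e
  let G' := Scheme.Modules.pullback g'
  let P' := Scheme.Modules.pushforward f'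
  let m₁ := TriCat.mapExtendIso G' e R.cocomplex
  let φ : (G'.mapHomologicalComplex (ComplexShape.up ℤ)).obj J ⟶ R'.cocomplex.extend e :=
    m₁.hom ≫ extendMap φ₀ e
  have hφ : QuasiIso φ := by
    haveI := hφ₀
    haveI : QuasiIso (extendMap φ₀ e) := inferInstance
    infer_instance
  have key : IsIso (θ.app (DerivedCategory.Qh.obj ((HomotopyCategory.quotient X.Modules _).obj J))) := by
    refine isIso_of_quasiIso hθ J _ φ hφ ?_
    let τ := (NatTrans.mapHomologicalComplex (tauNat f g f' g' w) (ComplexShape.up ℤ)).app J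
    let c₀ := (NatTrans.mapHomologicalComplex (tauNat f g f' g' w) (ComplexShape.up ℕ)).app R.cocomplex ≫
      (P'.mapHomologicalComplex (ComplexShape.up ℕ)).map φ₀
    let L := ((Scheme.Modules.pullback g).mapHomologicalComplex (ComplexShape.up ℤ)).mapIso
      (TriCat.mapExtendIso (Scheme.Modules.pushforward f) e R.cocomplex) ≪≫
      TriCat.mapExtendIso (Scheme.Modules.pullback g) e _
    have h : (τ ≫ (P'.mapHomologicalComplex (ComplexShape.up ℤ)).map φ) ≫
        (TriCat.mapExtendIso P' e R'.cocomplex).hom = L.hom ≫ extendMap c₀ e := by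
      have hn := natTrans_mapExtendIso e (Scheme.Modules.pushforward f) (Scheme.Modules.pullback g) G' P'
        (tauNat f g f' g' w) R.cocomplex
      simp only [φ, Functor.map_comp, Category.assoc]
      rw [TriCat.mapExtendIso_hom_naturality]
      erw [reassoc_of% hn]
      simp only [L, Iso.trans_hom, Functor.mapIso_hom, Category.assoc]
      refine congrArg _ (congrArg _ ?_)
      exact (extendMap_comp _ _ e).symm
    haveI : QuasiIso c₀ := hc₀
    haveI : QuasiIso (extendMap c₀ e) := inferInstance
    haveI : QuasiIso ((τ ≫ (P'.mapHomologicalComplex (ComplexShape.up ℤ)).map φ) ≫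
        (TriCat.mapExtendIso P' e R'.cocomplex).hom) := by
      rw [h]
      infer_instance
    exact quasiIso_of_comp_right _ (TriCat.mapExtendIso P' e R'.cocomplex).hom
  let i : (DerivedCategory.singleFunctor X.Modules a).obj M ≅
      DerivedCategory.Qh.obj ((HomotopyCategory.quotient X.Modules _).obj J) := by
    haveI := R.quasiIso
    haveI : QuasiIso (extendMap R.ι e) := inferInstance
    exact (DerivedCategory.singleFunctorIsoCompQ X.Modules a).app M ≪≫
      DerivedCategory.Q.mapIso (extendSingleIso e M 0 a (by simp [e])).symm ≪≫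
      asIso (DerivedCategory.Q.map (extendMap R.ι e)) ≪≫
      ((DerivedCategory.quotientCompQhIso X.Modules).app J).symm
  exact (NatTrans.isIso_app_iff_of_iso θ i).2 key

end Groth.Agent.DerBC7
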